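/- Simple groups of order `4 p^a q^b` and `3 p^a q^b` (row S4501), from Gorenstein–Walter. -/
import Cfsg.Agent.H45.SelfC
import Cfsg.Agent.S0204
import Cfsg.Agent.S0494
import Cfsg.Agent.S3331
import Cfsg.Agent.H2.PrimeCore
import Cfsg.Agent.H88.Moebius
import Cfsg.Agent.H87.Simple

set_option autoImplicit false

namespace H45
open Cfsg Subgroup

universe u

/-- The text of row S0483. -/
def GWText : Prop :=
  ∀ {X : Type u} [Group X] [Finite X] [Group.IsPerfect X] (S : Sylow 2 X) (n : ℕ) (_ : 2 ≤ n)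
    (_ : Nonempty ((S : Subgroup X) ≃* DihedralGroup n)),
    (∃ (F : Type) (_ : Field F) (_ : Fintype F), Odd (Fintype.card F) ∧ 3 < Fintype.card F ∧
        Nonempty (X ⧸ Cfsg.oddCore X ≃* Matrix.ProjectiveSpecialLinearGroup (Fin 2) F)) ∨
      Nonempty (X ⧸ Cfsg.oddCore X ≃* alternatingGroup (Fin 7))

theorem not_three_coprime {x y z p q a b : ℕ} (hp : p.Prime) (hq : q.Prime) (hx : x ≠ 1)
    (hy : y ≠ 1) (hz : z ≠ 1) (hxy : x.Coprime y) (hxz : x.Coprime z) (hyz : y.Coprime z)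
    (h : x * y * z ∣ p ^ a * q ^ b) : False := by
  have key : ∀ w : ℕ, w ≠ 1 → w ∣ x * y * z → p ∣ w ∨ q ∣ w := fun w hw hd => by
    obtain ⟨s, hs, hsw⟩ := Nat.exists_prime_and_dvd hw
    rcases (Nat.Prime.dvd_mul hs).1 (hsw.trans (hd.trans h)) with h1 | h1
    · exact Or.inl ((Nat.prime_dvd_prime_iff_eq hs hp).1 (hs.dvd_of_dvd_pow h1) ▸ hsw)
    · exact Or.inr ((Nat.prime_dvd_prime_iff_eq hs hq).1 (hs.dvd_of_dvd_pow h1) ▸ hsw)
  have no : ∀ {s v w : ℕ}, s.Prime → v.Coprime w → s ∣ v → s ∣ w → False :=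
    fun hs hc h1 h2 => hs.one_lt.ne' (Nat.eq_one_of_dvd_coprimes hc h1 h2)
  rcases key x hx ⟨y * z, by ring⟩ with h1 | h1 <;> rcases key y hy ⟨x * z, by ring⟩ with h2 | h2 <;>
    rcases key z hz ⟨x * y, by ring⟩ with h3 | h3 <;>
    first
      | exact no hp hxy h1 h2 | exact no hq hxy h1 h2 | exact no hp hxz h1 h3
      | exact no hq hxz h1 h3 | exact no hp hyz h2 h3 | exact no hq hyz h2 h3

theorem eq_five_of_card {r p q a b : ℕ} (hp : p.Prime) (hq : q.Prime) (hr : Odd r) (h3 : 3 < r)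
    (h : r * (r ^ 2 - 1) = 8 * (p ^ a * q ^ b)) : r = 5 := by
  obtain ⟨k, rfl⟩ := hr
  have h1 : (2 * k + 1) ^ 2 - 1 = 4 * (k * (k + 1)) := by
    apply Nat.sub_eq_of_eq_add; ring
  rw [h1] at h
  have cop : ∀ {x y : ℕ} (u v : ℤ), u * x + v * y = 1 → x.Coprime y := fun u v e =>
    Nat.isCoprime_iff_coprime.1 ⟨u, v, e⟩
  rcases Nat.even_or_odd' k with ⟨j, rfl | rfl⟩
  · by_contra hne
    refine not_three_coprime (x := 4 * j + 1) (y := j) (z := 2 * j + 1) (a := a) (b := b) hp hq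
      (by omega) (by omega) (by omega) (cop 1 (-4) (by push_cast; ring))
      (cop (-1) 2 (by push_cast; ring)) (cop (-2) 1 (by push_cast; ring)) (Dvd.intro 1 ?_)
    apply Nat.eq_of_mul_eq_mul_left (show 0 < 8 by norm_num)
    rw [← h]; ring
  · refine (not_three_coprime (x := 4 * j + 3) (y := 2 * j + 1) (z := j + 1) (a := a) (b := b) hp hq
      (by omega) (by omega) (by omega) (cop 1 (-2) (by push_cast; ring))
      (cop (-1) 4 (by push_cast; ring)) (cop (-1) 2 (by push_cast; ring)) (Dvd.intro 1 ?_)).elim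
    apply Nat.eq_of_mul_eq_mul_left (show 0 < 8 by norm_num)
    rw [← h]; ring

variable {G : Type u} [Group G] [Finite G]

/-- A non-cyclic simple group of order `4 m`, `m` odd, is `PSL(2, r)`. -/
theorem psl_of_card_four (GW : GWText.{u}) [IsSimpleGroup G] (hG : ¬ IsCyclic G) {m : ℕ}
    (hm : Odd m) (h : Nat.card G = 4 * m) :
    ∃ (F : Type) (_ : Field F) (_ : Fintype F), Odd (Fintype.card F) ∧ 3 < Fintype.card F ∧
        Nonempty (G ≃* Matrix.ProjectiveSpecialLinearGroup (Fin 2) F) := by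
  have hns := not_solvable_of_simple hG
  obtain ⟨E, hE⟩ := Cfsg.Agent.S0204.result hG
  have hm0 : m ≠ 0 := by rintro rfl; simp at hm
  have hf : (Nat.card G).factorization 2 = 2 := by
    rw [h, Nat.factorization_mul (by norm_num) hm0, show 4 = 2 ^ 2 by norm_num,
      Nat.prime_two.factorization_pow]
    simp [Nat.factorization_eq_zero_of_not_dvd (Odd.not_two_dvd_nat hm)]
  let S : Sylow 2 G := Sylow.ofCard E (by rw [hf, hE.card_four]; norm_num)
  have : Group.IsPerfect G := ⟨(Normal.eq_bot_or_eq_top inferInstance).resolve_left fun e => by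
    refine hns ⟨⟨1, ?_⟩⟩
    rw [derivedSeries_one, e]⟩
  have hO : oddCore G = ⊥ := (Normal.eq_bot_or_eq_top inferInstance).resolve_right fun e => by
    have := H2.odd_card_oddCore G
    rw [e, card_top, h] at this
    exact absurd this (by rw [Nat.not_odd_iff_even]; exact ⟨2 * m, by ring⟩)
  have e : G ≃* G ⧸ oddCore G :=
    ((QuotientGroup.quotientMulEquivOfEq hO).trans QuotientGroup.quotientBot).symm
  have hK : IsKleinFour (S : Subgroup G) := hE
  rcases GW S 2 le_rfl IsKleinFour.nonempty_mulEquiv with ⟨F, _, _, h1, h2, ⟨f⟩⟩ | ⟨⟨f⟩⟩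
  · exact ⟨F, _, _, h1, h2, ⟨e.trans f⟩⟩
  · have := Nat.card_congr (e.trans f).toEquiv
    rw [h, nat_card_alternatingGroup] at this
    simp only [Nat.card_eq_fintype_card, Fintype.card_fin, Nat.factorial] at this
    obtain ⟨k, rfl⟩ := hm
    omega

theorem alt5_of_card_four (GW : GWText.{u}) [IsSimpleGroup G] (hG : ¬ IsCyclic G) {p q a b : ℕ}
    (hp : p.Prime) (hq : q.Prime) (h : Nat.card G = 4 * p ^ a * q ^ b) :
    Nonempty (G ≃* alternatingGroup (Fin 5)) := by
  have hns := not_solvable_of_simple hG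
  have p2 : p ≠ 2 := by
    rintro rfl
    exact hns (Cfsg.Agent.S0144.result 2 q (a + 2) b hp hq (by rw [h]; ring))
  have q2 : q ≠ 2 := by
    rintro rfl
    exact hns (Cfsg.Agent.S0144.result p 2 a (b + 2) hp hq (by rw [h]; ring))
  obtain ⟨F, _, _, h1, h2, ⟨f⟩⟩ := psl_of_card_four GW hG (m := p ^ a * q ^ b)
    ((hp.odd_of_ne_two p2).pow.mul (hq.odd_of_ne_two q2).pow) (by rw [h]; ring)
  have h3 := H88.two_mul_card_psl_two h1
  rw [← Nat.card_congr f.toEquiv] at h3
  have h5 := eq_five_of_card (a := a) (b := b) hp hq h1 h2 (by rw [← h3, h]; ring)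
  rw [h5] at h3
  exact Cfsg.Agent.S0494.result (by omega)

theorem of_card_three [IsSimpleGroup G] (hG : ¬ IsCyclic G) {p q a b : ℕ}
    (hp : p.Prime) (hq : q.Prime) (hpq : p ≠ q) (h : Nat.card G = 3 * p ^ a * q ^ b) :
    Nonempty (G ≃* alternatingGroup (Fin 5)) ∨
      Nonempty (G ≃* Matrix.ProjectiveSpecialLinearGroup (Fin 2) (ZMod 7)) := by
  have hns := not_solvable_of_simple hG
  have p3 : p ≠ 3 := by
    rintro rfl
    exact hns (Cfsg.Agent.S0144.result 3 q (a + 1) b hp hq (by rw [h]; ring))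
  have q3 : q ≠ 3 := by
    rintro rfl
    exact hns (Cfsg.Agent.S0144.result p 3 a (b + 1) hp hq (by rw [h]; ring))
  have : Fact (Nat.Prime 3) := ⟨Nat.prime_three⟩
  obtain ⟨x, hx⟩ := exists_prime_orderOf_dvd_card' (G := G) 3 (by rw [h, mul_assoc]; exact ⟨_, rfl⟩)
  have hc := centralizer_eq_zpowers_three (a := a) (b := b) hp hq Nat.prime_three hpq p3 q3
    (by rw [h]; ring) hx
  have quot : ∀ N : Subgroup G, ∀ [N.Normal], Group.IsSolvable N → Nonempty (G ≃* G ⧸ N) :=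
    fun N hN hs => by
      have hb : N = ⊥ := hN.eq_bot_or_eq_top.resolve_right fun e => by
        subst e
        exact hns (solvable_of_surjective (f := (⊤ : Subgroup G).subtype) fun g => ⟨⟨g, trivial⟩, rfl⟩)
      exact ⟨((QuotientGroup.quotientMulEquivOfEq hb).trans QuotientGroup.quotientBot).symm⟩
  rcases Cfsg.Agent.S3331.result (zpowers x) (by rw [Nat.card_zpowers, hx])
    (Eq.trans (by rw [zpowers_eq_closure, centralizer_closure]) hc) with
    ⟨N, hN, h1, -, h2⟩ | ⟨N, hN, h1, -, ⟨f⟩⟩ | h1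
  · obtain ⟨e⟩ := quot N inferInstance
    exfalso
    rcases h2 with h2 | ⟨⟨f⟩⟩
    · exact hG (isCyclic_of_prime_card ((Nat.card_congr e.toEquiv).trans h2))
    · refine hns (Cfsg.Agent.S0144.result 2 3 1 1 Nat.prime_two Nat.prime_three ?_)
      rw [Nat.card_congr (e.trans f).toEquiv, Nat.card_perm]
      simp [Nat.factorial]
  · obtain ⟨e⟩ := quot N (Group.isSolvable_of_comm fun a b => h1.is_comm.comm a b)
    exact Or.inl ⟨e.trans f⟩
  · exact Or.inr h1

theorem s4501 (GW : GWText.{u}) [IsSimpleGroup G] (hna : ∃ x y : G, x * y ≠ y * x) (p q a b : ℕ)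
    (hp : p.Prime) (hq : q.Prime) (hpq : p ≠ q) :
    (Nat.card G = 4 * p ^ a * q ^ b → Nonempty (G ≃* alternatingGroup (Fin 5))) ∧
    (Nat.card G = 3 * p ^ a * q ^ b → Nonempty (G ≃* alternatingGroup (Fin 5)) ∨
      Nonempty (G ≃* Matrix.ProjectiveSpecialLinearGroup (Fin 2) (ZMod 7))) := by
  have hG : ¬ IsCyclic G := fun h => by
    obtain ⟨x, y, hxy⟩ := hna
    exact hxy (IsCyclic.commGroup.mul_comm x y)
  exact ⟨alt5_of_card_four GW hG hp hq, of_card_three hG hp hq hpq⟩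

end H45
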