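import Cfsg.Agent.H14.CBSpec
import Cfsg.Agent.H14.FEKit

/-! # S1308, tower CB, step Same. -/

set_option autoImplicit false

namespace H45.CBSame

open Cfsg Subgroup MulAction H14 H98 H1.Gold H31.S2 H14.GC H14.FE H14.NF H14.CB
open scoped commutatorElement

universe u

variable {G : Type u} [Group G]

theorem el_cj {E : Subgroup G} (h : El E) (g : G) : El (cj g E) := fun a ha => by
  have e := h _ (mem_cj.1 ha)
  calc a * a = g * ((g⁻¹ * a * g) * (g⁻¹ * a * g)) * g⁻¹ := by group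
    _ = 1 := by rw [e]; group

theorem el_two {E : Subgroup G} (h : El E) : IsPGroup 2 E :=
  isPGroup_iff_forall.2 fun x hx => ⟨1, by rw [pow_one, pow_two]; exact h x hx⟩

theorem jobX : JSame.{u} := by
  intro G _ _ Q E h Q₁ T P l Q₂ T₂ ⟨g₂, hQ₂, hT₂⟩ hne hc ⟨a, ha, ha1, haE⟩
  haveI : Fact (Nat.Prime 2) := ⟨Nat.prime_two⟩
  obtain ⟨g₁, hQ₁, hT₁⟩ := l.col.p2
  have elT : El T := hT₁ ▸ el_cj h.el g₁
  have elT₂ : El T₂ := hT₂ ▸ el_cj h.el g₂
  have TQ : T ≤ Q₁ := by rw [hT₁, hQ₁]; exact cj_mono _ h.le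
  have TQ₂ : T₂ ≤ Q₂ := by rw [hT₂, hQ₂]; exact cj_mono _ h.le
  have hTE : T ≤ nor E := le_normalizer_of_le_centralizer l.col.comm
  obtain ⟨r, hr, t, ht, rfl⟩ := (mem_sup_right_norm hTE).1 haE
  have t1 : t ≠ 1 := by
    rintro rfl
    refine h.ti 1 g₂ (by rw [cj_one, ← hQ₂]; exact hne.symm) (r * 1) ⟨?_, hQ₂ ▸ TQ₂ ha⟩
      ⟨ha1, elT₂ _ ha⟩
    rw [cj_one, mul_one]
    exact h.le hr
  obtain ⟨y, hy, hyr⟩ := l.fu t ht t1 r hr
  have ti : t⁻¹ = t := inv_eq_of_mul_eq_one_right (elT t ht)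
  have hrt : r * t = t * r := mem_centralizer_iff.1 (l.col.comm ht) r hr
  have e : y⁻¹⁻¹ * t * y⁻¹ = r * t := by
    rw [hrt, ← hyr, commutatorElement_def, ti, inv_inv]
    calc y * t * y⁻¹ = (t * t) * y * t * y⁻¹ := by rw [elT t ht, one_mul]
      _ = _ := by group
  have tT0 : t ∈ cj y⁻¹ T₂ := mem_cj.2 (e ▸ ha)
  have hQ0 : cj y⁻¹ Q₂ = Q₁ := by
    by_contra k
    rw [hQ₂, hQ₁, cj_cj] at k
    refine h.ti _ _ k t ⟨?_, hQ₁ ▸ TQ ht⟩ ⟨t1, elT t ht⟩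
    rw [← cj_cj, ← hQ₂]
    exact cj_mono _ TQ₂ tT0
  have hyN : y ∈ nor (E ⊔ T) := by
    refine mem_normalizer_of_cj_le ?_
    rw [cj_sup, cj_eq_self (le_normalizer_of_le_centralizer (l.pg.le.trans inf_le_right) hy)]
    refine sup_le le_sup_left ?_
    rintro _ ⟨s, hs, rfl⟩
    have e1 : (MulAut.conj y).toMonoidHom s = (s⁻¹)⁻¹ * ⁅s⁻¹, y⁆ := by
      simp only [MulEquiv.toMonoidHom_eq_coe, MonoidHom.coe_coe, MulAut.conj_apply,
        commutatorElement_def]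
      group
    rw [e1]
    exact (E ⊔ T).mul_mem (mem_sup_right (T.inv_mem (T.inv_mem hs)))
      (mem_sup_left (l.pg.cm _ (T.inv_mem hs) y hy))
  have hc0 : cj y⁻¹ T₂ ≤ cen (E ⊔ T) := by
    have := cj_mono y⁻¹ hc
    rwa [cj_centralizer, cj_eq_self (inv_mem hyN)] at this
  obtain ⟨d, hd, d2⟩ := four_exists_inv h.four
  have hEN : cen E ≤ nor Q := fun x hx => by
    have := h.cen_le 1 d (by rw [cj_one]; exact h.le hd) d2
      (mem_centralizer_singleton_iff.2 (mem_centralizer_iff.1 hx d hd).symm)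
    rwa [cj_one] at this
  have hU := h.exc Q E Q₁ T l.col (T ⊔ cj y⁻¹ T₂)
    (sup_le (le_inf TQ (l.col.comm.trans hEN)) (le_inf (hQ0 ▸ cj_mono _ TQ₂)
      ((hc0.trans (centralizer_anti le_sup_left)).trans hEN)))
    ((el_two elT).to_sup_of_normal_left' (isPGroup_cj _ (el_two elT₂))
      (le_normalizer_of_le_centralizer (hc0.trans (centralizer_anti le_sup_right)))) le_sup_left
  have h0 : cj y⁻¹ T₂ ≤ E ⊔ T := (le_sup_right.trans hU).trans le_sup_right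
  exact (le_cj_iff.2 h0).trans (cj_eq_self hyN).le

end H45.CBSame
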