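/- Search procedures for degrees and involution columns of blocks of defect one. -/
import Cfsg.Agent.Base

set_option autoImplicit false

namespace H45.MN

/-- evaluate a natural number first -/
def fN {β : Type} (n : ℕ) (k : ℕ → β) : β := Nat.casesOn n (k 0) fun m => k m.succ

theorem fN_eq {β : Type} (n : ℕ) (k : ℕ → β) : fN n k = k n := by cases n <;> rfl

/-- evaluate an integer first -/
def fZ {β : Type} (z : ℤ) (k : ℤ → β) : β :=
  Int.casesOn z (fun n => fN n fun m => k (Int.ofNat m)) fun n => fN n fun m => k (Int.negSucc m)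

theorem fZ_eq {β : Type} (z : ℤ) (k : ℤ → β) : fZ z k = k z := by
  cases z <;> simp only [fZ, fN_eq]

/-- evaluate a list of integers first -/
def fL {β : Type} : List ℤ → (List ℤ → β) → β
  | [], k => k []
  | z :: L, k => fZ z fun w => fL L fun M => k (w :: M)

theorem fL_eq {β : Type} (L : List ℤ) (k : List ℤ → β) : fL L k = k L := by
  induction L generalizing k with
  | nil => rfl
  | cons z L ih => rw [fL, fZ_eq, ih]

/-- the square of an integer as a natural number -/
def s2 (u : ℤ) : ℕ := Nat.mul u.natAbs u.natAbs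

theorem s2_cast (u : ℤ) : (s2 u : ℤ) = u * u := by simp [s2]

/-- sum of the squares -/
def ss (U : List ℤ) : ℕ := (U.map s2).sum

/-- one step of a search: `u` is too large or the continuation holds -/
noncomputable def stp (f : ℕ → ℤ → List ℤ → Bool) (r : ℕ) (s : ℤ) (acc : List ℤ) (u : ℤ) : Bool :=
  Bool.rec true (fN (Nat.sub r (s2 u)) fun r' => fZ (Int.add s u) fun s' => f r' s' (u :: acc))
    (Nat.ble (s2 u) r)

theorem stp_spec {f : ℕ → ℤ → List ℤ → Bool} {r : ℕ} {s : ℤ} {acc : List ℤ} {u : ℤ}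
    (h : stp f r s acc u = true) (hu : s2 u ≤ r) : f (r - s2 u) (s + u) (u :: acc) = true := by
  rw [stp, Nat.ble_eq_true_of_le hu, fN_eq, fZ_eq] at h
  exact h

theorem rec_and {a b : Bool} (h : (Bool.rec false a b : Bool) = true) : b = true ∧ a = true := by
  cases b <;> simp_all

theorem rec_imp {a b : Bool} (h : (Bool.rec true a b : Bool) = true) (hb : b = true) :
    a = true := by
  subst hb; exact h

/-- `P` holds on all decreasing lists of length `k` from `X` with bounded sum of squares
(reversed onto the accumulator) -/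
noncomputable def srt (P : ℕ → ℤ → List ℤ → Bool) (k : ℕ) :
    List ℤ → ℕ → ℤ → List ℤ → Bool :=
  Nat.rec (fun _ => P) (fun _ ih X r s acc =>
    List.rec true (fun d X' ih' => Bool.rec false ih' (stp (ih (d :: X')) r s acc d)) X) k

theorem srt_spec {P : ℕ → ℤ → List ℤ → Bool} (D : List ℤ) : ∀ (X : List ℤ) (r : ℕ) (s : ℤ)
    (acc : List ℤ), X.Pairwise (· > ·) → D.Pairwise (· ≥ ·) → (∀ d ∈ D, d ∈ X) → ss D ≤ r →
    srt P D.length X r s acc = true → P (r - ss D) (s + D.sum) (D.reverse ++ acc) = true := by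
  induction D with
  | nil => intro X r s acc _ _ _ _ h; simpa [ss] using show P r s acc = true from h
  | cons d D ih =>
    intro X r s acc hX hD hm hr h
    induction X with
    | nil => exact absurd (hm d (by simp)) (by simp)
    | cons x X ihX =>
      have h : stp (srt P D.length (x :: X)) r s acc x = true ∧
        srt P (d :: D).length X r s acc = true := rec_and h
      have hs : ss (d :: D) = s2 d + ss D := rfl
      rw [List.pairwise_cons] at hX hD
      by_cases e : d = x
      · subst e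
        have := ih (d :: X) (r - s2 d) (s + d) (d :: acc) (List.pairwise_cons.2 hX) hD.2
          (fun y hy => hm y (by simp [hy])) (by omega) (stp_spec h.1 (by omega))
        simpa [hs, Nat.sub_sub, add_assoc] using this
      · have h1 : d ∈ X := (List.mem_cons.1 (hm d (by simp))).resolve_left e
        refine ihX hX.2 (fun y hy => (List.mem_cons.1 (hm y hy)).resolve_left fun e' => ?_) h.2
        have h2 := hX.1 d h1
        rcases List.mem_cons.1 hy with e'' | e''
        · omega
        · have := hD.1 y e''; omega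

/-- `List.all` -/
noncomputable def al {α : Type} (L : List α) (p : α → Bool) : Bool :=
  List.rec true (fun a _ ih => Bool.rec false ih (p a)) L

theorem al_spec {α : Type} {L : List α} {p : α → Bool} (h : al L p = true) {a : α} (ha : a ∈ L) :
    p a = true := by
  induction L with
  | nil => simp at ha
  | cons b L ih =>
    rcases List.mem_cons.1 ha with rfl | ha
    exacts [(rec_and h).1, ih (rec_and h).2 ha]

/-- `P` holds on all choices from the candidate lists with bounded sum of squares
(reversed onto the accumulator) -/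
noncomputable def col (P : ℕ → ℤ → List ℤ → Bool) (T : List (List ℤ)) :
    ℕ → ℤ → List ℤ → Bool :=
  List.rec P (fun C _ ih r s acc => al C (stp ih r s acc)) T

theorem col_spec {P : ℕ → ℤ → List ℤ → Bool} {U : List ℤ} {T : List (List ℤ)}
    (h : List.Forall₂ (fun u C => u ∈ C) U T) : ∀ (r : ℕ) (s : ℤ) (acc : List ℤ), ss U ≤ r →
    col P T r s acc = true → P (r - ss U) (s + U.sum) (U.reverse ++ acc) = true := by
  induction h with
  | nil => intro r s acc _ h; simpa [ss] using show P r s acc = true from h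
  | @cons u C U T h1 _ ih =>
    intro r s acc hr h
    have hs : ss (u :: U) = s2 u + ss U := rfl
    simpa [hs, Nat.sub_sub, add_assoc] using ih (r - s2 u) (s + u) (u :: acc) (by omega)
      (stp_spec (al_spec (L := C) h h1) (by omega))

/-- a bound for the square root -/
def rt (c : ℕ) : ℕ :=
  fN (2 ^ (c.log2 / 2)) fun g => fN ((c + g * g) / (2 * g) + 1) fun g => (c + g * g) / (2 * g)

theorem le_rt {c a : ℕ} (h : a * a ≤ c) : a ≤ rt c := by
  simp only [rt, fN_eq]
  generalize (c + 2 ^ (c.log2 / 2) * 2 ^ (c.log2 / 2)) / (2 * 2 ^ (c.log2 / 2)) = g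
  rw [Nat.le_div_iff_mul_le (by omega)]
  nlinarith [sq_nonneg ((a : ℤ) - (g + 1))]

/-- the divisors -/
def dvs (n : ℕ) : List ℕ :=
  let S := (List.range' 1 (rt n)).filter fun d => n % d == 0 && Nat.ble (d * d) n
  S ++ (S.filter fun d => d * d != n).reverse.map fun d => n / d

theorem mem_dvs {n d : ℕ} (hn : n ≠ 0) (h : d ∣ n) : d ∈ dvs n := by
  have key : ∀ d, d ∣ n → d * d ≤ n → d ∈ (List.range' 1 (rt n)).filter
      fun d => n % d == 0 && Nat.ble (d * d) n := fun d h h' => by
    have h0 := Nat.pos_of_dvd_of_pos h (Nat.pos_of_ne_zero hn)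
    have := le_rt h'
    simp only [List.mem_filter, List.mem_range'_1, Bool.and_eq_true, beq_iff_eq, Nat.ble_eq]
    exact ⟨⟨h0, by omega⟩, Nat.mod_eq_zero_of_dvd h, h'⟩
  obtain ⟨k, rfl⟩ := h
  by_cases h1 : d * d ≤ d * k
  · exact List.mem_append_left _ (key d (dvd_mul_right d k) h1)
  · have hd : 0 < d := Nat.pos_of_ne_zero fun e => hn (by simp [e])
    have hk : 0 < k := Nat.pos_of_ne_zero fun e => hn (by simp [e])
    have h2 : k < d := by nlinarith
    refine List.mem_append_right _ (List.mem_map.2 ⟨k, ?_, Nat.mul_div_cancel _ hk⟩)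
    rw [List.mem_reverse, List.mem_filter]
    exact ⟨key k (dvd_mul_left k d) (by nlinarith), bne_iff_ne.2 (by nlinarith)⟩

/-- conditions on the signed value `u` of an involution with centralizer order `c` -/
def ok (N : ℕ) (qs : List ℕ) (p c : ℕ) (d u : ℤ) : Bool :=
  Nat.blt u.natAbs d.natAbs && (d - u).natAbs % (if c % p = 0 then 4 * p else 4) == 0 &&
    (N / c * u.natAbs) % d.natAbs == 0 &&
    qs.all fun q => c % q != 0 || d.natAbs % q != 0 || u.natAbs % q == 0

/-- the candidates -/
def cand (N : ℕ) (qs : List ℕ) (p c : ℕ) (d : ℤ) : List ℤ :=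
  fN (min (rt c) d.natAbs) fun B => fZ ((d + B) % 4 - B) fun u0 =>
    ((List.range (B / 2 + 1)).map fun k : ℕ => u0 + 4 * k).filter fun u =>
      Nat.ble (s2 u) c && ok N qs p c d u

theorem mem_cand {N : ℕ} {qs : List ℕ} {p c : ℕ} {d u : ℤ} (h : ok N qs p c d u = true)
    (hc : s2 u ≤ c) : u ∈ cand N qs p c d := by
  simp only [cand, fN_eq, fZ_eq, List.mem_filter, List.mem_map, List.mem_range, Bool.and_eq_true,
    Nat.ble_eq]
  refine ⟨?_, hc, h⟩
  have h1 := le_rt hc
  simp only [ok, Bool.and_eq_true, Nat.blt_eq, beq_iff_eq] at h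
  have h2 : (d - u).natAbs % 4 = 0 := by
    have := h.1.1.2
    split_ifs at this
    · exact Nat.mod_eq_zero_of_dvd ((dvd_mul_right 4 p).trans (Nat.dvd_of_mod_eq_zero this))
    · exact this
  have h3 := h.1.1.1
  have h4 : u.natAbs ≤ min (rt c) d.natAbs := le_min h1 h3.le
  generalize min (rt c) d.natAbs = B at h4
  exact ⟨((u + B) / 4).toNat, by omega, by omega⟩

/-- the candidates for signed degrees, decreasing -/
def xs (N p m : ℕ) (flt : ℕ → Bool) : List ℤ :=
  let S := (dvs m).filter fun d => Nat.blt 1 d && Nat.ble (d * d) N && flt d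
  ((S.filter fun d => d % p == 1).reverse.map fun d : ℕ => (d : ℤ)) ++
    (S.filter fun d => (d + 1) % p == 0).map fun d : ℕ => -(d : ℤ)

/-- what is known about the signed degrees of the non-exceptional characters -/
structure Dg (N p n e : ℕ) (flt : ℕ → Bool) (D : List ℤ) : Prop where
  len : D.length + 1 = e
  srt : D.Pairwise (· ≤ ·)
  mem : ∀ d ∈ D, d.natAbs ∣ n * e ∧ (p : ℤ) ∣ d - 1 ∧ 1 < d.natAbs ∧ flt d.natAbs = true
  dv : (1 + D.sum).natAbs ∣ n * e
  md : (p : ℤ) ∣ 1 + D.sum - e
  ne : (1 + D.sum).natAbs ≠ 1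
  fl : flt (1 + D.sum).natAbs = true
  sum : 1 + ss D + (p - 1) / e * s2 (1 + D.sum) ≤ N

/-- `P` holds for all possible degree lists -/
noncomputable def degs (N p n e : ℕ) (flt : ℕ → Bool) (P : List ℤ → Bool) : Bool :=
  fN (n * e) fun m => fN ((p - 1) / e) fun t => fL (xs N p m flt) fun X =>
    decide (X.Pairwise (· > ·)) && srt (fun r dE D => Bool.rec true
      ((dE - e).natAbs % p != 0 || dE.natAbs == 1 || !flt dE.natAbs || Nat.blt r (t * s2 dE) || P D)
      (Nat.beq (Nat.mod m dE.natAbs) 0)) (e - 1) X (N - 1) 1 []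

theorem s2_le_ss {D : List ℤ} {d : ℤ} (h : d ∈ D) : s2 d ≤ ss D :=
  List.single_le_sum (fun _ _ => Nat.zero_le _) _ (List.mem_map_of_mem h)

theorem ss_reverse (D : List ℤ) : ss D.reverse = ss D := by simp [ss, List.sum_reverse]

theorem degs_spec {N p n e : ℕ} {flt : ℕ → Bool} {P : List ℤ → Bool} {D : List ℤ} (hp : 1 < p)
    (h0 : n * e ≠ 0) (H : Dg N p n e flt D) (h : degs N p n e flt P = true) : P D = true := by
  simp only [degs, fN_eq, fL_eq, fZ_eq, Bool.and_eq_true, decide_eq_true_eq] at h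
  have hs := H.sum
  have hl : e - 1 = D.reverse.length := by have := H.len; rw [List.length_reverse]; omega
  rw [hl] at h
  have := srt_spec D.reverse _ (N - 1) 1 [] h.1 (List.pairwise_reverse.2 H.srt) (fun d hd => ?_)
    (by rw [ss_reverse]; omega) h.2
  · rw [List.sum_reverse, ss_reverse] at this
    have := rec_imp this (Nat.beq_eq.mpr (Nat.mod_eq_zero_of_dvd H.dv))
    simp only [List.reverse_reverse, List.append_nil, Bool.or_eq_true, bne_iff_ne, ne_eq,
      beq_iff_eq, Bool.not_eq_true', Nat.blt_eq, or_assoc] at this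
    exact (((this.resolve_left
      (not_not.2 (Nat.mod_eq_zero_of_dvd (Int.natCast_dvd.1 H.md)))).resolve_left
      H.ne).resolve_left (by simp [H.fl])).resolve_left (by omega)
  · rw [List.mem_reverse] at hd
    obtain ⟨h1, ⟨k, h2⟩, h3, h4⟩ := H.mem d hd
    have h5 := s2_le_ss hd
    have h6 : d.natAbs ∈ (dvs (n * e)).filter fun d => Nat.blt 1 d && Nat.ble (d * d) N && flt d := by
      simp only [List.mem_filter, Bool.and_eq_true, Nat.blt_eq, Nat.ble_eq]
      exact ⟨mem_dvs h0 h1, ⟨h3, (show s2 d ≤ N by omega)⟩, h4⟩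
    rcases le_total 0 d with h7 | h7
    · refine List.mem_append_left _ (List.mem_map.2 ⟨d.natAbs, ?_, by omega⟩)
      rw [List.mem_reverse, List.mem_filter]
      refine ⟨h6, beq_iff_eq.2 ?_⟩
      have : d.natAbs = 1 + p * k.natAbs := by
        have : (0 : ℤ) ≤ k := by
          by_contra h8
          have : (p : ℤ) * k ≤ p * (-1) := mul_le_mul_of_nonneg_left (by omega) (by omega)
          omega
        zify; rw [abs_of_nonneg h7, abs_of_nonneg this]; linarith
      rw [this, Nat.add_mul_mod_self_left, Nat.mod_eq_of_lt hp]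
    · refine List.mem_append_right _ (List.mem_map.2 ⟨d.natAbs, ?_, by omega⟩)
      rw [List.mem_filter]
      refine ⟨h6, beq_iff_eq.2 (Nat.mod_eq_zero_of_dvd (Int.natCast_dvd_natCast.1 ⟨-k, ?_⟩))⟩
      push_cast; rw [abs_of_nonpos h7]; linarith

/-- the character sum of the class multiplication formula -/
def fm (N : ℕ) (D U : List ℤ) : ℤ :=
  N + (List.zipWith (fun u d : ℤ => u * u * (N / d)) U D).sum -
    (1 + U.sum) * (1 + U.sum) * (N / (1 + D.sum))

/-- what is known about the signed values at an involution with centralizer order `c` -/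
structure Cl (N : ℕ) (qs : List ℕ) (p e v : ℕ) (D : List ℤ) (c : ℕ) (U : List ℤ) : Prop where
  okU : List.Forall₂ (fun u d => ok N qs p c d u = true) U D
  okE : ok N qs p c (1 + D.sum) (1 + U.sum) = true
  sum : 1 + ss U + (p - 1) / e * s2 (1 + U.sum) ≤ c
  frm : ∃ k ≤ v, (e % 2 = 1 → k = 0) ∧ ((p * k * c * (p * k * c) : ℕ) : ℤ) = p * v * fm N D U

/-- `P` holds for all possible columns -/
noncomputable def cols (N : ℕ) (qs : List ℕ) (p e v : ℕ) (D : List ℤ) (c : ℕ)
    (P : List ℤ → Bool) : Bool :=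
  fZ (1 + D.sum) fun dE => fN dE.natAbs fun a => fN (N / c) fun h => fN ((p - 1) / e) fun t =>
    col (fun r uE A => Bool.rec true (Nat.blt r (t * s2 uE) || !ok N qs p c dE uE ||
      fL A.reverse fun U => fZ (p * v * fm N D U) fun F => (if e % 2 = 1 then F != 0 else
        F.natAbs % (p * c * (p * c)) != 0 ||
          (List.range (v + 1)).all fun k => ((p * k * c * (p * k * c) : ℕ) : ℤ) != F) || P U)
      (Nat.beq (Nat.mod (Nat.mul h uE.natAbs) a) 0))
    (D.map (cand N qs p c)) (c - 1) 1 []

theorem cols_spec {N : ℕ} {qs : List ℕ} {p e v : ℕ} {D : List ℤ} {c : ℕ} {U : List ℤ}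
    {P : List ℤ → Bool} (H : Cl N qs p e v D c U) (h : cols N qs p e v D c P = true) :
    P U = true := by
  simp only [cols, fZ_eq, fL_eq, fN_eq] at h
  have hs := H.sum
  have h1 : List.Forall₂ (fun u C => u ∈ C) U (D.map (cand N qs p c)) := by
    rw [List.forall₂_map_right_iff]
    refine List.forall₂_of_length_eq_of_get H.okU.length_eq fun i h1 h2 =>
      mem_cand (H.okU.get h1 h2) ?_
    have := s2_le_ss (List.get_mem U ⟨i, h1⟩)
    omega
  have h2 := H.okE
  simp only [ok, Bool.and_eq_true, beq_iff_eq] at h2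
  have := rec_imp (col_spec h1 _ _ _ (by omega) h) (Nat.beq_eq.mpr h2.1.2)
  simp only [List.append_nil, List.reverse_reverse, H.okE,
    Bool.not_true, Bool.false_or, Bool.or_false, Bool.or_eq_true, Nat.blt_eq, or_assoc] at this
  refine (this.resolve_left (by omega)).resolve_left ?_
  obtain ⟨k, h2, h3, h4⟩ := H.frm
  rw [← h4]
  split_ifs with h5
  · simp [h3 h5]
  · simp only [Int.natAbs_natCast, Bool.or_eq_true, bne_iff_ne, List.all_eq_true, not_or, not_not]
    exact ⟨Nat.mod_eq_zero_of_dvd ⟨k * k, by ring⟩, fun h => h k (List.mem_range.2 (by omega)) rfl⟩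

/-- the pairs (degree, value) of the non-trivial characters of a block -/
def uns (D U : List ℤ) (t : ℕ) : List (ℕ × ℤ) :=
  List.zipWith (fun u d : ℤ => (d.natAbs, d.sign * u)) U D ++
    List.replicate t ((1 + D.sum).natAbs, (1 + D.sum).sign * (1 + U.sum))

/-- the members of `A` with degree prime to `q` occur in `B` -/
def sub (q : ℕ) (A B : List (ℕ × ℤ)) : Bool :=
  A.all fun x => x.1 % q == 0 || Nat.ble (A.count x) (B.count x)

theorem sub_map {α : Type*} {q : ℕ} {A B : List α} (f : α → ℕ × ℤ) (hA : A.Nodup)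
    (h : ∀ a ∈ A, ¬ q ∣ (f a).1 → a ∈ B) : sub q (A.map f) (B.map f) = true := by
  simp only [sub, List.all_eq_true, Bool.or_eq_true, beq_iff_eq, Nat.ble_eq]
  intro x _
  refine or_iff_not_imp_left.2 fun h1 => ?_
  simp only [List.count, List.countP_map]
  simp only [List.countP_eq_length_filter]
  refine (List.subperm_of_subset (hA.filter _) fun a ha => ?_).length_le
  simp only [List.mem_filter, Function.comp, beq_iff_eq] at ha ⊢
  exact ⟨h a ha.1 (by rw [ha.2]; exact fun h2 => h1 (Nat.mod_eq_zero_of_dvd h2)), ha.2⟩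

/-- sum of the squares of the values -/
def sq (A : List (ℕ × ℤ)) : ℕ := (A.map fun x => s2 x.2).sum

/-- the members with degree divisible by `q` -/
def dv (q : ℕ) (A : List (ℕ × ℤ)) : List (ℕ × ℤ) := A.filter fun x => x.1 % q == 0

/-- the possible `(n, e, v)` -/
def cas (N p : ℕ) : List (ℕ × ℕ × ℕ) :=
  ((dvs (N / p)).filter fun n => n % p == 1 && n != 1).flatMap fun n =>
    ((dvs (p - 1)).filter fun e => e != 1 && (N / p / n) % e == 0).map fun e =>
      (n, e, N / p / n / e)

theorem mem_cas {N p n e v : ℕ} (hp : 1 < p) (h0 : N ≠ 0) (h : N = n * e * p * v)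
    (h1 : n % p = 1) (h2 : n ≠ 1) (h3 : e ∣ p - 1) (h4 : e ≠ 1) : (n, e, v) ∈ cas N p := by
  have a1 : N / p = n * (e * v) := by
    rw [h, show n * e * p * v = n * (e * v) * p by ring, Nat.mul_div_cancel _ (by omega)]
  have a0 : n * (e * v) ≠ 0 := fun h5 => h0 (by rw [h, show n * e * p * v = n * (e * v) * p by
    ring, h5, zero_mul])
  have a2 : N / p / n = e * v := by
    rw [a1, Nat.mul_div_cancel_left _ (Nat.pos_of_ne_zero (left_ne_zero_of_mul a0))]
  simp only [cas, List.mem_flatMap, List.mem_filter, List.mem_map, Bool.and_eq_true, beq_iff_eq,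
    bne_iff_ne]
  refine ⟨n, ⟨mem_dvs (a1 ▸ a0) (a1 ▸ dvd_mul_right _ _), h1, h2⟩, e,
    ⟨mem_dvs (by omega) h3, h4, by rw [a2, Nat.mul_mod_right]⟩, ?_⟩
  rw [a2, Nat.mul_div_cancel_left _
    (Nat.pos_of_ne_zero (left_ne_zero_of_mul (right_ne_zero_of_mul a0)))]

/-- the possible centralizer orders of an involution in the center of a Sylow subgroup of the
complement -/
def cset (N p e v : ℕ) : List ℕ := (dvs N).filter fun c => (dvs (p * e * v)).any fun k =>
  k % (p * Nat.gcd v 1024) == 0 && c % k == 0 && (c / k) % p == 1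

theorem mem_cset {N p e v c k : ℕ} (h0 : N ≠ 0) (h0' : p * e * v ≠ 0) (hc : c ∣ N)
    (h1 : k ∣ p * e * v) (h2 : p * Nat.gcd v 1024 ∣ k) (h3 : k ∣ c) (h4 : c / k % p = 1) :
    c ∈ cset N p e v := by
  simp only [cset, List.mem_filter, List.any_eq_true, Bool.and_eq_true, beq_iff_eq]
  exact ⟨mem_dvs h0 hc, k, mem_dvs h0' h1,
    ⟨Nat.mod_eq_zero_of_dvd h2, Nat.mod_eq_zero_of_dvd h3⟩, h4⟩

end H45.MN
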