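/- Numerical data for simple groups of order `443520`. -/
import Cfsg.Agent.H45.MN

set_option autoImplicit false

namespace H45.MN

/-- the degrees in the principal `11`-block -/
def R11 : List (List ℤ) := [
  [-560, 45, 144, 210], [-560, 144, 210, 210], [-384, -252, 210, 320], [-384, -252, 320, 320],
  [-384, -32, -10, 320], [-384, -32, 45, 210], [-384, -32, 210, 210], [-384, -21, -21, 320],
  [-384, -21, 12, 56], [-384, -21, 12, 320], [-384, -21, 56, 320], [-384, -21, 144, 320],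
  [-384, -21, 210, 210], [-384, -21, 210, 320], [-384, -10, 12, 45], [-384, -10, 45, 320],
  [-384, -10, 144, 144], [-384, 12, 45, 320], [-384, 12, 56, 210], [-384, 12, 56, 320],
  [-384, 45, 56, 210], [-384, 45, 144, 210], [-384, 45, 144, 320], [-384, 45, 210, 320],
  [-252, -120, -21, 56], [-252, -120, -21, 320], [-252, -120, -10, 45], [-252, -120, 45, 320],
  [-252, -120, 56, 210], [-252, -120, 56, 320], [-252, -32, -32, -21], [-252, -32, -32, 210],
  [-252, -32, -32, 320], [-252, -32, -21, 144], [-252, -32, -21, 320], [-252, -32, 45, 210],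
  [-252, -32, 144, 144], [-252, -21, -10, 210], [-252, -21, 12, 320], [-252, -21, 56, 56],
  [-252, -21, 56, 144], [-252, -21, 56, 210], [-252, -21, 144, 144], [-252, -21, 144, 320],
  [-252, -10, 12, 144], [-252, -10, 45, 56], [-252, -10, 45, 144], [-252, -10, 45, 210],
  [-252, -10, 56, 210], [-252, 12, 45, 210], [-252, 12, 45, 320], [-252, 45, 45, 56],
  [-252, 45, 56, 144], [-252, 45, 56, 210], [-252, 56, 56, 144], [-120, -120, -21, 320],
  [-120, -120, -10, 144], [-120, -120, 45, 210], [-120, -120, 45, 320], [-120, -32, -21, 12],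
  [-120, -32, -21, 144], [-120, -32, -10, 56], [-120, -32, 12, 144], [-120, -21, -21, 56],
  [-120, -21, -10, -10], [-120, -21, -10, 45], [-120, -21, -10, 144], [-120, -21, -10, 210],
  [-120, -21, 12, 56], [-120, -21, 12, 144], [-120, -21, 12, 320], [-120, -21, 56, 56],
  [-120, -21, 56, 144], [-120, -21, 56, 210], [-120, -21, 210, 210], [-120, -10, -10, 144],
  [-120, -10, 12, 12], [-120, -10, 12, 45], [-120, -10, 45, 56], [-120, -10, 45, 144],
  [-120, -10, 45, 210], [-120, 12, 45, 56], [-120, 12, 56, 56], [-120, 45, 45, 45],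
  [-120, 45, 56, 144], [-120, 45, 56, 210], [-120, 45, 144, 210], [-32, -32, -32, -10],
  [-32, -32, -21, -21], [-32, -32, -21, 12], [-32, -32, -21, 56], [-32, -32, -21, 144],
  [-32, -32, -21, 210], [-32, -32, -10, 45], [-32, -32, 12, 45], [-32, -32, 12, 56],
  [-32, -32, 45, 144], [-32, -32, 45, 210], [-32, -21, -21, 45], [-32, -21, -10, -10],
  [-32, -21, -10, 56], [-32, -21, 12, 12], [-32, -21, 12, 45], [-32, -21, 12, 56],
  [-32, -21, 12, 320], [-32, -21, 56, 56], [-32, -10, -10, 45], [-32, -10, -10, 56],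
  [-32, -10, 12, 45], [-32, -10, 45, 56], [-32, 12, 12, 12], [-32, 45, 56, 56],
  [-32, 45, 56, 210], [-21, -21, -21, -10], [-21, -21, -21, 56], [-21, -21, -10, 45],
  [-21, -21, -10, 56], [-21, -21, 12, 45], [-21, -21, 45, 56], [-21, -10, -10, 12],
  [-21, -10, -10, 45], [-21, -10, -10, 56], [-21, -10, -10, 320], [-21, -10, 12, 12],
  [-21, -10, 12, 144], [-21, -10, 12, 210], [-21, -10, 45, 45], [-21, 12, 12, 12],
  [-21, 12, 12, 56], [-21, 12, 56, 144], [-21, 12, 144, 144], [-21, 45, 45, 56],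
  [-21, 45, 45, 210], [-10, -10, -10, 45], [-10, -10, 12, 12], [-10, 12, 12, 45],
  [-10, 12, 45, 144], [-10, 45, 45, 45], [12, 12, 45, 56], [12, 12, 45, 210], [45, 45, 45, 56],
  [45, 45, 45, 144]]

/-- the degrees in the principal `7`-block, self-centralizing case -/
def R7 : List (List ℤ) := [
  [-160, -6], [-160, 99], [-132, 99], [-132, 120], [-132, 176], [-55, -6], [-55, 22], [-55, 99],
  [-55, 120], [-6, -6], [22, 22], [99, 120]]

/-- the degrees in the principal `5`-block, self-centralizing case -/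
def R5 : List (List ℤ) := [
  [-264, -154, 21], [-264, -154, 396], [-264, -144, 11], [-264, -144, 176], [-264, -144, 231],
  [-264, -144, 396], [-264, 11, 21], [-264, 11, 126], [-264, 11, 231], [-264, 11, 396],
  [-264, 16, 16], [-264, 16, 231], [-264, 21, 66], [-264, 21, 176], [-264, 21, 231],
  [-264, 21, 396], [-264, 66, 176], [-264, 126, 126], [-264, 176, 231], [-154, -144, -99],
  [-154, -144, 66], [-154, -144, 231], [-154, -144, 396], [-154, -99, 21], [-154, -99, 126],
  [-154, -99, 231], [-154, -99, 396], [-154, -44, 21], [-154, -44, 176], [-154, 6, 21],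
  [-154, 6, 126], [-154, 11, 16], [-154, 11, 126], [-154, 16, 126], [-154, 21, 66],
  [-154, 21, 126], [-154, 21, 176], [-154, 21, 231], [-154, 21, 396], [-154, 66, 66],
  [-154, 66, 231], [-154, 126, 126], [-144, -144, 56], [-144, -144, 231], [-144, -99, 11],
  [-144, -99, 66], [-144, -99, 176], [-144, -99, 231], [-144, -99, 396], [-144, -44, -44],
  [-144, -44, 11], [-144, -44, 176], [-144, -44, 231], [-144, 6, 11], [-144, 6, 126],
  [-144, 11, 66], [-144, 11, 126], [-144, 11, 176], [-144, 11, 231], [-144, 11, 396],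
  [-144, 21, 56], [-144, 21, 66], [-144, 56, 66], [-144, 56, 231], [-144, 66, 66],
  [-144, 66, 176], [-144, 66, 231], [-144, 176, 231], [-99, -99, 21], [-99, -99, 176],
  [-99, -44, 16], [-99, -44, 126], [-99, 11, 21], [-99, 11, 66], [-99, 11, 231], [-99, 16, 16],
  [-99, 16, 66], [-99, 16, 126], [-99, 21, 21], [-99, 21, 56], [-99, 21, 66], [-99, 21, 176],
  [-99, 21, 231], [-99, 66, 176], [-99, 126, 126], [-44, -44, 21], [-44, -44, 66],
  [-44, -44, 231], [-44, 6, 16], [-44, 6, 21], [-44, 11, 11], [-44, 11, 16], [-44, 11, 21],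
  [-44, 11, 176], [-44, 16, 16], [-44, 16, 21], [-44, 16, 126], [-44, 21, 66], [-44, 21, 176],
  [6, 11, 126], [6, 16, 21], [6, 21, 126], [11, 11, 21], [11, 16, 16], [11, 16, 126],
  [11, 21, 66], [11, 21, 231], [11, 66, 66], [11, 126, 126], [16, 16, 66], [16, 16, 231],
  [21, 21, 56], [21, 56, 66], [21, 66, 66], [21, 66, 176]]

/-- columns of an involution centralizing an element of order `7` -/
def T7 : List (ℕ × List (ℕ × List ℤ × List ℤ)) := [
  (448, [
    (1, [-440, -55, -55, 99, 120], [8, 1, 1, -13, 8]),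
    (1, [-440, -55, -55, 99, 330], [8, 1, 1, -13, -6]),
    (1, [-440, -55, -55, 120, 330], [8, 1, 1, 8, -6]),
    (1, [-440, -55, 99, 120, 330], [8, 1, -13, 8, -6]),
    (1, [-55, -55, -55, -55, 99], [1, 1, 1, 1, -13]),
    (1, [-55, -55, -55, -55, 120], [1, 1, 1, 1, 8]),
    (1, [-55, -55, -55, 99, 120], [1, 1, 1, -13, 8]),
    (1, [-55, -55, 99, 120, 330], [1, 1, -13, 8, -6]), (2, [-55, 99], [1, -13]),
    (2, [-55, 120], [1, 8])]),
  (672, [
    (1, [-132, -132, -55, 22, 120], [-20, 8, 1, -6, 8]),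
    (1, [-132, -132, -55, 22, 120], [8, -20, 1, -6, 8]),
    (1, [-132, -132, -55, 22, 176], [-20, 8, 1, -6, 8]),
    (1, [-132, -132, -55, 22, 176], [8, -20, 1, -6, 8]),
    (1, [-132, -132, -55, 120, 176], [-20, 8, 1, 8, 8]),
    (1, [-132, -132, -55, 120, 176], [8, -20, 1, 8, 8]),
    (1, [-132, -132, 22, 120, 176], [-20, 8, -6, 8, 8]),
    (1, [-132, -132, 22, 120, 176], [8, -20, -6, 8, 8]),
    (1, [-132, -55, 22, 120, 176], [-20, 1, -6, 8, 8]),
    (1, [-132, -55, 22, 120, 176], [8, 1, -6, 8, 8])]),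
  (1344, [
    (1, [-132, -132, -55, 22, 120], [-20, 8, 1, -6, 8]),
    (1, [-132, -132, -55, 22, 120], [8, -20, 1, -6, 8]),
    (1, [-132, -132, -55, 22, 176], [-20, 8, 1, -6, 8]),
    (1, [-132, -132, -55, 22, 176], [8, -20, 1, -6, 8]),
    (1, [-132, -132, -55, 99, 99], [-20, -20, 1, 15, 15]),
    (1, [-132, -132, -55, 99, 120], [-20, -20, 1, 15, 8]),
    (1, [-132, -132, -55, 120, 176], [-20, 8, 1, 8, 8]),
    (1, [-132, -132, -55, 120, 176], [8, -20, 1, 8, 8]),
    (1, [-132, -132, 22, 120, 176], [-20, 8, -6, 8, 8]),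
    (1, [-132, -132, 22, 120, 176], [8, -20, -6, 8, 8]),
    (1, [-132, -132, 99, 99, 120], [-20, -20, 15, 15, 8]),
    (1, [-132, -55, 22, 120, 176], [-20, 1, -6, 8, 8]),
    (1, [-132, -55, 22, 120, 176], [8, 1, -6, 8, 8]),
    (1, [-132, -55, 99, 99, 120], [-20, 1, 15, 15, 8]), (2, [-55, 120], [1, 8])]),
  (8064, [
    (1, [-132, -55, 22, 22, 22], [36, 29, -6, -6, -6]),
    (1, [-132, -55, 22, 22, 120], [36, 29, -6, -6, -48]),
    (1, [-132, 22, 22, 22, 120], [36, -6, -6, -6, -48]),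
    (1, [-55, 22, 22, 22, 120], [29, -6, -6, -6, -48])])]

/-- columns of an involution centralizing an element of order `5` -/
def T5 : List (ℕ × List (ℕ × List ℤ × List ℤ)) := [
  (120, [
    (2, [21], [1])]),
  (160, [
    (1, [-154, -99, 21], [6, 1, 1]), (1, [-154, -99, 231], [6, 1, -9]),
    (1, [-154, 21, 231], [6, 1, -9]), (1, [-99, 21, 231], [1, 1, -9])]),
  (210, [
    (2, [11], [-9])]),
  (240, [
    (2, [21], [1])]),
  (320, [
    (1, [-154, -99, 21], [-14, 1, 1]), (1, [-154, -99, 21], [6, 1, 1]),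
    (1, [-154, -99, 126], [-14, 1, 6]), (1, [-154, -99, 126], [6, 1, -14]),
    (1, [-154, -99, 126], [6, 1, 6]), (1, [-154, -99, 231], [-14, 1, 11]),
    (1, [-154, -99, 231], [6, 1, -9]), (1, [-154, 21, 231], [-14, 1, 11]),
    (1, [-154, 21, 231], [6, 1, -9]), (1, [-154, 126, 126], [-14, 6, 6]),
    (1, [-154, 126, 126], [6, -14, 6]), (1, [-154, 126, 126], [6, 6, -14]),
    (1, [-99, 21, 231], [1, 1, -9]), (1, [-99, 21, 231], [1, 1, 11]),
    (1, [-99, 126, 126], [1, -14, 6]), (1, [-99, 126, 126], [1, 6, -14]),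
    (1, [-99, 126, 126], [1, 6, 6]), (2, [11], [-9]), (2, [21], [1])]),
  (420, [
    (2, [11], [-9])]),
  (480, [
    (2, [11], [-9])]),
  (560, [
    (1, [-144, -99, 66], [16, 1, -14]), (1, [-144, -99, 176], [16, 1, -4]),
    (1, [-144, -44, 11], [16, -4, -9]), (1, [-144, -44, 176], [16, -4, -4]),
    (1, [-144, 11, 176], [16, -9, -4]), (1, [-144, 66, 176], [16, -14, -4]),
    (1, [-99, 66, 176], [1, -14, -4]), (1, [-44, 11, 176], [-4, -9, -4]), (2, [11], [-9])]),
  (640, [
    (2, [21], [1])]),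
  (840, [
    (2, [11], [-9])]),
  (960, [
    (2, [11], [-9]), (2, [21], [1])]),
  (1120, [
    (1, [-144, -99, 66], [-4, 21, 6]), (1, [-144, -99, 66], [16, -19, -14]),
    (1, [-144, -99, 66], [16, 1, -14]), (1, [-144, -99, 176], [-4, 21, -24]),
    (1, [-144, -99, 176], [16, -19, 16]), (1, [-144, -99, 176], [16, 1, -4]),
    (1, [-144, -44, 11], [16, -4, -9]), (1, [-144, -44, 176], [16, -4, -4]),
    (1, [-144, 11, 176], [16, -9, -4]), (1, [-144, 66, 176], [-4, 6, -24]),
    (1, [-144, 66, 176], [16, -14, -4]), (1, [-144, 66, 176], [16, -14, 16]),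
    (1, [-99, 66, 176], [-19, -14, 16]), (1, [-99, 66, 176], [1, -14, -4]),
    (1, [-99, 66, 176], [21, 6, -24]), (1, [-44, 11, 176], [-4, -9, -4]), (2, [11], [-9])]),
  (1680, [
    (1, [-144, -44, 11], [-24, 16, -9]), (1, [-144, -44, 176], [-24, 16, 16]),
    (1, [-144, 11, 176], [-24, -9, 16]), (1, [-44, 11, 176], [16, -9, 16]), (2, [11], [-9])]),
  (1920, [
    (1, [-264, 11, 21], [-24, -9, 1]), (1, [-264, 11, 231], [-24, -9, 31]),
    (1, [-264, 21, 66], [-24, -19, 26]), (1, [-264, 21, 176], [-24, -19, 16]),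
    (1, [-264, 21, 231], [-24, 1, 31]), (1, [-264, 66, 176], [-24, 26, 16]),
    (1, [-154, -99, 21], [6, 21, 1]), (1, [-154, -99, 231], [6, 21, -29]),
    (1, [-154, 21, 66], [-14, -19, 6]), (1, [-154, 21, 66], [-14, -19, 26]),
    (1, [-154, 21, 66], [26, 1, -14]), (1, [-154, 21, 231], [6, 1, -29]),
    (1, [-154, 66, 66], [-14, 6, 26]), (1, [-154, 66, 66], [-14, 26, 6]),
    (1, [-154, 66, 66], [26, -14, -14]), (1, [-99, 21, 231], [21, 1, -29]),
    (1, [-44, -44, 21], [-4, -4, -19]), (1, [-44, -44, 21], [16, 16, 1]),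
    (1, [-44, -44, 66], [-4, -4, 26]), (1, [-44, -44, 66], [16, 16, -34]),
    (1, [-44, 21, 66], [-4, -19, 26]), (1, [-44, 21, 66], [16, 1, -34]),
    (1, [11, 21, 231], [-9, 1, 31]), (1, [21, 66, 66], [-19, 6, 26]),
    (1, [21, 66, 66], [-19, 26, 6]), (1, [21, 66, 66], [1, -14, -14]),
    (1, [21, 66, 176], [-19, 26, 16]), (2, [11], [-9]), (2, [21], [-19]), (2, [21], [1])]),
  (2240, [
    (1, [-264, -144, 11], [16, -24, -9]), (1, [-264, -144, 396], [16, -24, 16]),
    (1, [-264, 11, 396], [16, -9, 16]), (1, [-144, -99, 66], [16, -19, -14]),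
    (1, [-144, -99, 66], [16, -19, 26]), (1, [-144, -99, 66], [16, 21, -14]),
    (1, [-144, -99, 176], [16, -19, -24]), (1, [-144, -99, 176], [16, -19, 16]),
    (1, [-144, -99, 176], [16, 21, -24]), (1, [-144, -44, 11], [-24, 16, -9]),
    (1, [-144, -44, 11], [16, 16, -9]), (1, [-144, -44, 176], [-24, 16, 16]),
    (1, [-144, -44, 176], [16, 16, -24]), (1, [-144, 11, 176], [-24, -9, 16]),
    (1, [-144, 11, 176], [16, -9, -24]), (1, [-144, 11, 396], [-24, -9, 16]),
    (1, [-144, 66, 176], [16, -14, -24]), (1, [-144, 66, 176], [16, -14, 16]),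
    (1, [-144, 66, 176], [16, 26, -24]), (1, [-99, 66, 176], [-19, -14, 16]),
    (1, [-99, 66, 176], [-19, 26, -24]), (1, [-99, 66, 176], [21, -14, -24]),
    (1, [-44, 11, 176], [16, -9, -24]), (1, [-44, 11, 176], [16, -9, 16]), (2, [11], [-9])]),
  (3360, [
    (1, [-144, -44, 11], [-24, 16, -9]), (1, [-144, -44, 11], [36, -4, -9]),
    (1, [-144, -44, 176], [-24, 16, 16]), (1, [-144, -44, 176], [36, -4, -24]),
    (1, [-144, 11, 176], [-24, -9, 16]), (1, [-144, 11, 176], [36, -9, -24]),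
    (1, [-44, 11, 176], [-4, -9, -24]), (1, [-44, 11, 176], [16, -9, 16]), (2, [11], [-9])]),
  (4480, [
    (1, [-144, -99, 66], [16, -19, -14]), (1, [-144, -99, 176], [16, -19, 16]),
    (1, [-144, 66, 176], [16, -14, 16]), (1, [-99, 66, 176], [-19, -14, 16])]),
  (6720, [
    (1, [-144, -99, 66], [-24, -39, 6]), (1, [-144, -99, 176], [-24, -39, 56]),
    (1, [-144, -44, 11], [-24, -24, -9]), (1, [-144, -44, 11], [-24, 16, -9]),
    (1, [-144, -44, 176], [-24, -24, 56]), (1, [-144, -44, 176], [-24, 16, 16]),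
    (1, [-144, 11, 176], [-24, -9, 16]), (1, [-144, 11, 176], [-24, -9, 56]),
    (1, [-144, 66, 176], [-24, 6, 56]), (1, [-99, 66, 176], [-39, 6, 56]),
    (1, [-44, 11, 176], [-24, -9, 56]), (1, [-44, 11, 176], [16, -9, 16]), (2, [11], [-9])]),
  (13440, [
    (2, [11], [-9])])]

/-- the `11`-block if an involution centralizes an element of order `7` -/
def S7 : List (List ℤ) := [
  [-120, -32, 12, 144], [-120, -21, -10, 45], [-120, -21, 210, 210], [-120, -10, 12, 12],
  [-120, -10, 12, 45], [-120, -10, 45, 144], [-120, 12, 56, 56]]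

/-- the `11`-block if an involution centralizes an element of order `5` -/
def S5 : List (List ℤ) := [
  [-384, -21, -21, 320], [-384, -21, 144, 320], [-120, -21, -21, 56], [-120, -21, 56, 210],
  [-32, -32, -21, -21], [-21, -21, -21, 56], [-21, -21, 45, 56]]

/-- degrees in a block with even complement are large -/
def big (p v d : ℕ) : Bool := v % 2 == 1 || Nat.blt (2 * p) d

/-- the residues modulo `11` -/
def res (d : ℕ) : Bool := [0, 1, 5, 6, 10].contains (d % 11)

/-- membership in a table of columns -/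
def inT (T : List (ℕ × List (ℕ × List ℤ × List ℤ))) (c t : ℕ) (D U : List ℤ) : Bool :=
  T.any fun g => g.1 == c && g.2.contains (t, D, U)

/-- centralizer orders of central involutions -/
def Cz : List ℕ := [128, 384, 640, 896, 1152, 1920, 2688, 4480, 5760, 8064, 13440, 40320]

/-- matching a table of columns with the `11`-block -/
noncomputable def kT (T : List (ℕ × List (ℕ × List ℤ × List ℤ)))
    (Q : ℕ → List ℤ → ℕ × List ℤ × List ℤ → Bool) : Bool := R11.all fun B => T.all fun g =>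
  let F := g.2.filter fun x => sub 11 (uns x.2.1 x.2.1 x.1) (uns B B 2)
  F.isEmpty || cols 443520 [5, 7] 11 5 1 B g.1 fun W => F.all fun x =>
    !sub 11 (uns x.2.1 x.2.2 x.1) (uns B W 2) ||
    Nat.blt g.1 (1 + sq (uns B W 2) + sq (dv 11 (uns x.2.1 x.2.2 x.1))) || Q g.1 B x

theorem kT_spec {T : List (ℕ × List (ℕ × List ℤ × List ℤ))}
    {Q : ℕ → List ℤ → ℕ × List ℤ × List ℤ → Bool} (h : kT T Q = true) {c t : ℕ}
    {D U B W : List ℤ} (h1 : inT T c t D U = true) (h2 : B ∈ R11)
    (h3 : sub 11 (uns D D t) (uns B B 2) = true) (h4 : Cl 443520 [5, 7] 11 5 1 B c W)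
    (h5 : sub 11 (uns D U t) (uns B W 2) = true)
    (h6 : 1 + sq (uns B W 2) + sq (dv 11 (uns D U t)) ≤ c) : Q c B (t, D, U) = true := by
  simp only [inT, List.any_eq_true, Bool.and_eq_true, beq_iff_eq, List.contains_iff_mem] at h1
  obtain ⟨g, hg, rfl, h7⟩ := h1
  have h8 := (List.mem_filter (p := fun x : ℕ × List ℤ × List ℤ =>
    sub 11 (uns x.2.1 x.2.1 x.1) (uns B B 2))).2 ⟨h7, h3⟩
  have h9 := (Bool.or_eq_true _ _).mp (List.all_eq_true.1 (List.all_eq_true.1 h B h2) g hg)
  have := List.all_eq_true.1 (cols_spec h4 (h9.resolve_left fun h => by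
    rw [List.isEmpty_iff.1 h] at h8; simp at h8)) _ h8
  simpa [h5, h6.not_gt] using this

/-- the pairs of blocks for `7` and `11` -/
def PP : List (List ℤ × List ℤ) := [([-55, 99], [-21, 45, 45, 210]),
  ([-55, 120], [-252, -120, -21, 56]), ([-55, 120], [-120, -21, -21, 56]),
  ([-55, 120], [-120, -21, 56, 210]), ([-55, 120], [-120, -21, 210, 210])]

/-- the true `5`-block -/
def F5 : List (List ℤ) := [[-154, -99, 21], [-154, -99, 231], [-154, 21, 231], [-99, 21, 231]]

/-- the values at an involution -/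
def val (d : ℕ) : ℤ := (([(1, 1), (21, 5), (45, -3), (55, 7), (99, 3), (154, 10), (210, 2), (231, 7),
  (280, -8), (385, 1)] : List (ℕ × ℤ)).lookup d).getD 0

theorem mem_Cz {c : ℕ} (h : c ∣ 443520) (h1 : 128 ∣ c) (h2 : ¬ 11 ∣ c) : c ∈ Cz := by
  have : ∀ c ∈ dvs 443520, 128 ∣ c → ¬ 11 ∣ c → c ∈ Cz := by decide +kernel
  exact this c (mem_dvs (by norm_num) h) h1 h2

theorem S75 : ∀ B ∈ S7, B ∉ S5 := by decide

end H45.MN
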