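/- More search procedures: columns with prescribed values. -/
import Cfsg.Agent.H45.MN22

set_option autoImplicit false

namespace H45.MN

/-- the least square in a list -/
noncomputable def mn (C : List ℤ) : ℕ :=
  List.rec 1000000000 (fun u _ ih => fN ih fun m => min (s2 u) m) C

theorem mn_le {C : List ℤ} {u : ℤ} (h : u ∈ C) : mn C ≤ s2 u := by
  induction C with
  | nil => simp at h
  | cons w C ih =>
    have e : mn (w :: C) = min (s2 w) (mn C) := fN_eq (mn C) fun m => min (s2 w) m
    have h1 : mn (w :: C) ≤ s2 w ∧ mn (w :: C) ≤ mn C := by omega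
    rcases List.mem_cons.1 h with rfl | h
    exacts [h1.1, h1.2.trans (ih h)]

/-- `col` with the least squares of the later entries held in reserve -/
noncomputable def colR (P : ℕ → ℤ → List ℤ → Bool) (T : List (List ℤ)) :
    ℕ → ℤ → List ℤ → Bool :=
  List.rec P (fun C _ ih r s acc => fN (Nat.add r (mn C)) fun r' => al C (stp ih r' s acc)) T

theorem colR_spec {P : ℕ → ℤ → List ℤ → Bool} {U : List ℤ} {T : List (List ℤ)}
    (h : List.Forall₂ (fun u C => u ∈ C) U T) : (T.map mn).sum ≤ ss U ∧ ∀ (r : ℕ) (s : ℤ)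
    (acc : List ℤ), ss U ≤ r + (T.map mn).sum → colR P T r s acc = true →
    P (r + (T.map mn).sum - ss U) (s + U.sum) (U.reverse ++ acc) = true := by
  induction h with
  | nil => exact ⟨le_rfl, fun r s acc _ h => by simpa [ss] using show P r s acc = true from h⟩
  | @cons u C U T h1 _ ih =>
    have hs : ss (u :: U) = s2 u + ss U := rfl
    have h2 := mn_le h1
    have h3 := ih.1
    simp only [List.map_cons, List.sum_cons]
    refine ⟨by omega, fun r s acc hr h => ?_⟩
    have h : al C (stp (colR P T) (r + mn C) s acc) = true :=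
      (fN_eq (r + mn C) fun r' => al C (stp (colR P T) r' s acc)).symm.trans h
    have := ih.2 (r + mn C - s2 u) (s + u) (u :: acc) (by omega)
      (stp_spec (al_spec h h1) (by omega))
    rw [show r + mn C - s2 u + (T.map mn).sum - ss U =
      r + (mn C + (T.map mn).sum) - ss (u :: U) by omega] at this
    simpa [add_assoc] using this

/-- `P` holds for all possible columns with values allowed by `φ`, when `b` is used elsewhere -/
noncomputable def colsF (N : ℕ) (qs : List ℕ) (p e v : ℕ) (D : List ℤ) (c : ℕ)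
    (φ : ℤ → ℤ → Bool) (b : ℕ) (P : List ℤ → Bool) : Bool :=
  fZ (1 + D.sum) fun dE => fN dE.natAbs fun a => fN (N / c) fun h => fN ((p - 1) / e) fun t =>
    let T := D.map fun d => (cand N qs p c d).filter (φ d)
    fN (1 + b + (T.map mn).sum) fun m => Nat.blt c m ||
    colR (fun r uE A => Bool.rec true (Nat.blt r (t * s2 uE) || !ok N qs p c dE uE || !φ dE uE ||
      fL A.reverse fun U => fZ (p * v * fm N D U) fun F => (if e % 2 = 1 then F != 0 else
        F.natAbs % (p * c * (p * c)) != 0 ||
          (List.range (v + 1)).all fun k => ((p * k * c * (p * k * c) : ℕ) : ℤ) != F) || P U)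
      (Nat.beq (Nat.mod (Nat.mul h uE.natAbs) a) 0)) T (c - m) 1 []

theorem colsF_spec {N : ℕ} {qs : List ℕ} {p e v : ℕ} {D : List ℤ} {c : ℕ} {U : List ℤ}
    {φ : ℤ → ℤ → Bool} {b : ℕ} {P : List ℤ → Bool} (H : Cl N qs p e v D c U)
    (hφ : List.Forall₂ (fun u d => φ d u = true) U D) (hE : φ (1 + D.sum) (1 + U.sum) = true)
    (hs : 1 + ss U + (p - 1) / e * s2 (1 + U.sum) + b ≤ c)
    (h : colsF N qs p e v D c φ b P = true) : P U = true := by
  simp only [colsF, fZ_eq, fL_eq, fN_eq] at h
  have h1 : List.Forall₂ (fun u C => u ∈ C) U (D.map fun d => (cand N qs p c d).filter (φ d)) := by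
    rw [List.forall₂_map_right_iff]
    refine List.forall₂_of_length_eq_of_get H.okU.length_eq fun i h1 h2 =>
      List.mem_filter.2 ⟨mem_cand (H.okU.get h1 h2) ?_, hφ.get h1 h2⟩
    have := s2_le_ss (List.get_mem U ⟨i, h1⟩)
    omega
  have h2 := H.okE
  simp only [ok, Bool.and_eq_true, beq_iff_eq] at h2
  have h0 := fun P => colR_spec (P := P) h1
  have h5 := (h0 fun _ _ _ => true).1
  have := rec_imp ((h0 _).2 _ _ _ (by omega) (((Bool.or_eq_true _ _).mp h).resolve_left
    (by simp only [Nat.blt_eq]; omega))) (Nat.beq_eq.mpr h2.1.2)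
  simp only [List.append_nil, List.reverse_reverse, H.okE, hE,
    Bool.not_true, Bool.false_or, Bool.or_false, Bool.or_eq_true, Nat.blt_eq, or_assoc] at this
  refine (this.resolve_left (by omega)).resolve_left ?_
  obtain ⟨k, h2, h3, h4⟩ := H.frm
  rw [← h4]
  split_ifs with h5
  · simp [h3 h5]
  · simp only [Int.natAbs_natCast, Bool.or_eq_true, bne_iff_ne, List.all_eq_true, not_or, not_not]
    exact ⟨Nat.mod_eq_zero_of_dvd ⟨k * k, by ring⟩, fun h => h k (List.mem_range.2 (by omega)) rfl⟩

/-- the number of members of degree `d` -/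
def cnt (d : ℕ) (A : List (ℕ × ℤ)) : ℕ := A.countP fun x => x.1 == d

/-- if `A` holds as many members of degree `d` as the block `B`, the value is known -/
def fx (q : ℕ) (B A : List (ℕ × ℤ)) (d u : ℤ) : Bool :=
  d.natAbs % q == 0 || Nat.blt (cnt d.natAbs A) (cnt d.natAbs B) || A.contains (d.natAbs, d.sign * u)

/-- the members with degree `± r` modulo `q` agree -/
def exq (q r : ℕ) (A : List (ℕ × ℤ)) : Bool :=
  let F := A.filter fun x => x.1 % q == r || (x.1 + r) % q == 0
  F.all fun x => F.all fun y => x == y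

/-- a degree with some possible value -/
def hasC (N : ℕ) (qs : List ℕ) (p c d : ℕ) : Bool := c % p != 0 ||
  (List.range (d / (2 * p))).any fun k => fZ (d - 4 * p * (k + 1)) fun u =>
    Nat.ble (s2 u) c && ok N qs p c d u

theorem hasC_of {N : ℕ} {qs : List ℕ} {p c d : ℕ} {u : ℤ} (hp : 0 < p)
    (h : ok N qs p c d u = true) (hc : s2 u ≤ c) : hasC N qs p c d = true := by
  simp only [hasC, fZ_eq, Bool.or_eq_true, bne_iff_ne, List.any_eq_true, List.mem_range,
    Bool.and_eq_true, Nat.ble_eq]
  refine or_iff_not_imp_left.2 fun h1 => ?_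
  have h2 := h
  simp only [ok, Bool.and_eq_true, Nat.blt_eq, beq_iff_eq, if_pos (not_not.1 h1),
    Int.natAbs_natCast] at h2
  obtain ⟨k, hk⟩ := Nat.dvd_of_mod_eq_zero h2.1.1.2
  have h3 := h2.1.1.1
  obtain ⟨k, rfl⟩ : ∃ j, k = j + 1 := ⟨k - 1, by
    have : k ≠ 0 := fun e => by rw [e] at hk; omega
    omega⟩
  have h4 : u = d - 4 * p * (k + 1) := by
    have : ((4 * p * (k + 1) : ℕ) : ℤ) = d - u := by omega
    push_cast at this
    linarith
  refine ⟨k, (Nat.le_div_iff_mul_le (by omega)).2 ?_, h4 ▸ hc, h4 ▸ h⟩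
  have : 4 * p * (k + 1) = 2 * ((k + 1) * (2 * p)) := by ring
  simp only [Nat.succ_eq_add_one]
  omega

end H45.MN
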