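/- Numerical searches for simple groups of order `10200960`. -/
import Cfsg.Agent.H45.MN2

set_option autoImplicit false
set_option maxRecDepth 100000

namespace H45.MN

/-- the degrees in the principal `11`-block -/
def Q11 : List (List ℤ) := [
  [-736, -736, -230, 45], [-736, -736, 23, 1288], [-736, -736, 45, 1288], [-736, -736, 276, 1035],
  [-736, -483, -483, 45], [-736, -483, -230, 1288], [-736, -483, 23, 1035],
  [-736, -483, 45, 1035], [-736, -483, 45, 1288], [-736, -230, -230, 1035], [-736, -230, 45, 276],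
  [-736, -230, 45, 1035], [-736, -230, 45, 1288], [-736, 23, 23, 45], [-736, 23, 45, 1035],
  [-736, 23, 276, 276], [-736, 45, 276, 276], [-736, 45, 1035, 1035], [-483, -483, -483, 1288],
  [-483, -483, -230, 1035], [-483, -483, 45, 276], [-483, -483, 45, 1035], [-483, -483, 45, 1288],
  [-483, -252, 45, 45], [-483, -230, 23, 45], [-483, -230, 45, 1035], [-483, -230, 276, 276],
  [-483, 23, 23, 276], [-483, 23, 45, 276], [-483, 45, 45, 1288], [-483, 45, 276, 276],
  [-252, -230, 45, 276], [-252, 23, 23, 45], [-252, 23, 45, 45], [-252, 45, 45, 276],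
  [-230, -230, -230, 45], [-230, -230, 23, 276], [-230, -230, 45, 276], [-230, 12, 12, 45],
  [-230, 23, 23, 23], [-230, 23, 23, 45], [-230, 23, 45, 276], [-230, 45, 45, 1035],
  [-230, 45, 276, 276], [-230, 45, 276, 1288], [12, 12, 45, 45], [12, 23, 45, 45],
  [23, 23, 23, 45], [23, 23, 45, 276], [23, 23, 45, 1288], [23, 45, 276, 1035]]

/-- the degrees in the principal `5`-block -/
def Q5 : List (List ℤ) := [
  [-2024, -644, 896], [-2024, -644, 1771], [-2024, 231, 896], [-2024, 896, 896],
  [-2024, 896, 1771], [-759, -644, 506], [-759, -644, 896], [-759, 11, 11], [-759, 11, 736],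
  [-759, 506, 896], [-644, -264, 11], [-644, -264, 896], [-644, 11, 896], [-644, 506, 896],
  [-644, 896, 1771], [-264, 11, 896], [11, 11, 736], [231, 896, 896]]

/-- the residues modulo `23` -/
def r23 (d : ℕ) : Bool := [0, 1, 11, 12, 22].contains (d % 23)

theorem d7a : ((cas 10200960 7).all fun x => x.2.2 % 23 == 0 || x.2.2 % 11 != 0 ||
    degs 10200960 7 x.1 x.2.1 (fun d => big 7 x.2.2 d && r23 d) fun D => x.2.2 % 2 == 0 &&
      (cset 10200960 7 x.2.1 x.2.2).all fun c => c % 23 == 0 ||
        cols 10200960 [5, 7, 11] 7 x.2.1 x.2.2 D c fun _ => false) = true := by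
  decide +kernel

theorem d11 : ((cas 10200960 11).all fun x => x.2.2 % 23 == 0 || x.2.2 % 7 == 0 ||
    degs 10200960 11 x.1 x.2.1 (fun d => big 11 x.2.2 d && r23 d) fun D =>
      if x.2.2 = 1 then x.2.1 == 5 && Q11.contains D else x.2.2 % 2 == 0 &&
      (cset 10200960 11 x.2.1 x.2.2).all fun c => c % 23 == 0 ||
        cols 10200960 [5, 7, 11] 11 x.2.1 x.2.2 D c fun _ => false) = true := by
  decide +kernel

theorem d5 : ((cas 10200960 5).all fun x => x.2.2 % 23 == 0 || x.2.2 % 11 == 0 ||
    degs 10200960 5 x.1 x.2.1 (fun d => big 5 x.2.2 d && r23 d && res d) fun D =>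
      !exq 23 11 (uns D D (4 / x.2.1)) || if x.2.2 % 2 = 0 then
      (cset 10200960 5 x.2.1 x.2.2).all fun c => c % 23 == 0 || c % 11 == 0 ||
        cols 10200960 [5, 7, 11] 5 x.2.1 x.2.2 D c fun _ => x.2.2 % 7 == 0 && c % 7 == 0
      else x.2.2 == 3 && x.2.1 == 4 && Q5.contains D) = true := by
  decide +kernel

theorem d7 : ((cas 10200960 7).all fun x => x.2.2 % 23 == 0 || x.2.2 % 11 == 0 ||
    degs 10200960 7 x.1 x.2.1 (fun d => big 7 x.2.2 d && r23 d && res d) fun D =>
      if D = [22] then Q11.all fun B => !sub 11 (uns D D (6 / x.2.1)) (uns B B 2) ||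
        Cz.all fun c => cols 10200960 [5, 7, 11] 7 x.2.1 x.2.2 D c fun U =>
          colsF 10200960 [5, 7, 11] 11 5 1 B c (fx 11 (uns B B 2) (uns D U (6 / x.2.1))) 0
            fun _ => false
      else if x.2.2 % 2 = 0 then
        (cset 10200960 7 x.2.1 x.2.2).all fun c => c % 23 == 0 || c % 11 == 0 ||
          cols 10200960 [5, 7, 11] 7 x.2.1 x.2.2 D c fun U => x.2.2 % 5 != 0 && (c % 5 == 0 ||
            (x.2.1 == 3 && D == [-1035, 2024] && U == [-27, 8] && [2688, 4032].contains c &&
              [2, 16].contains x.2.2))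
      else x.2.2 % 5 == 0 || (x.2.2 == 1 && x.2.1 == 6 && Q11.all fun B =>
        !sub 11 (uns D D 1) (uns B B 2) || !sub 7 (uns B B 2) (uns D D 1) || Q5.all fun C =>
          !sub 11 (uns C C 1) (uns B B 2) || !sub 7 (uns C C 1) (uns D D 1))) = true := by
  decide +kernel

end H45.MN
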