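/- Involutions against the principal block of a prime dividing the group order once. -/
import Cfsg.Agent.H45.BT
import Cfsg.Agent.H45.Galois
import Cfsg.Agent.H43.M11E
import Cfsg.Agent.H87.BrEx
import Cfsg.Agent.H37.CycK

set_option autoImplicit false
set_option linter.unusedSectionVars false

namespace H45.MO
open Cfsg H28 H39 H87 Subgroup
open scoped ComplexConjugate

variable {G : Type*} [Group G] [Fintype G]

/-- The order of the centralizer. -/
noncomputable abbrev cc (a : G) : ℕ := Nat.card (centralizer ({a} : Set G))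

open Classical in
/-- The conjugates of `a` that invert `y`. -/
noncomputable def Iv (y a : G) : Finset G :=
  Finset.univ.filter fun x => IsConj a x ∧ x * y * x⁻¹ = y⁻¹

theorem mem_Iv {y a x : G} : x ∈ Iv y a ↔ IsConj a x ∧ x * y * x⁻¹ = y⁻¹ := by simp [Iv]

theorem inverts_of_mem {x y z : G} (h : x * y * x⁻¹ = y⁻¹) (hz : z ∈ zpowers y) :
    x * z * x⁻¹ = z⁻¹ := by
  obtain ⟨k, rfl⟩ := hz
  simp only
  rw [← conj_zpow, h, inv_zpow]

theorem mul_mem_Iv {y a x z : G} (hy : Odd (orderOf y)) (ha : a * a = 1) (hx : x ∈ Iv y a)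
    (hz : z ∈ zpowers y) : z * x ∈ Iv y a := by
  obtain ⟨h1, h2⟩ := mem_Iv.1 hx
  have h3 := H31.mul_self_of_isConj ha h1
  have h4 := inverts_of_mem h2 hz
  have h5 : x * (z * x) = z⁻¹ := by
    rw [← h4, ← mul_assoc, inv_eq_of_mul_eq_one_right h3]
  refine mem_Iv.2 ⟨h1.trans (H83.isConj_of_odd_orderOf_mul h3 (by
    rw [mul_assoc, h5, mul_inv_cancel]) (by
    rw [h5, orderOf_inv]; exact hy.of_dvd_nat (orderOf_dvd_of_mem_zpowers hz))), ?_⟩
  obtain ⟨k, rfl⟩ := hz
  simp only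
  rw [show y ^ k * x * y * (y ^ k * x)⁻¹ = y ^ k * (x * y * x⁻¹) * (y ^ k)⁻¹ by group, h2]
  group

theorem mul_mem_cen {y a b x x' : G} (ha : a * a = 1) (hx : x ∈ Iv y a) (hx' : x' ∈ Iv y b) :
    x * x' ∈ Cen (zpowers y) := by
  obtain ⟨h1, h2⟩ := mem_Iv.1 hx
  obtain ⟨-, h3⟩ := mem_Iv.1 hx'
  show _ ∈ centralizer _
  rw [H43.centralizer_zpowers', mem_centralizer_singleton_conj,
    show x * x' * y * (x * x')⁻¹ = x * (x' * y * x'⁻¹) * x⁻¹ by group, h3,
    show x * y⁻¹ * x⁻¹ = (x * y * x⁻¹)⁻¹ by group, h2, inv_inv]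

open Classical in
/-- The number of pairs of inverting involutions with a given product. -/
noncomputable def Nc (y a b c : G) : ℕ := ((Iv y a ×ˢ Iv y b).filter fun x => x.1 * x.2 = c).card

theorem Nc_mul {y a b c z : G} (hy : Odd (orderOf y)) (ha : a * a = 1) (hz : z ∈ zpowers y) :
    Nc y a b (z * c) = Nc y a b c := by
  classical
  refine Finset.card_nbij' (fun x => (z⁻¹ * x.1, x.2)) (fun x => (z * x.1, x.2)) ?_ ?_ ?_ ?_
  · intro x hx
    simp only [Finset.coe_filter, Finset.mem_product, Set.mem_setOf_eq] at hx ⊢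
    exact ⟨⟨mul_mem_Iv hy ha hx.1.1 (inv_mem hz), hx.1.2⟩, by rw [mul_assoc, hx.2]; group⟩
  · intro x hx
    simp only [Finset.coe_filter, Finset.mem_product, Set.mem_setOf_eq] at hx ⊢
    exact ⟨⟨mul_mem_Iv hy ha hx.1.1 hz, hx.1.2⟩, by rw [mul_assoc, hx.2]⟩
  · intro x _; simp
  · intro x _; simp

theorem prodCount_eq_Nc {y a b c : G} (ha : a * a = 1) (hb : b * b = 1) (hc : y ∈ zpowers c) :
    H43.prodCount a b c = Nc y a b c := by
  classical
  rw [H43.prodCount, Nc, Nat.card_eq_fintype_card, Fintype.card_subtype]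
  congr 1
  ext x
  simp only [Finset.mem_filter, Finset.mem_univ, true_and, Finset.mem_product, mem_Iv]
  refine ⟨fun ⟨h1, h2, h3⟩ => ⟨⟨⟨h1, ?_⟩, h2, ?_⟩, h3⟩, fun h => ⟨h.1.1.1, h.1.2.1, h.2⟩⟩
  · exact inverts_of_mem (h3 ▸ H83.left_inverts_mul (H31.mul_self_of_isConj ha h1)
      (H31.mul_self_of_isConj hb h2)) hc
  · exact inverts_of_mem (h3 ▸ H83.right_inverts_mul (H31.mul_self_of_isConj ha h1)
      (H31.mul_self_of_isConj hb h2)) hc

variable {p e t : ℕ} [hp : Fact p.Prime] {P : Sylow p G} {V : Subgroup G}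
  {X Y : Finset (IrrCharacter G)} {δ : IrrCharacter G → ℤ} {ε : ℤ}

theorem count_pairs (hC : Cpl P V) [Fintype (P : Subgroup G)] [Fintype V] (hp2 : p ≠ 2) {y a b : G}
    (hy : zpowers y = P) (ha : a * a = 1) (hb : b * b = 1) :
    (p : ℂ) * ∑ v : V, (∑ z : (P : Subgroup G), (H43.prodCount a b (z * v) : ℂ) -
      H43.prodCount a b v) = (p - 1) * ((Iv y a).card * (Iv y b).card) := by
  classical
  have hyo : orderOf y = p := by rw [← Nat.card_zpowers, hy, hC.card]
  have hodd : Odd (orderOf y) := hyo ▸ hp.out.odd_of_ne_two hp2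
  have h1 : ∀ v : V, ∑ z : (P : Subgroup G), (H43.prodCount a b (z * v) : ℂ) -
      H43.prodCount a b v = (p - 1) * Nc y a b v := fun v => by
    rw [← Finset.add_sum_erase _ _ (Finset.mem_univ 1), OneMemClass.coe_one, one_mul,
      add_sub_cancel_left, Finset.sum_congr rfl (g := fun _ => (Nc y a b v : ℂ)) fun z hz => ?_,
      Finset.sum_const, Finset.card_erase_of_mem (Finset.mem_univ _), Finset.card_univ,
      ← Nat.card_eq_fintype_card, hC.card, nsmul_eq_mul, Nat.cast_pred hp.out.pos]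
    have hz1 : (z : G) ≠ 1 := fun e => Finset.ne_of_mem_erase hz (Subtype.ext e)
    rw [prodCount_eq_Nc (y := y) ha hb (big_of_mem_cen P hC.card
      (mul_mem (le_centralizer_prime hC.card z.2) (hC.le v.2)) (hC.dvd_order z.2 hz1 v.2)
      (hy.le (mem_zpowers y))), Nc_mul hodd ha (hy.ge z.2)]
  have h2 : (Iv y a).card * (Iv y b).card = p * ∑ v : V, Nc y a b v := by
    rw [← Finset.card_product, Finset.card_eq_sum_card_fiberwise
      (f := fun x : G × G => x.1 * x.2) (t := Finset.univ.filter (· ∈ Cen (P : Subgroup G)))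
      fun x hx => by
        simp only [Finset.coe_product, Set.mem_prod, Finset.mem_coe] at hx
        simpa using hy ▸ mul_mem_cen ha hx.1 hx.2]
    refine (Finset.sum_subtype (p := (· ∈ Cen (P : Subgroup G))) (F := inferInstance) _
      (fun x => by simp)
        (fun c => Nc y a b c)).trans ?_
    rw [← hC.bij.sum_comp, Fintype.sum_prod_type_right, Finset.mul_sum]
    refine Finset.sum_congr rfl fun v _ => ?_
    rw [Finset.sum_congr rfl (g := fun _ => Nc y a b v) fun z _ => Nc_mul hodd ha (hy.ge z.2),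
      Finset.sum_const, Finset.card_univ, ← Nat.card_eq_fintype_card, hC.card, smul_eq_mul]
  simp only [h1, ← Finset.mul_sum]
  rw [← Nat.cast_mul, h2]
  push_cast
  ring

theorem sum_sI' (h : Br p e t X Y δ ε) (f : IrrCharacter G → ℂ) :
    ∑ ψ, (sI t X Y δ ε ψ : ℂ) * f ψ = t * ∑ χ ∈ X, δ χ * f χ - ε * ∑ θ ∈ Y, f θ := by
  classical
  rw [← Finset.sum_subset (Finset.subset_univ (X ∪ Y)) fun ψ _ hψ => by
    rw [Finset.mem_union, not_or] at hψ
    simp [sI, hψ.1, hψ.2], Finset.sum_union h.disj, Finset.mul_sum, Finset.mul_sum, sub_eq_add_neg,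
    ← Finset.sum_neg_distrib]
  congr 1
  · exact Finset.sum_congr rfl fun χ hχ => by simp [sI, hχ]; ring
  · exact Finset.sum_congr rfl fun χ hχ => by
      simp [sI, hχ, Finset.disjoint_right.1 h.disj hχ]

/-- The count of pairs of involutions inverting an element of order `p`. -/
theorem inv_formula (hC : Cpl P V) (hp2 : p ≠ 2)
    (h : Br p ((Cen (P : Subgroup G)).relIndex (Nor (P : Subgroup G))) t X Y δ ε) {y a b : G}
    (hy : zpowers y = P) (ha : a * a = 1) (hb : b * b = 1) {θ : IrrCharacter G} (hθ : θ ∈ Y) :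
    ((Iv y a).card * (Iv y b).card * (cc a * cc b) : ℂ) = Nat.card G * (p * Nat.card V) *
      (∑ χ ∈ X, δ χ * (χ.1 a * χ.1 b / χ.1 1) - ε * (θ.1 a * θ.1 b / θ.1 1)) := by
  classical
  cases nonempty_fintype (P : Subgroup G)
  cases nonempty_fintype V
  have h1 := count_pairs hC hp2 hy ha hb
  have h2 : (∑ v : V, (∑ z : (P : Subgroup G), (H43.prodCount a b (z * v) : ℂ) -
      H43.prodCount a b v)) * (cc a * cc b) = Nat.card G * ∑ χ : IrrCharacter G,
        (∑ v : V, (∑ z : (P : Subgroup G), χ.1 (z * v) - χ.1 v)) * (χ.1 a * χ.1 b / χ.1 1) := by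
    simp only [Finset.sum_mul, sub_mul, H43.prodCount_eq' ha hb, ← Finset.mul_sum, ← mul_sub]
    congr 1
    rw [Finset.sum_comm]
    refine Finset.sum_congr rfl fun v _ => ?_
    rw [Finset.sum_comm, ← Finset.sum_sub_distrib]
  have h0 := fun χ : IrrCharacter G => hC.master χ.2.isClassFunction
  simp only [← h0, br_sS h, mul_assoc, ← Finset.mul_sum] at h2
  have h3 : ∀ u : G, u * u = 1 → ¬ p ∣ orderOf u := fun u hu hd =>
    hp2 ((Nat.prime_dvd_prime_iff_eq hp.out Nat.prime_two).1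
      (hd.trans (orderOf_dvd_of_pow_eq_one (by rwa [pow_two]))))
  rw [sum_sI' h, Finset.sum_congr (s₁ := Y) rfl (g := fun _ => θ.1 a * θ.1 b / θ.1 1) fun η hη => by
    rw [h.uni hη hθ (h3 a ha), h.uni hη hθ (h3 b hb), h.uni hη hθ h.not_dvd_one],
    Finset.sum_const, h.cardY, nsmul_eq_mul] at h2
  have h4 : (t : ℂ) * (Cen (P : Subgroup G)).relIndex (Nor (P : Subgroup G)) = p - 1 := by
    have := congrArg (Nat.cast : ℕ → ℂ) h.te
    push_cast at this
    linear_combination this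
  have h5 : (p : ℂ) - 1 ≠ 0 := sub_ne_zero.2 (by exact_mod_cast hp.out.one_lt.ne')
  refine mul_left_cancel₀ h5 ?_
  linear_combination -(cc a * cc b : ℂ) * h1 + p * h2 + (Nat.card G * (p * Nat.card V) *
      (∑ χ ∈ X, δ χ * (χ.1 a * χ.1 b / χ.1 1) - ε * (θ.1 a * θ.1 b / θ.1 1))) * h4

end H45.MO
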