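/- Arithmetic searches for simple groups of order `95040`. -/
import Cfsg.Agent.Base

set_option autoImplicit false

namespace H45.MO

/-- Candidate signed values at an involution with class size `h` and centralizer order `c`. -/
def cand (d h c : ℤ) : List ℤ :=
  ((List.range ((d.natAbs - 1) / 2)).map fun k : ℕ => d - d.sign * (4 * (k + 1))).filter
    fun u => u * u ≤ c && (h * u) % d == 0

/-- The conditions on a signed value. -/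
structure Ok (d h u : ℤ) : Prop where
  m4 : (d - u) % 4 = 0
  lt : u * u < d * d
  dv : d ∣ h * u

theorem mem_cand {d h c u : ℤ} (H : Ok d h u) (hc : u * u ≤ c) : u ∈ cand d h c := by
  obtain ⟨h1, h2, h3⟩ := H
  simp only [cand, List.mem_filter, List.mem_map, List.mem_range, Bool.and_eq_true,
    decide_eq_true_eq, beq_iff_eq]
  refine ⟨?_, hc, Int.emod_eq_zero_of_dvd h3⟩
  have h4 := sq_lt_sq.1 (show u ^ 2 < d ^ 2 by nlinarith)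
  rcases lt_trichotomy d 0 with h | h | h
  · rw [abs_of_neg h, abs_lt] at h4
    refine ⟨((u - d) / 4 - 1).toNat, by omega, ?_⟩
    rw [Int.sign_eq_neg_one_of_neg h]
    omega
  · subst h; simp at h4; exact absurd h4 (not_lt.2 (abs_nonneg u))
  · rw [abs_of_pos h, abs_lt] at h4
    refine ⟨((d - u) / 4 - 1).toNat, by omega, ?_⟩
    rw [Int.sign_eq_one_of_pos h]
    omega

/-- Signed degrees of non-exceptional characters for `11`. -/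
def X11 : List ℤ := [-120, -54, -32, -10, 12, 45, 144]
/-- Signed degrees of exceptional characters for `11`. -/
def E11 : List ℤ := [5, 16, 27, 60, 192, -6, -72, -160, -270]
/-- Possible centralizer orders. -/
def C2 : List ℤ := ((List.range 4321).filter fun c => 4320 % c == 0).map fun c : ℕ => 2 * c

/-- The conclusion of the search for `11`. -/
abbrev concl11 (d1 d2 d3 d4 c u1 u2 u3 u4 : ℤ) : Prop :=
  (d1 = -120 ∧ d2 = -54 ∧ d3 = 45 ∧ d4 = 144 ∧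
    ((c = 192 ∧ u1 = 8 ∧ u2 = -6 ∧ u3 = -3 ∧ u4 = 0) ∨
    ((c = 120 ∨ c = 240) ∧ u1 = 0 ∧ u2 = -6 ∧ u3 = 5 ∧ (u4 = 4 ∨ u4 = -4)) ∨
    (c = 1440 ∧ u1 = 0 ∧ u2 = -18 ∧ u3 = -15 ∧ u4 = 24))) ∨
  (d1 = -32 ∧ d2 = -32 ∧ d3 = 12 ∧ d4 = 45 ∧ c % 64 ≠ 0) ∨
  (¬ (d1 = -120 ∧ d2 = -54 ∧ d3 = 45 ∧ d4 = 144) ∧
    ¬ (d1 = -32 ∧ d2 = -32 ∧ d3 = 12 ∧ d4 = 45) ∧ c % 5 ≠ 0)

theorem chk11 : (X11.all fun d1 => X11.all fun d2 => d2 < d1 || X11.all fun d3 => d3 < d2 ||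
    X11.all fun d4 => d4 < d3 || !(E11.contains (1 + d1 + d2 + d3 + d4)) ||
    95040 < 1 + d1 * d1 + d2 * d2 + d3 * d3 + d4 * d4 +
      2 * ((1 + d1 + d2 + d3 + d4) * (1 + d1 + d2 + d3 + d4)) ||
    C2.all fun c => (cand d1 (95040 / c) c).all fun u1 => (cand d2 (95040 / c) c).all fun u2 =>
      (cand d3 (95040 / c) c).all fun u3 => (cand d4 (95040 / c) c).all fun u4 =>
      95040 + u1 * u1 * (95040 / d1) + u2 * u2 * (95040 / d2) + u3 * u3 * (95040 / d3) +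
        u4 * u4 * (95040 / d4) != (1 + u1 + u2 + u3 + u4) * (1 + u1 + u2 + u3 + u4) *
          (95040 / (1 + d1 + d2 + d3 + d4)) ||
      c < 1 + u1 * u1 + u2 * u2 + u3 * u3 + u4 * u4 +
        2 * ((1 + u1 + u2 + u3 + u4) * (1 + u1 + u2 + u3 + u4)) ||
      !((cand (1 + d1 + d2 + d3 + d4) (95040 / c) c).contains (1 + u1 + u2 + u3 + u4)) ||
      decide (concl11 d1 d2 d3 d4 c u1 u2 u3 u4)) = true := by
  decide +kernel

theorem search11 {d1 d2 d3 d4 c u1 u2 u3 u4 : ℤ} (m1 : d1 ∈ X11) (m2 : d2 ∈ X11) (m3 : d3 ∈ X11)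
    (m4 : d4 ∈ X11) (l1 : d1 ≤ d2) (l2 : d2 ≤ d3) (l3 : d3 ≤ d4) (mE : 1 + d1 + d2 + d3 + d4 ∈ E11)
    (hs : 1 + d1 * d1 + d2 * d2 + d3 * d3 + d4 * d4 +
      2 * ((1 + d1 + d2 + d3 + d4) * (1 + d1 + d2 + d3 + d4)) ≤ 95040) (hc : c ∈ C2)
    (o1 : Ok d1 (95040 / c) u1) (o2 : Ok d2 (95040 / c) u2) (o3 : Ok d3 (95040 / c) u3)
    (o4 : Ok d4 (95040 / c) u4) (oE : Ok (1 + d1 + d2 + d3 + d4) (95040 / c) (1 + u1 + u2 + u3 + u4))
    (hq : 95040 + u1 * u1 * (95040 / d1) + u2 * u2 * (95040 / d2) + u3 * u3 * (95040 / d3) +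
        u4 * u4 * (95040 / d4) = (1 + u1 + u2 + u3 + u4) * (1 + u1 + u2 + u3 + u4) *
          (95040 / (1 + d1 + d2 + d3 + d4)))
    (hn : 1 + u1 * u1 + u2 * u2 + u3 * u3 + u4 * u4 +
        2 * ((1 + u1 + u2 + u3 + u4) * (1 + u1 + u2 + u3 + u4)) ≤ c) :
    concl11 d1 d2 d3 d4 c u1 u2 u3 u4 := by
  have h := chk11
  simp only [List.all_eq_true, Bool.or_eq_true, decide_eq_true_eq, Bool.not_eq_true',
    List.contains_eq_mem, decide_eq_false_iff_not, bne_iff_ne, ne_eq, or_assoc] at h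
  have a1 := mul_self_nonneg u1
  have a2 := mul_self_nonneg u2
  have a3 := mul_self_nonneg u3
  have a4 := mul_self_nonneg u4
  have a5 := mul_self_nonneg (1 + u1 + u2 + u3 + u4)
  have := ((((((h d1 m1 d2 m2).resolve_left (by omega) d3 m3).resolve_left (by omega) d4
    m4).resolve_left (by omega)).resolve_left (not_not.2 mE)).resolve_left (not_lt.2 hs)) c hc
    u1 (mem_cand o1 (by omega)) u2 (mem_cand o2 (by omega)) u3 (mem_cand o3 (by omega))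
    u4 (mem_cand o4 (by omega))
  exact ((this.resolve_left (not_not.2 hq)).resolve_left (not_lt.2 hn)).resolve_left
    (not_not.2 (mem_cand oE (by omega)))

theorem mem_C2 {c : ℕ} (h1 : c ∣ 95040) (h2 : ¬ 11 ∣ c) (h3 : 2 ∣ c) : (c : ℤ) ∈ C2 := by
  obtain ⟨k, rfl⟩ := h3
  have h4 : k ∣ 4320 := by
    refine Nat.Coprime.dvd_of_dvd_mul_right (k := k) (n := 11) ?_
      (Nat.dvd_of_mul_dvd_mul_left two_pos (show 2 * k ∣ 2 * (4320 * 11) from h1))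
    exact ((Nat.Prime.coprime_iff_not_dvd (by norm_num)).2 fun h => h2 (h.mul_left 2)).symm
  simp only [C2, List.mem_map, List.mem_filter, List.mem_range, beq_iff_eq]
  exact ⟨k, ⟨Nat.lt_succ_of_le (Nat.le_of_dvd (by norm_num) h4), Nat.mod_eq_zero_of_dvd h4⟩,
    by push_cast; rfl⟩

theorem mem_X11 {d : ℕ} {σ : ℤ} (hσ : σ = 1 ∨ σ = -1) (h1 : d ∣ 8640) (h2 : d ^ 2 ≤ 95040)
    (h3 : d ≠ 1) (h4 : (11 : ℤ) ∣ σ * d - 1) : σ * d ∈ X11 := by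
  have : ∀ d ∈ Nat.divisors 8640, d ^ 2 ≤ 95040 → d ≠ 1 → (d % 11 = 1 → (d : ℤ) ∈ X11) ∧
    (d % 11 = 10 → -(d : ℤ) ∈ X11) := by decide +kernel
  have := this d (Nat.mem_divisors.2 ⟨h1, by norm_num⟩) h2 h3
  rcases hσ with rfl | rfl
  · simpa using this.1 (by omega)
  · simpa using this.2 (by omega)

theorem mem_E11 {d : ℕ} {σ : ℤ} (hσ : σ = 1 ∨ σ = -1) (h1 : d ∣ 8640) (h2 : d ^ 2 ≤ 95040)
    (h4 : (11 : ℤ) ∣ d - σ * 5) : σ * d ∈ E11 := by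
  have : ∀ d ∈ Nat.divisors 8640, d ^ 2 ≤ 95040 → (d % 11 = 5 → (d : ℤ) ∈ E11) ∧
    (d % 11 = 6 → -(d : ℤ) ∈ E11) := by decide +kernel
  have := this d (Nat.mem_divisors.2 ⟨h1, by norm_num⟩) h2
  rcases hσ with rfl | rfl
  · simpa using this.1 (by omega)
  · simpa using this.2 (by omega)

/-- The residues of the degrees modulo `11`. -/
abbrev Res (d : ℕ) : Prop := d % 11 = 0 ∨ d % 11 = 1 ∨ d % 11 = 10 ∨ d % 11 = 5 ∨ d % 11 = 6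

/-- Signed degrees for `5`. -/
def L5 : List ℤ := [-264, -144, -99, -54, -44, 6, 11, 16, 66, 176]

theorem mem_L5 {d : ℕ} {σ : ℤ} (hσ : σ = 1 ∨ σ = -1) (h1 : d ∣ 95040) (h2 : d ^ 2 ≤ 95040)
    (h3 : d ≠ 1) (h4 : (5 : ℤ) ∣ σ * d - 1) (h5 : Res d) : σ * d ∈ L5 := by
  have : ∀ d ∈ (List.range 309).filter fun d => 95040 % d == 0, d ≠ 1 → Res d →
    (d % 5 = 1 → (d : ℤ) ∈ L5) ∧ (d % 5 = 4 → -(d : ℤ) ∈ L5) := by decide +kernel
  have := this d (by simpa using ⟨by nlinarith, Nat.mod_eq_zero_of_dvd h1⟩) h3 h5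
  rcases hσ with rfl | rfl
  · simpa using this.1 (by omega)
  · simpa using this.2 (by omega)

theorem sol5 : ∀ d1 ∈ L5, ∀ d2 ∈ L5, d1 ≤ d2 → ∀ d3 ∈ L5, d2 ≤ d3 → ∀ d4 ∈ L5, d3 ≤ d4 →
    1 + (d1 + d2 + d3 + d4) = 0 → (d1 = -44 ∧ d2 = 11 ∧ d3 = 16 ∧ d4 = 16) ∨
    (d1 = -144 ∧ d2 = 11 ∧ d3 = 66 ∧ d4 = 66) ∨ (d1 = -144 ∧ d2 = -44 ∧ d3 = 11 ∧ d4 = 176) ∨
    (d1 = -99 ∧ d2 = 16 ∧ d3 = 16 ∧ d4 = 66) ∨ (d1 = -144 ∧ d2 = -99 ∧ d3 = 66 ∧ d4 = 176) := by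
  decide +kernel

theorem sol2 {a : ℕ} (h1 : a ∣ 95040) (h2 : a + 1 ∣ 95040) (h3 : a ^ 2 ≤ 95040) (h4 : a ≠ 1)
    (h5 : Res a) (h6 : Res (a + 1)) (h7 : a % 5 = 1 ∨ a % 5 = 3) : a = 11 := by
  have : ∀ a ∈ List.range 309, (95040 % a = 0 ∧ 95040 % (a + 1) = 0 ∧ a ≠ 1 ∧ Res a ∧
    Res (a + 1) ∧ (a % 5 = 1 ∨ a % 5 = 3)) → a = 11 := by decide +kernel
  exact this a (List.mem_range.2 (by nlinarith))
    ⟨Nat.mod_eq_zero_of_dvd h1, Nat.mod_eq_zero_of_dvd h2, h4, h5, h6, h7⟩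

end H45.MO
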