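/- Integer columns of the character table. -/
import Cfsg.Agent.H45.MO1
import Cfsg.Agent.H45.MOA
import Cfsg.Agent.H45.BT2

set_option autoImplicit false
set_option linter.unusedSectionVars false

namespace H45.MO
open Cfsg H28 H29 H39 H87 Subgroup
open scoped ComplexConjugate

variable {G : Type*} [Group G] [Fintype G]

/-- The integer value of a character. -/
noncomputable def iv (χ : IrrCharacter G) (a : G) : ℤ := ⌊(χ.1 a).re⌋

theorem iv_eq {χ : IrrCharacter G} {a : G} {n : ℤ} (h : χ.1 a = n) : iv χ a = n := by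
  simp [iv, h]

theorem coe_iv {χ : IrrCharacter G} {a : G} (h : ∃ n : ℤ, χ.1 a = n) : (iv χ a : ℂ) = χ.1 a := by
  obtain ⟨n, hn⟩ := h
  rw [iv_eq hn, hn]

/-- All characters have integer values at `a`. -/
def IC (a : G) : Prop := ∀ χ : IrrCharacter G, (iv χ a : ℂ) = χ.1 a

theorem ic_inv {a : G} (ha : a * a = 1) : IC a := fun χ =>
  coe_iv (H31.exists_int_of_mul_self χ.2.isCharacter ha)

theorem ic_one : IC (1 : G) := ic_inv (one_mul 1)

theorem iv_one (χ : IrrCharacter G) : iv χ 1 = dg χ := iv_eq (by rw [← coe_dg]; rfl)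

theorem iv_triv (a : G) : iv (one G) a = 1 := iv_eq (by simp)

theorem iv_conj {a b : G} (h : IsConj a b) (χ : IrrCharacter G) : iv χ a = iv χ b := by
  rw [iv, iv, χ.2.isClassFunction.eq_of_isConj h]

theorem IC.conj {a b : G} (ha : IC a) (h : IsConj a b) : IC b := fun χ => by
  rw [← iv_conj h, ha, χ.2.isClassFunction.eq_of_isConj h]

theorem ic_of_rat {a : G} (h : ∀ m : ℕ, m.Coprime (orderOf a) → IsConj a (a ^ m)) : IC a :=
  fun χ => coe_iv (χ.2.isCharacter.exists_int_of_pow a fun m hm =>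
    (χ.2.isClassFunction.eq_of_isConj (h m hm)).symm)

theorem IC.sum_sq {a : G} (ha : IC a) : ∑ χ, iv χ a ^ 2 = cc a := by
  have := H43.col_self a
  simp only [← ha _, map_intCast, ← pow_two] at this
  exact_mod_cast this

theorem IC.sum_mul {a b : G} (ha : IC a) (hb : IC b) (h : ¬ IsConj a b) :
    ∑ χ, iv χ a * iv χ b = 0 := by
  have := H43.col_ne h
  simp only [← ha _, ← hb _, map_intCast] at this
  exact_mod_cast this

theorem iv_dvd {χ : IrrCharacter G} {a : G} (h : (iv χ a : ℂ) = χ.1 a) :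
    (dg χ : ℤ) ∣ (centralizer ({a} : Set G)).index * iv χ a := by
  have h1 := isIntegral_cc χ a
  rw [← h] at h1
  obtain ⟨z, hz⟩ := H29.exists_int_of_isIntegral_rat
    (q := ((centralizer ({a} : Set G)).index * iv χ a : ℤ) / dg χ) (by push_cast; exact h1)
  rw [div_eq_iff (by exact_mod_cast (dg_pos χ).ne')] at hz
  exact ⟨z, by rw [mul_comm (dg χ : ℤ)]; exact_mod_cast hz⟩

theorem iv_lt [IsSimpleGroup G] (hna : ¬ IsMulCommutative G) {χ : IrrCharacter G}
    (h1 : χ ≠ one G) {a : G} (ha : a ≠ 1) (h : (iv χ a : ℂ) = χ.1 a) : |iv χ a| < dg χ := by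
  have h2 := χ.2.isCharacter.norm_le a
  have h3 : ‖χ.1 a‖ ≠ (χ.1 1).re := fun e =>
    ha (H43.eq_one_of_norm_eq hna χ.2 (fun e => h1 (Subtype.ext e)) e)
  rw [← h, ← coe_dg, Complex.norm_intCast, Complex.natCast_re] at h2 h3
  exact_mod_cast lt_of_le_of_ne h2 h3

theorem iv_mod4 (hG : commutator G = ⊤) (χ : IrrCharacter G) {a : G} (ha : a * a = 1) :
    (4 : ℤ) ∣ dg χ - iv χ a := by
  obtain ⟨k, hk⟩ := H43.char_inv_mod_four hG χ.2.isCharacter ha
  rw [← coe_dg, ← ic_inv ha] at hk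
  have : iv χ a = dg χ - 4 * k := by exact_mod_cast hk
  exact ⟨k, by omega⟩

theorem ok_inv [IsSimpleGroup G] (hna : ¬ IsMulCommutative G) {χ : IrrCharacter G}
    (h1 : χ ≠ one G) {a : G} (ha : orderOf a = 2) {σ : ℤ} (hσ : σ = 1 ∨ σ = -1) :
    Ok (σ * dg χ) (centralizer ({a} : Set G)).index (σ * iv χ a) := by
  have h2 := H83.mul_self_of_orderOf_two ha
  have h3 := iv_mod4 (commutator_eq_top hna) χ h2
  have h4 := iv_lt hna h1 (H83.ne_one_of_orderOf_two ha) (ic_inv h2 χ)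
  have h5 := iv_dvd (ic_inv h2 χ)
  rw [abs_lt] at h4
  rcases hσ with rfl | rfl
  · exact ⟨by omega, by nlinarith, by simpa using h5⟩
  · exact ⟨by omega, by nlinarith, by simpa using h5⟩

theorem iv_cong {p : ℕ} (hp : p.Prime) {χ : IrrCharacter G} {x y : G} (hx : x ^ p = 1)
    (hxy : Commute x y) (h1 : (iv χ (x * y) : ℂ) = χ.1 (x * y)) (h2 : (iv χ y : ℂ) = χ.1 y) :
    (p : ℤ) ∣ iv χ (x * y) - iv χ y := by
  have hε := Complex.isPrimitiveRoot_exp p hp.ne_zero
  refine prime_dvd_sub_of_acong hp hε ?_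
  rw [h1, h2]
  exact char_acong_type hp.ne_zero hε χ.2.isCharacter hx hxy

theorem dg_dvd (χ : IrrCharacter G) : dg χ ∣ Nat.card G := χ.2.charDegree_dvd_card

theorem term_cast (χ : IrrCharacter G) {σ : ℤ} (hσ : σ = 1 ∨ σ = -1) {a b : G}
    (ha : (iv χ a : ℂ) = χ.1 a) (hb : (iv χ b : ℂ) = χ.1 b) :
    (Nat.card G : ℂ) * (σ * (χ.1 a * χ.1 b / χ.1 1)) =
      ((σ * iv χ a) * (σ * iv χ b) * (Nat.card G / (σ * dg χ)) : ℤ) := by
  have h0 : (dg χ : ℂ) ≠ 0 := by exact_mod_cast (dg_pos χ).ne'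
  have h1 : (σ * dg χ : ℤ) ∣ Nat.card G := by
    rcases hσ with rfl | rfl <;> simpa using Int.natCast_dvd_natCast.2 (dg_dvd χ)
  rw [Int.cast_mul, Int.cast_div h1 (by rcases hσ with rfl | rfl <;> simpa using h0), ← ha, ← hb,
    ← coe_dg]
  rcases hσ with rfl | rfl <;> push_cast <;> field_simp

theorem sum_dg_sq : ∑ χ : IrrCharacter G, (dg χ : ℤ) ^ 2 = Nat.card G := by
  exact_mod_cast sum_charDegree_sq (G := G)

theorem dg_sq_le (χ : IrrCharacter G) : dg χ ^ 2 ≤ Nat.card G :=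
  sum_charDegree_sq (G := G) ▸ Finset.single_le_sum (f := fun χ : IrrCharacter G => dg χ ^ 2)
    (fun _ _ => Nat.zero_le _) (Finset.mem_univ χ)

/-- A sorted enumeration of a finite set. -/
theorem exists_enum {α : Type*} {k : ℕ} (S : Finset α) (hS : S.card = k) (D : α → ℤ) :
    ∃ f : Fin k → α, Function.Injective f ∧ (∀ x, x ∈ S ↔ ∃ i, f i = x) ∧
      Monotone fun i => D (f i) := by
  let e := (S.equivFinOfCardEq hS).symm
  let s := Tuple.sort fun i => D (e i)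
  refine ⟨fun i => e (s i), fun i j h => s.injective (e.injective (Subtype.ext h)), fun x =>
    ⟨fun hx => ⟨s.symm (e.symm ⟨x, hx⟩), by simp⟩, fun ⟨i, hi⟩ => hi ▸ (e (s i)).2⟩,
    Tuple.monotone_sort fun i => D (e i)⟩

theorem sum_enum {α M : Type*} [AddCommMonoid M] {k : ℕ} {S : Finset α} {f : Fin k → α}
    (hf : Function.Injective f) (h : ∀ x, x ∈ S ↔ ∃ i, f i = x) (F : α → M) :
    ∑ x ∈ S, F x = ∑ i, F (f i) := by
  classical
  rw [show S = Finset.univ.image f by ext; simp [h], Finset.sum_image fun _ _ _ _ e => hf e]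

variable {p e t : ℕ} {X Y : Finset (IrrCharacter G)} {δ : IrrCharacter G → ℤ} {ε : ℤ}
  {θ : IrrCharacter G}

open Classical in
/-- The non-trivial members of the block, one exceptional character chosen. -/
noncomputable def Tt (X : Finset (IrrCharacter G)) (θ : IrrCharacter G) : Finset (IrrCharacter G) :=
  insert θ (X.erase (one G))

open Classical in
/-- The signs. -/
noncomputable def st (X : Finset (IrrCharacter G)) (δ : IrrCharacter G → ℤ) (ε : ℤ)
    (χ : IrrCharacter G) : ℤ := if χ ∈ X then δ χ else -ε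

theorem mem_Tt {χ : IrrCharacter G} : χ ∈ Tt X θ ↔ χ = θ ∨ (χ ≠ one G ∧ χ ∈ X) := by simp [Tt]

section
variable (h : Br p e t X Y δ ε) (hθ : θ ∈ Y)
include h

theorem st_sign (χ : IrrCharacter G) : st X δ ε χ = 1 ∨ st X δ ε χ = -1 := by
  unfold st
  split_ifs
  · exact h.sδ χ
  · rcases h.sε with e | e <;> simp [e]

include hθ

theorem st_θ : st X δ ε θ = -ε := if_neg (Finset.disjoint_right.1 h.disj hθ)

theorem card_Tt : (Tt X θ).card = e := by
  classical
  rw [Tt, Finset.card_insert_of_notMem fun h1 =>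
    Finset.disjoint_right.1 h.disj hθ (Finset.mem_of_mem_erase h1),
    Finset.card_erase_add_one h.one_mem, h.cardX]

theorem ne_one_of_Tt {χ : IrrCharacter G} (hχ : χ ∈ Tt X θ) : χ ≠ one G := by
  rcases mem_Tt.1 hχ with rfl | h1
  exacts [h.ne_one hθ, h1.1]

theorem sum_Tt {R : Type*} [CommRing R] (F : IrrCharacter G → R) :
    ∑ χ ∈ X, δ χ * F χ - ε * F θ = F (one G) + ∑ χ ∈ Tt X θ, st X δ ε χ * F χ := by
  classical
  rw [Tt, Finset.sum_insert fun h1 =>
    Finset.disjoint_right.1 h.disj hθ (Finset.mem_of_mem_erase h1), st_θ h hθ,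
    ← Finset.add_sum_erase _ _ h.one_mem, h.δ_one, Finset.sum_congr (s₁ := X.erase _) rfl
      (f := fun χ => (st X δ ε χ : R) * F χ) (g := fun χ => δ χ * F χ) fun χ hχ => by
      rw [st, if_pos (Finset.mem_of_mem_erase hχ)]]
  push_cast
  ring

theorem reg_Tt {g : G} (hg : ¬ p ∣ orderOf g) (hi : IC g) :
    1 + ∑ χ ∈ Tt X θ, st X δ ε χ * iv χ g = 0 := by
  have h1 := sum_Tt h hθ fun χ => χ.1 g
  rw [← h.reg θ hθ g hg, sub_self] at h1
  simp only [← hi _, iv_triv] at h1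
  exact_mod_cast h1.symm

theorem deg_Tt : 1 + ∑ χ ∈ Tt X θ, st X δ ε χ * dg χ = 0 := by
  simpa only [iv_one] using reg_Tt h hθ h.not_dvd_one ic_one

theorem exists_not_dvd {q : ℕ} (hq : q ≠ 1) : ∃ χ ∈ Tt X θ, ¬ q ∣ dg χ := by
  by_contra! hc
  have h1 : (q : ℤ) ∣ ∑ χ ∈ Tt X θ, st X δ ε χ * dg χ :=
    Finset.dvd_sum fun χ hχ => (Int.natCast_dvd_natCast.2 (hc χ hχ)).mul_left _
  rw [show ∑ χ ∈ Tt X θ, st X δ ε χ * dg χ = -1 by linarith [deg_Tt h hθ], dvd_neg] at h1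
  exact hq (by exact_mod_cast Int.natCast_dvd_natCast.1 h1 |> Nat.dvd_one.1)

theorem dg_Tt_dvd {χ : IrrCharacter G} (hχ : χ ∈ Tt X θ) {g : G} (hg : p ∣ orderOf g) :
    dg χ ∣ (centralizer ({g} : Set G)).index := by
  rcases mem_Tt.1 hχ with rfl | h1
  exacts [h.dg_Y_dvd hθ hg, h.dg_X_dvd h1.2 hg]

theorem dg_Tt_mod {χ : IrrCharacter G} (hχ : χ ∈ Tt X θ) :
    (p : ℤ) ∣ st X δ ε χ * dg χ - 1 ∨ (p : ℤ) ∣ st X δ ε χ * dg χ + e := by
  rcases mem_Tt.1 hχ with rfl | h1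
  · have := (br_dvd_Y h hθ).mul_left (-ε)
    rw [st_θ h hθ]
    refine Or.inr (by rcases h.sε with e | e <;> simpa [e, sub_eq_add_neg, add_comm] using this)
  · rw [st, if_pos h1.2]
    exact Or.inl (br_dvd_sub_one h h1.2)

/-- An involution centralizing an element of order `p`. -/
theorem cong_Tt (hG : commutator G = ⊤) (hp2 : p ≠ 2) {w v : G} (hw : orderOf w = p)
    (hv : v * v = 1) (hc : Commute w v) {χ : IrrCharacter G} (hχ : χ ∈ Tt X θ) :
    (4 * p : ℤ) ∣ dg χ - iv χ v := by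
  have hv' : ¬ p ∣ orderOf v := fun hd => hp2 ((Nat.prime_dvd_prime_iff_eq h.hp Nat.prime_two).1
      (hd.trans (orderOf_dvd_of_pow_eq_one (by rwa [pow_two]))))
  have key : ∀ χ ∈ X, (p : ℤ) ∣ δ χ * dg χ - δ χ * iv χ v := fun χ hχ => by
    have h1 := h.valX χ hχ _ (dvd_orderOf_mul h.hp hw hc hv')
    have h2 := (iv_cong h.hp (hw ▸ pow_orderOf_eq_one w) hc (coe_iv ⟨_, h1⟩)
      (ic_inv hv χ)).mul_left (δ χ)
    rw [iv_eq h1] at h2
    have := (br_dvd_sub_one h hχ).add h2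
    rcases h.sδ χ with e | e <;> rw [e] at this ⊢ <;> obtain ⟨c, hc⟩ := this <;>
      exact ⟨c, by linarith⟩
  refine IsCoprime.mul_dvd ?_ (iv_mod4 hG χ hv) ?_
  · exact Nat.isCoprime_iff_coprime.2 ((Nat.coprime_primes Nat.prime_two h.hp).2
      hp2.symm |>.pow_left 2)
  rcases mem_Tt.1 hχ with rfl | h1
  · have h1 := h.deg_eq hθ
    have h2 := h.reg χ hθ v hv'
    simp only [← ic_inv hv _] at h2
    have h3 : ε * iv χ v = ∑ ψ ∈ X, δ ψ * iv ψ v := by exact_mod_cast h2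
    have h4 := Finset.dvd_sum key
    rw [Finset.sum_sub_distrib, ← h1, ← h3] at h4
    rcases h.sε with e | e <;> rw [e] at h4
    · simpa using h4
    · obtain ⟨c, hc⟩ := h4
      exact ⟨-c, by linarith⟩
  · have h4 := key χ h1.2
    rcases h.sδ χ with e | e <;> rw [e] at h4
    · simpa using h4
    · obtain ⟨c, hc⟩ := h4
      exact ⟨-c, by linarith⟩

end

/-- The count of pairs of inverting involutions, in integers. -/
theorem inv_int [Fact p.Prime] {P : Sylow p G} {V : Subgroup G} (hC : Cpl P V) (hp2 : p ≠ 2)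
    (h : Br p ((Cen (P : Subgroup G)).relIndex (Nor (P : Subgroup G))) t X Y δ ε) {y a b : G}
    (hy : zpowers y = P) (ha : a * a = 1) (hb : b * b = 1) (hθ : θ ∈ Y) :
    ((Iv y a).card * (Iv y b).card * (cc a * cc b) : ℤ) = p * Nat.card V * (Nat.card G +
      ∑ χ ∈ Tt X θ, (st X δ ε χ * iv χ a) * (st X δ ε χ * iv χ b) *
        (Nat.card G / (st X δ ε χ * dg χ))) := by
  have h1 := inv_formula hC hp2 h hy ha hb hθ
  rw [sum_Tt h hθ fun χ => χ.1 a * χ.1 b / χ.1 1, mul_right_comm (Nat.card G : ℂ), mul_add,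
    Finset.mul_sum] at h1
  simp only [term_cast _ (st_sign h _) (ic_inv ha _) (ic_inv hb _)] at h1
  simp only [mul_one, div_one, ← Int.cast_sum] at h1
  rw [mul_comm ((p : ℤ) * _)]
  exact_mod_cast h1

end H45.MO
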