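/- Simple groups of order `95040`: the prime `11`. -/
import Cfsg.Agent.H45.MO2

set_option autoImplicit false
set_option linter.unusedSectionVars false

namespace H45.MO
open Cfsg H28 H29 H39 H87 Subgroup
open scoped ComplexConjugate

variable {G : Type*} [Group G] [Fintype G] [IsSimpleGroup G]

theorem nonab (hG : Nat.card G = 95040) : ¬ IsMulCommutative G :=
  nonabelian_of_card_not_prime (by rw [hG]; norm_num)

theorem two_le_e (hna : ¬ IsMulCommutative G) {p : ℕ} [Fact p.Prime] (hd : p ∣ Nat.card G)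
    (P : Sylow p G) : 2 ≤ (Cen (P : Subgroup G)).relIndex (Nor (P : Subgroup G)) := by
  have := two_le_relIndex (commutator_eq_top hna) hd P
  rwa [Sylow.stabilizer_eq_normalizer] at this

theorem index_cen {p : ℕ} [Fact p.Prime] {P : Sylow p G} {V : Subgroup G} (hC : Cpl P V) {w : G}
    (hw : zpowers w = P) : (centralizer ({w} : Set G)).index =
      Nat.card (Sylow p G) * (Cen (P : Subgroup G)).relIndex (Nor (P : Subgroup G)) := by
  have h1 := card_eq_of_cpl hC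
  have h2 := (Cen (P : Subgroup G)).index_mul_card
  rw [hC.card_cen, h1, mul_assoc _ p] at h2
  rw [← H43.centralizer_zpowers', hw]
  exact Nat.eq_of_mul_eq_mul_right (Nat.mul_pos (Fact.out : p.Prime).pos Nat.card_pos) h2

theorem sq_ge {x k : ℤ} (hk : 0 ≤ k) (h : x ≤ -k ∨ k ≤ x) : k ^ 2 ≤ x ^ 2 := by
  rcases h with h | h <;> nlinarith

theorem cases11 {n e v : ℕ} (h : n * e * 11 * v = 95040) (hn : n % 11 = 1) (hn1 : n ≠ 1)
    (he : e = 2 ∨ e = 5 ∨ e = 10) : (v = 1 ∧ e = 5) ∨ (2 ∣ v ∧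
      ((∀ d, d ∣ n * e → 23 ≤ d → (d % 11 = 1 ∨ d % 11 = 10 ∨ d % 11 = e ∨ (d + e) % 11 = 0) →
        3 ∣ d) ∨
      (∀ d, d ∣ n * e → 23 ≤ d → (d % 11 = 1 ∨ d % 11 = 10 ∨ d % 11 = e ∨ (d + e) % 11 = 0) →
        2 ∣ d) ∨ (n * e = 1440 ∧ e = 10))) := by
  have key : ∀ n ∈ Nat.divisors 8640, n % 11 = 1 → n ≠ 1 → ∀ e ∈ [2, 5, 10], n * e ∣ 8640 →
      (8640 / (n * e) = 1 ∧ e = 5) ∨ (2 ∣ 8640 / (n * e) ∧
      ((∀ d ∈ Nat.divisors (n * e), 23 ≤ d →
        (d % 11 = 1 ∨ d % 11 = 10 ∨ d % 11 = e ∨ (d + e) % 11 = 0) → 3 ∣ d) ∨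
      (∀ d ∈ Nat.divisors (n * e), 23 ≤ d →
        (d % 11 = 1 ∨ d % 11 = 10 ∨ d % 11 = e ∨ (d + e) % 11 = 0) → 2 ∣ d) ∨
      (n * e = 1440 ∧ e = 10))) := by decide +kernel
  have h1 : n * e * v = 8640 := by linarith
  have h0 : n * e ≠ 0 := fun e => by simp [e] at h1
  have := key n (Nat.mem_divisors.2 ⟨⟨e * v, by linarith⟩, by norm_num⟩) hn hn1 e (by simpa)
    ⟨v, h1.symm⟩
  rw [← h1, Nat.mul_div_cancel_left _ (Nat.pos_of_ne_zero h0)] at this
  simpa [h0] using this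

theorem V11 (hG : Nat.card G = 95040) {P : Sylow 11 G} {V : Subgroup G} (hC : Cpl P V) :
    Nat.card V = 1 ∧ (Cen (P : Subgroup G)).relIndex (Nor (P : Subgroup G)) = 5 := by
  have hna := nonab hG
  obtain ⟨t, X, Y, δ, ε, h⟩ := exists_br H37.cycK P hC.card
  obtain ⟨θ, hθ⟩ := h.Y_nonempty
  obtain ⟨w, hw, hP⟩ := H43.exists_gen_sylow (m := 8640) hG (by norm_num) P
  have h1 := card_eq_of_cpl hC
  have h2 := two_le_e hna (by rw [hG]; norm_num) P
  have h3 := index_cen hC hP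
  have hte := h.te
  change Br 11 ((Cen (P : Subgroup G)).relIndex (Nor (P : Subgroup G))) t X Y δ ε at h
  change t * (Cen (P : Subgroup G)).relIndex (Nor (P : Subgroup G)) + 1 = 11 at hte
  generalize (Cen (P : Subgroup G)).relIndex (Nor (P : Subgroup G)) = e at *
  have he : e = 2 ∨ e = 5 ∨ e = 10 := by
    have : e ∣ 10 := ⟨t, by linarith⟩
    have := Nat.le_of_dvd (by norm_num) this
    interval_cases e <;> omega
  refine (cases11 (hG ▸ h1.symm) (card_sylow_modEq_one 11 G)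
    (card_sylow_ne_one hna 11 (by rw [hG]; norm_num)) he).resolve_right fun ⟨h4, h5⟩ => ?_
  obtain ⟨v, hv, hv2⟩ := H43.exists_mem_orderOf 2 h4
  have hv1 := H83.mul_self_of_orderOf_two hv2
  have hc : Commute w v := hC.le hv w (hP.le (mem_zpowers w))
  have k1 := fun χ hχ => cong_Tt h hθ (commutator_eq_top hna) (by norm_num) hw hv1 hc (χ := χ) hχ
  have k2 := fun χ hχ => iv_lt hna (ne_one_of_Tt h hθ (χ := χ) hχ)
    (H83.ne_one_of_orderOf_two hv2) (ic_inv hv1 χ)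
  have k3 : ∀ χ ∈ Tt X θ, dg χ ∣ Nat.card (Sylow 11 G) * e := fun χ hχ =>
    h3 ▸ dg_Tt_dvd h hθ hχ hw.symm.dvd
  have k4 : ∀ χ ∈ Tt X θ, 23 ≤ dg χ := fun χ hχ => by
    have := k1 χ hχ
    have := abs_lt.1 (k2 χ hχ)
    omega
  have k5 : ∀ χ ∈ Tt X θ, dg χ % 11 = 1 ∨ dg χ % 11 = 10 ∨ dg χ % 11 = e ∨
      (dg χ + e) % 11 = 0 := fun χ hχ => by
    have := dg_Tt_mod h hθ hχ
    rcases st_sign h χ with e | e <;> rw [e] at this <;> omega
  rcases h5 with h5 | h5 | ⟨h5, rfl⟩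
  · obtain ⟨χ, hχ, h6⟩ := exists_not_dvd h hθ (q := 3) (by norm_num)
    exact h6 (h5 _ (k3 χ hχ) (k4 χ hχ) (k5 χ hχ))
  · obtain ⟨χ, hχ, h6⟩ := exists_not_dvd h hθ (q := 2) (by norm_num)
    exact h6 (h5 _ (k3 χ hχ) (k4 χ hχ) (k5 χ hχ))
  have k6 : ∀ χ ∈ Tt X θ, (dg χ = 32 ∧ st X δ ε χ = -1) ∨ (dg χ = 45 ∧ st X δ ε χ = 1) ∨
      (dg χ = 120 ∧ st X δ ε χ = -1) ∨ (dg χ = 144 ∧ st X δ ε χ = 1) := fun χ hχ => by
    have a1 := k3 χ hχ
    have a2 := dg_sq_le χ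
    have a3 := dg_Tt_mod h hθ hχ
    rw [h5] at a1
    have : ∀ d ∈ Nat.divisors 1440, 23 ≤ d → d ^ 2 ≤ 95040 → (d % 11 = 1 ∨ d % 11 = 10) →
      d = 32 ∨ d = 45 ∨ d = 120 ∨ d = 144 := by decide +kernel
    have := this _ (Nat.mem_divisors.2 ⟨a1, by norm_num⟩) (k4 χ hχ) (hG ▸ a2)
      (by have := k5 χ hχ; omega)
    rcases st_sign h χ with e | e <;> rw [e] at a3 ⊢ <;> omega
  have i1 : 8 ∣ (centralizer ({v} : Set G)).index := by
    obtain ⟨χ, hχ, h6⟩ := exists_not_dvd h hθ (q := 3) (by norm_num)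
    have a1 := k1 χ hχ
    have a2 := abs_lt.1 (k2 χ hχ)
    have a3 := iv_dvd (ic_inv hv1 χ)
    have a4 : dg χ = 32 := by have := k6 χ hχ; omega
    rw [a4] at a1 a2 a3
    rw [show iv χ v = -12 by omega] at a3
    omega
  have i2 : 45 ∣ (centralizer ({v} : Set G)).index := by
    obtain ⟨χ, hχ, h6⟩ := exists_not_dvd h hθ (q := 2) (by norm_num)
    have a1 := k1 χ hχ
    have a2 := abs_lt.1 (k2 χ hχ)
    have a3 := iv_dvd (ic_inv hv1 χ)
    have a4 : dg χ = 45 := by have := k6 χ hχ; omega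
    rw [a4] at a1 a2 a3
    obtain e | e : iv χ v = 1 ∨ iv χ v = -43 := by omega
    all_goals rw [e] at a3; omega
  have i3 := (centralizer ({v} : Set G)).index_mul_card
  have i4 : 0 < (centralizer ({v} : Set G)).index := Nat.pos_of_ne_zero index_ne_zero_of_finite
  have i5 : cc v ≤ 264 := by
    have : 360 ≤ (centralizer ({v} : Set G)).index := by omega
    rw [hG] at i3
    nlinarith
  have j1 : ∑ χ ∈ Tt X θ, (600 - 13 * (st X δ ε χ * dg χ)) ≤ ∑ χ ∈ Tt X θ, 15 * iv χ v ^ 2 :=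
    Finset.sum_le_sum fun χ hχ => by
      have a1 := k1 χ hχ
      rcases k6 χ hχ with ⟨a, b⟩ | ⟨a, b⟩ | ⟨a, b⟩ | ⟨a, b⟩ <;> rw [a] at a1 <;> rw [a, b]
      · have := sq_ge (x := iv χ v) (k := 12) (by omega) (by omega)
        omega
      · have := sq_ge (x := iv χ v) (k := 1) (by omega) (by omega)
        omega
      · have := sq_ge (x := iv χ v) (k := 12) (by omega) (by omega)
        omega
      · have := sq_nonneg (iv χ v)
        omega
  have j2 := Finset.sum_le_sum_of_subset_of_nonneg (Finset.subset_univ (Tt X θ))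
    (f := fun χ => iv χ v ^ 2) fun _ _ _ => sq_nonneg _
  rw [(ic_inv hv1).sum_sq] at j2
  rw [Finset.sum_sub_distrib, ← Finset.mul_sum, ← Finset.mul_sum, Finset.sum_const,
    card_Tt h hθ] at j1
  have := deg_Tt h hθ
  simp only [nsmul_eq_mul] at j1
  omega

end H45.MO
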