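/- Simple groups of order `95040`: the principal blocks for `11` and `5`. -/
import Cfsg.Agent.H45.MO3

set_option autoImplicit false
set_option linter.unusedSectionVars false

namespace H45.MO
open Cfsg H28 H29 H39 H87 Subgroup
open scoped ComplexConjugate

variable {G : Type*} [Group G] [Fintype G]

section
variable {p e t : ℕ} {X Y : Finset (IrrCharacter G)} {δ : IrrCharacter G → ℤ} {ε : ℤ}
  {θ : IrrCharacter G} (h : Br p e t X Y δ ε) (hθ : θ ∈ Y)
include h hθ

theorem Y_eq (ht : t = 1) : Y = {θ} := by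
  obtain ⟨a, ha⟩ := Finset.card_eq_one.1 (h.cardY.trans ht)
  rw [ha] at hθ ⊢
  rw [Finset.mem_singleton.1 hθ]

theorem mem_Tt_of_const {ψ : IrrCharacter G} (h1 : ψ ≠ one G) {c : ℤ} (hc : c ≠ 0)
    (hv : ∀ g, p ∣ orderOf g → ψ.1 g = c) : ψ ∈ Tt X θ := by
  have h2 := br_sS h ψ
  rw [sS_apply, h.inner_sg_of_const hv] at h2
  have h3 : c * t = sI t X Y δ ε ψ := by exact_mod_cast h2
  have h4 := h.t_pos
  unfold sI at h3
  split_ifs at h3 with a b
  · exact mem_Tt.2 (Or.inr ⟨h1, a⟩)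
  · have : t = 1 := by
      have : (t : ℤ) ∣ 1 := by
        rcases h.sε with e | e <;> rw [e] at h3
        exacts [⟨-c, by linarith⟩, ⟨c, by linarith⟩]
      exact_mod_cast Nat.dvd_one.1 (Int.natCast_dvd_natCast.1 this)
    rw [Y_eq h hθ this, Finset.mem_singleton] at b
    exact mem_Tt.2 (Or.inl b)
  · exact absurd h3 (mul_ne_zero hc (by exact_mod_cast h4.ne'))

theorem val_Tt {χ : IrrCharacter G} (hχ : χ ∈ Tt X θ) (ht : t = 1 ∨ χ ≠ θ) {g : G}
    (hg : p ∣ orderOf g) : χ.1 g = st X δ ε χ := by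
  rcases mem_Tt.1 hχ with rfl | h1
  · have h2 := h.valY g hg
    rw [Y_eq h hθ (ht.resolve_right (not_not.2 rfl)), Finset.sum_singleton] at h2
    rw [st_θ h hθ, h2, Int.cast_neg]
  · rw [st, if_pos h1.2, h.valX χ h1.2 g hg]

theorem int_of_unique {χ : IrrCharacter G} (hχ : χ ∈ Tt X θ) (ht : t = 1 ∨ χ ≠ θ)
    (hu : ∀ ψ ∈ Tt X θ, dg ψ = dg χ → ψ = χ) (g : G) : (iv χ g : ℂ) = χ.1 g := by
  refine coe_iv (exists_int_of_forall_fixed (χ.2.isCharacter.isIntegral g) fun σ => ?_)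
  have hd : dg ⟨_, χ.2.gal σ.toRingHom⟩ = dg χ :=
    charDegree_eq (by simp only [← coe_dg χ]; exact map_natCast σ _)
  have h1 := ne_one_of_Tt h hθ hχ
  have h2 := hu ⟨_, χ.2.gal σ.toRingHom⟩ (mem_Tt_of_const h hθ (c := st X δ ε χ) (fun e => h1 ?_)
    (by rcases st_sign h χ with e | e <;> simp [e]) fun g hg => by
      simp [val_Tt h hθ hχ ht hg]) hd
  · exact congrFun (congrArg Subtype.val h2) g
  · refine Subtype.ext (funext fun x => σ.injective ?_)
    have := congrFun (congrArg Subtype.val e) x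
    simpa using this

omit hθ in
theorem sS_eq_zero {ψ : IrrCharacter G} (h1 : ψ ∉ X) (h2 : ψ ∉ Y) : sS p ψ.1 = 0 := by
  rw [br_sS h, sI, if_neg h1, if_neg h2, Int.cast_zero]

end

theorem dvd_of_out {p t : ℕ} [Fact p.Prime] {X Y : Finset (IrrCharacter G)}
    {δ : IrrCharacter G → ℤ} {ε : ℤ} {P : Sylow p G} (hC : Cpl P ⊥)
    (h : Br p ((Cen (P : Subgroup G)).relIndex (Nor (P : Subgroup G))) t X Y δ ε)
    {ψ : IrrCharacter G} (h1 : ψ ∉ X) (h2 : ψ ∉ Y) : p ∣ dg ψ := by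
  cases nonempty_fintype (P : Subgroup G)
  cases nonempty_fintype (⊥ : Subgroup G)
  have h3 := hC.master_ker ψ.2.isClassFunction bot_le
  obtain ⟨m, hm⟩ := exists_sum_eq ψ.2.isCharacter (P : Subgroup G)
  rw [sS_eq_zero h h1 h2, mul_zero, hm, ← coe_dg, hC.card, eq_comm, sub_eq_zero] at h3
  exact ⟨m, by exact_mod_cast h3.symm⟩

variable [IsSimpleGroup G]

theorem no_nine (hna : ¬ IsMulCommutative G) {χ : IrrCharacter G} (hd : dg χ = 11)
    (hi : ∀ g, (iv χ g : ℂ) = χ.1 g) {W : Subgroup G} (hW : Nat.card W = 9)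
    (h5 : ∀ u ∈ W, (5 : ℤ) ∣ 1 - iv χ u) : False := by
  classical
  have h1 : χ ≠ one G := fun e => by rw [e, dg_one] at hd; omega
  have hd' : χ.1 1 = 11 := by rw [← coe_dg, hd]; rfl
  have hp : ∀ u m, m.Coprime (orderOf u) → χ.1 (u ^ m) = iv χ u := fun u m hm => by
    rw [χ.2.isCharacter.apply_pow_of_rat u (q := iv χ u) (by rw [← hi]; simp) hm, hi]
  have h3 : ∀ u ∈ W, orderOf u = 3 → χ.1 u = -4 := fun u hu ho => by
    obtain ⟨k, hk⟩ := H43.cyc_nat χ.2.isCharacter (ho ▸ pow_orderOf_eq_one u) (c := 1) (one_pow _)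
    simp only [Finset.sum_range_succ, Finset.sum_range_zero, pow_zero, one_pow, one_mul, hd',
      hp u 1 (by simp), hp u 2 (by rw [ho]; norm_num), zero_add] at hk
    have a1 : 11 + iv χ u + iv χ u = 3 * k := by exact_mod_cast hk
    have a2 := h5 u hu
    have a3 := abs_lt.1 (iv_lt hna h1 (fun e => by rw [e, orderOf_one] at ho; omega) (hi u))
    rw [← hi, show iv χ u = -4 by omega]
    simp
  by_cases h9 : ∃ u ∈ W, orderOf u = 9
  · obtain ⟨u, hu, ho⟩ := h9
    have hζ := Complex.isPrimitiveRoot_exp 9 (by norm_num)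
    generalize Complex.exp _ = ζ at hζ
    have z1 := (hζ.pow_of_dvd (by norm_num : 3 ≠ 0) (by norm_num)).geom_sum_eq_zero (by norm_num)
    obtain ⟨k, hk⟩ := H43.cyc_nat χ.2.isCharacter (ho ▸ pow_orderOf_eq_one u) hζ.pow_eq_one
    have o3 : orderOf (u ^ 3) = 3 := by rw [orderOf_pow_of_dvd (by norm_num) (by simp [ho]), ho]
    have o6 : orderOf (u ^ 6) = 3 := by
      rw [show 6 = 3 * 2 from rfl, pow_mul, Nat.Coprime.orderOf_pow (by rw [o3]; norm_num), o3]
    simp only [Finset.sum_range_succ, Finset.sum_range_zero, pow_zero, hd',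
      hp u 1 (by simp), hp u 2 (by rw [ho]; norm_num), hp u 4 (by rw [ho]; norm_num),
      hp u 5 (by rw [ho]; norm_num), hp u 7 (by rw [ho]; norm_num), hp u 8 (by rw [ho]; norm_num),
      h3 _ (pow_mem hu 3) o3, h3 _ (pow_mem hu 6) o6] at hk z1
    have : (15 : ℂ) = 9 * k := by
      push_cast at hk
      linear_combination hk + (4 - (ζ + ζ ^ 2) * iv χ u) * z1
    have : 15 = 9 * k := by exact_mod_cast this
    omega
  · cases nonempty_fintype W
    obtain ⟨m, hm⟩ := exists_sum_eq χ.2.isCharacter W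
    rw [H43.sum_subgroup_ite le_rfl χ.1 (β := -4) (γ := 0) (fun u hu h1 => h3 u hu (by
      have a : orderOf u ∣ 3 ^ 2 := by
        rw [← orderOf_mk u hu, show 3 ^ 2 = 9 from rfl, ← hW]; exact orderOf_dvd_natCard _
      obtain ⟨j, hj, e⟩ := (Nat.dvd_prime_pow Nat.prime_three).1 a
      interval_cases j
      · exact absurd (orderOf_eq_one_iff.1 e) h1
      · exact e
      · exact absurd ⟨u, hu, e⟩ h9)) (fun u hu h => absurd hu h), hW, hd'] at hm
    have : (0 : ℂ) = 9 * m + 21 := by push_cast at hm; linear_combination hm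
    have : 0 = 9 * m + 21 := by exact_mod_cast this
    omega

theorem exists_w11 (hG : Nat.card G = 95040) : ∃ (P : Sylow 11 G) (w y : G), zpowers w = P ∧
    orderOf w = 11 ∧ Cpl P ⊥ ∧ (Cen (P : Subgroup G)).relIndex (Nor (P : Subgroup G)) = 5 ∧
    centralizer ({w} : Set G) = zpowers w ∧ Nat.card (normalizer (zpowers w : Set G)) = 55 ∧
    orderOf y = 5 ∧ y * w * y⁻¹ = w ^ 3 := by
  obtain ⟨P⟩ : Nonempty (Sylow 11 G) := inferInstance
  obtain ⟨w, hw, hP⟩ := H43.exists_gen_sylow (m := 8640) hG (by norm_num) P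
  obtain ⟨V, hV⟩ := exists_cpl (P := P) (by rw [← hP, Nat.card_zpowers, hw])
  obtain ⟨h1, h2⟩ := V11 hG hV
  obtain rfl := card_eq_one.1 h1
  have h3 := hV.card_cen
  have h4 := relIndex_mul_card_centralizer (P : Subgroup G)
  have hC : centralizer ({w} : Set G) = zpowers w :=
    (eq_of_le_of_card_ge (zpowers_le.2 (mem_centralizer_singleton.2 rfl)) (by
      rw [← H43.centralizer_zpowers', hP, h3, hV.card, h1])).symm
  have hN : Nat.card (normalizer (zpowers w : Set G)) = 55 := by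
    rw [hP, ← h4, h2, h3, h1]
  obtain ⟨y, hy, hy5⟩ := H43.exists_mem_orderOf (H := normalizer (zpowers w : Set G)) 5 (by omega)
  obtain ⟨k, hk, hyk⟩ := H43.exists_pow_of_mem_normalizer hy
  have hk1 : k ≠ 1 := by
    rintro rfl
    have : y ∈ zpowers w := hC ▸ mem_centralizer_singleton_conj.2 (by rw [hyk, pow_one])
    have := orderOf_dvd_of_mem_zpowers this
    rw [hw, hy5] at this
    omega
  have hk5 := H43.conj_pow_iter hyk 5
  rw [← hy5, pow_orderOf_eq_one, one_mul, inv_one, mul_one, hy5] at hk5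
  have hk6 : 1 ≡ k ^ 5 [MOD 11] := by
    rw [← hw, ← pow_eq_pow_iff_modEq, pow_one]; exact hk5
  rw [hw] at hk
  have : ∀ k < 11, k ≠ 1 → 1 ≡ k ^ 5 [MOD 11] → ∃ j ∈ Finset.range 5, 0 < j ∧
    k ^ j ≡ 3 [MOD 11] := by decide +kernel
  obtain ⟨j, hj5, hj0, hj⟩ := this k hk hk1 hk6
  rw [Finset.mem_range] at hj5
  refine ⟨P, w, y ^ j, hP, hw, hV, h2, hC, hN, ?_, ?_⟩
  · rw [← hy5]
    refine Nat.Coprime.orderOf_pow ?_
    rw [hy5]
    interval_cases j <;> norm_num
  · rw [H43.conj_pow_iter hyk, pow_eq_pow_iff_modEq, hw]; exact hj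

end H45.MO
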