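/- Simple groups of order `95040`: the principal block for `11`. -/
import Cfsg.Agent.H45.MO4

set_option autoImplicit false
set_option linter.unusedSectionVars false

namespace H45.MO
open Cfsg H28 H29 H39 H87 Subgroup
open scoped ComplexConjugate

variable {G : Type*} [Group G] [Fintype G]

theorem list_le {ι : Type*} [Fintype ι] {L : List ι} (hL : L.Nodup) (F : ι → ℤ) (hF : ∀ i, 0 ≤ F i) :
    (L.map F).sum ≤ ∑ i, F i := by
  classical
  rw [← List.sum_toFinset _ hL]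
  exact Finset.sum_le_sum_of_subset_of_nonneg (Finset.subset_univ _) fun i _ _ => hF i

theorem index_eq (a : G) : ((centralizer ({a} : Set G)).index : ℤ) = Nat.card G / cc a := by
  rw [← (centralizer ({a} : Set G)).index_mul_card, Nat.cast_mul,
    Int.mul_ediv_cancel _ (by exact_mod_cast Nat.card_pos.ne')]

theorem not_dvd_cc {p : ℕ} [Fact p.Prime] {w a : G} (hw : orderOf w = p)
    (hi : ¬ p ∣ (zpowers w).index) (hC : centralizer ({w} : Set G) = zpowers w)
    (ha : ¬ orderOf a ∣ p) : ¬ p ∣ cc a := fun h => by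
  obtain ⟨u, hu, hu2⟩ := H43.exists_mem_orderOf p h
  have : a ∈ zpowers u := by
    rw [← H43.cent_eq_of_orderOf hw hi hC hu2]
    exact mem_centralizer_singleton.2 (mem_centralizer_singleton.1 hu).symm
  exact ha (hu2 ▸ orderOf_dvd_of_mem_zpowers this)

theorem not_inverts {w g : G} (hw : orderOf w = 11)
    (hN : Nat.card (normalizer (zpowers w : Set G)) = 55) : g * w * g⁻¹ ≠ w⁻¹ := fun hg => by
  have hi : w⁻¹ = w ^ 10 := by
    rw [inv_eq_iff_mul_eq_one, ← pow_succ']; exact orderOf_dvd_iff_pow_eq_one.1 (by rw [hw])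
  rw [hi] at hg
  have h4 := H43.conj_pow_iter hg 55
  have h5 : g ^ 55 = 1 := by
    have := pow_card_eq_one' (x := (⟨g, H43.mem_normalizer_zpowers hg⟩ :
      normalizer (zpowers w : Set G)))
    rw [hN] at this
    exact congrArg Subtype.val this
  rw [h5, one_mul, inv_one, mul_one, eq_comm, ← pow_one w, ← pow_mul, pow_eq_pow_iff_modEq,
    hw] at h4
  revert h4
  decide +kernel

/-- The principal block for `11`. -/
structure DA (f : Fin 4 → IrrCharacter G) (θ θ' : IrrCharacter G) (δ : IrrCharacter G → ℤ)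
    (ε : ℤ) : Prop where
  nd : [one G, f 0, f 1, f 2, f 3, θ, θ'].Nodup
  out : ∀ ψ, ψ ∉ [one G, f 0, f 1, f 2, f 3, θ, θ'] → 11 ∣ dg ψ
  uni : ∀ g, ¬ 11 ∣ orderOf g → θ'.1 g = θ.1 g
  sδ : ∀ χ, δ χ = 1 ∨ δ χ = -1
  sε : ε = 1 ∨ ε = -1
  res : ∀ ψ : IrrCharacter G, Res (dg ψ)
  deg : ε * dg θ = 1 + δ (f 0) * dg (f 0) + δ (f 1) * dg (f 1) + δ (f 2) * dg (f 2) +
    δ (f 3) * dg (f 3)
  srch : ∀ a : G, orderOf a = 2 → concl11 (δ (f 0) * dg (f 0)) (δ (f 1) * dg (f 1))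
    (δ (f 2) * dg (f 2)) (δ (f 3) * dg (f 3)) (cc a) (δ (f 0) * iv (f 0) a) (δ (f 1) * iv (f 1) a)
    (δ (f 2) * iv (f 2) a) (δ (f 3) * iv (f 3) a) ∧ ε * iv θ a = 1 + δ (f 0) * iv (f 0) a +
      δ (f 1) * iv (f 1) a + δ (f 2) * iv (f 2) a + δ (f 3) * iv (f 3) a

theorem sign_mul_self {s : ℤ} (hs : s = 1 ∨ s = -1) (x : ℤ) : s * x * (s * x) = x ^ 2 := by
  rcases hs with rfl | rfl <;> ring

variable [IsSimpleGroup G]

theorem exists_DA (hG : Nat.card G = 95040) {P : Sylow 11 G} {w : G} (hP : zpowers w = P)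
    (hw : orderOf w = 11) (hV : Cpl P ⊥)
    (he : (Cen (P : Subgroup G)).relIndex (Nor (P : Subgroup G)) = 5)
    (hC : centralizer ({w} : Set G) = zpowers w)
    (hN : Nat.card (normalizer (zpowers w : Set G)) = 55) :
    ∃ (f : Fin 4 → IrrCharacter G) (θ θ' : IrrCharacter G) (δ : IrrCharacter G → ℤ) (ε : ℤ),
      DA f θ θ' δ ε := by
  classical
  have hna := nonab hG
  obtain ⟨t, X, Y, δ, ε, h⟩ := exists_br H37.cycK P hV.card
  change Br 11 ((Cen (P : Subgroup G)).relIndex (Nor (P : Subgroup G))) t X Y δ ε at h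
  have h' := h
  rw [he] at h'
  obtain rfl : t = 2 := by have := h'.te; omega
  obtain ⟨θ, θ', hne, hY⟩ := Finset.card_eq_two.1 h.cardY
  have hθ : θ ∈ Y := by simp [hY]
  have hθ' : θ' ∈ Y := by simp [hY]
  obtain ⟨f, hf, hm, hmono⟩ := exists_enum (k := 4) (X.erase (one G))
    (by rw [Finset.card_erase_of_mem h.one_mem, h'.cardX]) fun χ => δ χ * dg χ
  have hfX : ∀ i, f i ≠ one G ∧ f i ∈ X := fun i => Finset.mem_erase.1 ((hm _).2 ⟨i, rfl⟩)
  have hsum : ∀ F : IrrCharacter G → ℤ → ℤ, ∑ χ ∈ Tt X θ, F χ (st X δ ε χ) = F θ (-ε) +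
      (F (f 0) (δ (f 0)) + F (f 1) (δ (f 1)) + F (f 2) (δ (f 2)) + F (f 3) (δ (f 3))) := fun F => by
    rw [Tt, Finset.sum_insert fun h1 =>
      Finset.disjoint_right.1 h.disj hθ (Finset.mem_of_mem_erase h1), st_θ h hθ, sum_enum hf hm,
      Fin.sum_univ_four]
    simp only [st, if_pos (hfX _).2]
  have nd : [one G, f 0, f 1, f 2, f 3, θ, θ'].Nodup := by
    have a := fun i => h.ne_XY (hfX i).2 hθ
    have b := fun i => h.ne_XY (hfX i).2 hθ'
    have c := fun i => (hfX i).1.symm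
    simp [hf.eq_iff, a, b, c, hne, (h.ne_one hθ).symm, (h.ne_one hθ').symm]
  have out : ∀ ψ, ψ ∉ [one G, f 0, f 1, f 2, f 3, θ, θ'] → 11 ∣ dg ψ := fun ψ hψ => by
    simp only [List.mem_cons, List.not_mem_nil, or_false, not_or] at hψ
    refine dvd_of_out hV h (fun hX => ?_) (by simp [hY, hψ])
    obtain ⟨i, rfl⟩ := (hm ψ).1 (Finset.mem_erase.2 ⟨hψ.1, hX⟩)
    fin_cases i <;> simp at hψ
  have hi : (centralizer ({w} : Set G)).index = 8640 := by
    rw [hC, H43.index_zpowers (m := 8640) hw hG]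
  have mX : ∀ i, δ (f i) * dg (f i) ∈ X11 := fun i => mem_X11 (h.sδ _)
    (hi ▸ h.dg_X_dvd (hfX i).2 hw.symm.dvd) (hG ▸ dg_sq_le _)
    (fun e => (hfX i).1 (eq_one_of_dg (commutator_eq_top hna) e)) (br_dvd_sub_one h (hfX i).2)
  have mE : ε * dg θ ∈ E11 := mem_E11 h.sε (hi ▸ h.dg_Y_dvd hθ hw.symm.dvd) (hG ▸ dg_sq_le _)
    (br_dvd_Y h' hθ)
  have deg := deg_Tt h hθ
  rw [hsum fun χ s => s * dg χ] at deg
  replace deg : ε * dg θ = 1 + δ (f 0) * dg (f 0) + δ (f 1) * dg (f 1) + δ (f 2) * dg (f 2) +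
    δ (f 3) * dg (f 3) := by linarith
  refine ⟨f, θ, θ', δ, ε, nd, out, fun g hg => h.uni hθ' hθ hg, h.sδ, h.sε, fun ψ => ?_, deg,
    fun a ha => ?_⟩
  · by_cases hX : ψ ∈ X
    · have := br_dvd_sub_one h hX
      rcases h.sδ ψ with e | e <;> rw [e] at this <;> omega
    by_cases hY : ψ ∈ Y
    · have := br_dvd_Y h' hY
      rcases h.sε with e | e <;> rw [e] at this <;> omega
    · have := dvd_of_out hV h hX hY
      omega
  have ha2 := H83.mul_self_of_orderOf_two ha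
  have lin := reg_Tt h hθ (g := a) (by rw [ha]; norm_num) (ic_inv ha2)
  rw [hsum fun χ s => s * iv χ a] at lin
  replace lin : ε * iv θ a = 1 + δ (f 0) * iv (f 0) a +
      δ (f 1) * iv (f 1) a + δ (f 2) * iv (f 2) a + δ (f 3) * iv (f 3) a := by linarith
  have q := inv_int hV (by norm_num) h hP ha2 ha2 hθ
  rw [show Iv w a = ∅ from Finset.eq_empty_of_forall_notMem fun x hx =>
    not_inverts hw hN (mem_Iv.1 hx).2, hsum fun χ s => s * iv χ a * (s * iv χ a) *
      (Nat.card G / (s * dg χ)), hG, neg_mul ε, neg_mul ε, neg_mul_neg, Int.ediv_neg, lin, deg] at q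
  have ok := fun χ h1 s hs => ok_inv hna (χ := χ) h1 ha (σ := s) hs
  rw [index_eq, hG] at ok
  have oE := ok θ (h.ne_one hθ) ε h.sε
  rw [lin, deg] at oE
  refine ⟨search11 (mX 0) (mX 1) (mX 2) (mX 3) (hmono (by decide)) (hmono (by decide))
    (hmono (by decide)) (deg ▸ mE) ?_ (mem_C2 (hG ▸ card_subgroup_dvd_card _)
      (not_dvd_cc hw (by rw [H43.index_zpowers (m := 8640) hw hG]; norm_num) hC
        (by rw [ha]; norm_num)) (ha ▸ orderOf_dvd_natCard _ (mem_centralizer_singleton.2 rfl)))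
    (ok _ (hfX 0).1 _ (h.sδ _)) (ok _ (hfX 1).1 _ (h.sδ _)) (ok _ (hfX 2).1 _ (h.sδ _))
    (ok _ (hfX 3).1 _ (h.sδ _)) oE ?_ ?_, lin⟩
  · have := list_le nd (fun χ => (dg χ : ℤ) ^ 2) fun _ => sq_nonneg _
    rw [sum_dg_sq, hG] at this
    simp only [List.map_cons, List.sum_cons, List.map_nil, List.sum_nil, dg_one,
      h.dg_eq hθ' hθ] at this
    rw [← deg]
    simp only [sign_mul_self (h.sδ _), sign_mul_self h.sε]
    push_cast at this
    linarith
  · simp only [Finset.card_empty, card_bot] at q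
    push_cast at q
    linarith
  · have := list_le nd (fun χ => iv χ a ^ 2) fun _ => sq_nonneg _
    rw [(ic_inv ha2).sum_sq] at this
    simp only [List.map_cons, List.sum_cons, List.map_nil, List.sum_nil, iv_triv,
      show iv θ' a = iv θ a by rw [iv, iv, h.uni hθ' hθ (by rw [ha]; norm_num)]] at this
    rw [← lin]
    simp only [sign_mul_self (h.sδ _), sign_mul_self h.sε]
    linarith

end H45.MO
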