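/- Arithmetic searches for simple groups of order `95040`, second part. -/
import Cfsg.Agent.H45.MOA

set_option autoImplicit false

namespace H45.MO

/-- The types of involutions centralizing an element of order `5`. -/
def TY : List (ℤ × ℤ × ℤ × ℤ) := [(120, 4, 4, 110), (240, 4, 4, 110), (120, -4, -4, 110),
  (240, -4, -4, 110), (1440, -8, 24, 1254)]

/-- The solutions of the degree equation for `5`. -/
def S5 : List (ℤ × ℤ × ℤ × ℤ) := [(-44, 11, 16, 16), (-144, 11, 66, 66), (-144, -44, 11, 176),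
  (-99, 16, 16, 66), (-144, -99, 66, 176)]

/-- Conditions on a value at an involution centralizing an element of order `5`. -/
abbrev Ok5 (a b d u : ℤ) : Prop := (d - u) % 20 = 0 ∧ (d = 16 → u = a) ∧ (d = -144 → u = -b)

/-- The contribution to the norm. -/
def wt (d u : ℤ) : ℤ := if d % 11 = 0 then u * u else 0

set_option synthInstance.maxSize 2000 in
theorem chk5 : ∀ T ∈ TY, ∀ D ∈ S5, ∀ u1 ∈ cand D.1 (95040 / T.1) T.1, Ok5 T.2.1 T.2.2.1 D.1 u1 →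
    ∀ u2 ∈ cand D.2.1 (95040 / T.1) T.1, Ok5 T.2.1 T.2.2.1 D.2.1 u2 →
    ∀ u3 ∈ cand D.2.2.1 (95040 / T.1) T.1, Ok5 T.2.1 T.2.2.1 D.2.2.1 u3 →
    ∀ u4 ∈ cand D.2.2.2 (95040 / T.1) T.1, (Ok5 T.2.1 T.2.2.1 D.2.2.2 u4 ∧
      1 + (u1 + u2 + u3 + u4) = 0 ∧
      T.2.2.2 + (wt D.1 u1 + wt D.2.1 u2 + wt D.2.2.1 u3 + wt D.2.2.2 u4) ≤ T.1) →
    T.1 = 240 ∧ ((D = (-144, -99, 66, 176) ∧ u1 = -4 ∧ u2 = 1 ∧ u3 = 6 ∧ u4 = -4) ∨
      (D = (-99, 16, 16, 66) ∧ u1 = 1 ∧ u2 = -4 ∧ u3 = -4 ∧ u4 = 6)) := by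
  decide +kernel

end H45.MO
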