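/- Simple groups of order `95040`: the principal block for `5`. -/
import Cfsg.Agent.H45.MO5
import Cfsg.Agent.H45.MOB

set_option autoImplicit false
set_option linter.unusedSectionVars false

namespace H45.MO
open Cfsg H28 H29 H39 H87 Subgroup
open scoped ComplexConjugate

variable {G : Type*} [Group G] [Fintype G]

theorem exists_conj_pow {p : ℕ} (hp : p.Prime) {y : G} (hy : orderOf y = p)
    (h : (Cen (zpowers y)).relIndex (Nor (zpowers y)) + 1 = p) {k : ℕ} (hk : p.Coprime k) :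
    ∃ g : G, g * y * g⁻¹ = y ^ k := by
  have := Fact.mk hp
  have hP : Nat.card (zpowers y) = p := by rw [Nat.card_zpowers, hy]
  have hc : IsCyclic (zpowers y) := isCyclic_of_prime_card hP
  have h1 : (zpowers y).normalizerMonoidHom.range = ⊤ := by
    rw [← card_eq_iff_eq_top, ← index_ker, normalizerMonoidHom_ker, hc.card_mulAut, hP,
      Nat.totient_prime hp]
    exact Nat.eq_sub_of_add_eq h
  let σ : MulAut (zpowers y) := { powCoprime (hP ▸ hk) with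
    map_mul' := fun a b => Commute.mul_pow (hc.isMulCommutative.is_comm.comm a b) k }
  obtain ⟨g, hg⟩ : σ ∈ (zpowers y).normalizerMonoidHom.range := h1 ▸ mem_top σ
  have h2 := congrArg Subtype.val (DFunLike.congr_fun hg ⟨y, mem_zpowers y⟩)
  exact ⟨g, h2⟩

theorem exists_central_inv {n : ℕ} (h : 2 ^ (n + 1) ∣ Nat.card G) :
    ∃ z : G, orderOf z = 2 ∧ 2 ^ (n + 1) ∣ cc z := by
  obtain ⟨S, hS⟩ := Sylow.exists_subgroup_card_pow_prime 2 h
  have hp : IsPGroup 2 S := IsPGroup.of_card hS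
  have : Nontrivial S := Finite.one_lt_card_iff_nontrivial.1 (hS ▸ Nat.one_lt_two_pow (by omega))
  have := hp.center_nontrivial
  obtain ⟨k, hk0, hk⟩ := (hp.to_subgroup (center S)).nontrivial_iff_card.1 this
  obtain ⟨z, hz, hz2⟩ := H43.exists_mem_orderOf (H := center S) 2 (hk ▸ dvd_pow_self 2 hk0.ne')
  refine ⟨z, by rw [Subgroup.orderOf_coe, hz2], hS ▸ card_dvd_of_le fun x hx =>
    mem_centralizer_singleton.2 (congrArg Subtype.val (mem_center_iff.1 hz ⟨x, hx⟩))⟩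

variable [IsSimpleGroup G] {e t : ℕ} {X Y : Finset (IrrCharacter G)} {δ : IrrCharacter G → ℤ}
  {ε : ℤ} {θ : IrrCharacter G}

theorem dg_ne_one (hG : Nat.card G = 95040) {χ : IrrCharacter G} (h : χ ≠ one G) : dg χ ≠ 1 :=
  fun e => h (eq_one_of_dg (commutator_eq_top (nonab hG)) e)

theorem five_two (hG : Nat.card G = 95040) (hr : ∀ ψ : IrrCharacter G, Res (dg ψ))
    (h : Br 5 2 t X Y δ ε) (hθ : θ ∈ Y) : ∃ χ ψ, χ ∈ Tt X θ ∧ χ ≠ θ ∧ dg χ = 11 ∧
      st X δ ε χ = 1 ∧ dg ψ = 12 ∧ ψ ∈ Tt X θ ∧ ∀ η ∈ Tt X θ, η = χ ∨ η = ψ := by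
  obtain ⟨f, hf, hm, hmono⟩ := exists_enum (k := 2) (Tt X θ) (card_Tt h hθ)
    fun χ => st X δ ε χ * dg χ
  have h1 := deg_Tt h hθ
  rw [sum_enum hf hm, Fin.sum_univ_two] at h1
  have h2 : st X δ ε (f 0) * dg (f 0) ≤ st X δ ε (f 1) * dg (f 1) := hmono (by decide)
  have m := fun i => (hm _).2 ⟨i, rfl⟩
  have a0 := dg_pos (f 0)
  have a1 := dg_pos (f 1)
  have a2 := dg_Tt_mod h hθ (m 1)
  have b : st X δ ε (f 1) = 1 ∧ dg (f 0) = dg (f 1) + 1 := by
    rcases st_sign h (f 0) with e | e <;> rcases st_sign h (f 1) with e' | e' <;>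
      rw [e, e'] at h1 h2 <;> omega
  rw [b.1] at a2
  have c := sol2 (hG ▸ dg_dvd (f 1)) (b.2 ▸ hG ▸ dg_dvd (f 0)) (hG ▸ dg_sq_le _)
    (dg_ne_one hG (ne_one_of_Tt h hθ (m 1))) (hr _) (b.2 ▸ hr _) (by omega)
  refine ⟨f 1, f 0, m 1, fun e => ?_, c, b.1, by omega, m 0, fun η hη => ?_⟩
  · have := br_dvd_Y h hθ
    rw [← e, c] at this
    rcases h.sε with e | e <;> rw [e] at this <;> omega
  · obtain ⟨i, rfl⟩ := (hm η).1 hη
    fin_cases i <;> simp

theorem five_four (hG : Nat.card G = 95040) (hr : ∀ ψ : IrrCharacter G, Res (dg ψ))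
    (h : Br 5 4 t X Y δ ε) (hθ : θ ∈ Y) : ∃ g : Fin 4 → IrrCharacter G, Function.Injective g ∧
      (∀ χ, χ ∈ Tt X θ ↔ ∃ i, g i = χ) ∧ (st X δ ε (g 0) * dg (g 0), st X δ ε (g 1) * dg (g 1),
        st X δ ε (g 2) * dg (g 2), st X δ ε (g 3) * dg (g 3)) ∈ S5 := by
  obtain ⟨f, hf, hm, hmono⟩ := exists_enum (k := 4) (Tt X θ) (card_Tt h hθ)
    fun χ => st X δ ε χ * dg χ
  have h1 := deg_Tt h hθ
  rw [sum_enum hf hm, Fin.sum_univ_four] at h1
  have m : ∀ i, st X δ ε (f i) * dg (f i) ∈ L5 := fun i => mem_L5 (st_sign h _) (hG ▸ dg_dvd _)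
    (hG ▸ dg_sq_le _) (dg_ne_one hG (ne_one_of_Tt h hθ ((hm _).2 ⟨i, rfl⟩)))
    (by have := dg_Tt_mod h hθ ((hm _).2 ⟨i, rfl⟩); omega) (hr _)
  refine ⟨f, hf, hm, ?_⟩
  simpa [S5] using sol5 _ (m 0) _ (m 1) (hmono (by decide)) _ (m 2) (hmono (by decide)) _ (m 3)
    (hmono (by decide)) h1

theorem sign_eq {s : ℤ} (hs : s = 1 ∨ s = -1) {d : ℕ} {n : ℕ} (hn : 0 < n) :
    (s * d = n ↔ s = 1 ∧ d = n) ∧ (s * d = -n ↔ s = -1 ∧ d = n) := by
  rcases hs with rfl | rfl <;> omega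

theorem even_V5 (hG : Nat.card G = 95040) (hr : ∀ ψ : IrrCharacter G, Res (dg ψ))
    {P : Sylow 5 G} {V : Subgroup G} (hC : Cpl P V) (h11 : ¬ 11 ∣ Nat.card V) :
    2 ∣ Nat.card V := by
  by_contra h2
  have hna := nonab hG
  obtain ⟨t, X, Y, δ, ε, h⟩ := exists_br H37.cycK P hC.card
  obtain ⟨θ, hθ⟩ := h.Y_nonempty
  obtain ⟨y, hy, hP⟩ := H43.exists_gen_sylow (m := 19008) hG (by norm_num) P
  have h1 := card_eq_of_cpl hC
  have h3 := two_le_e hna (by rw [hG]; norm_num) P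
  have h4 := index_cen hC hP
  have h5 : Nat.card (Sylow 5 G) % 5 = 1 := card_sylow_modEq_one 5 G
  have hte := h.te
  change Br 5 ((Cen (P : Subgroup G)).relIndex (Nor (P : Subgroup G))) t X Y δ ε at h
  change t * (Cen (P : Subgroup G)).relIndex (Nor (P : Subgroup G)) + 1 = 5 at hte
  generalize (Cen (P : Subgroup G)).relIndex (Nor (P : Subgroup G)) = e at *
  have he : e = 2 ∨ e = 4 := by
    have : e ∣ 4 := ⟨t, by linarith⟩
    have := Nat.le_of_dvd (by norm_num) this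
    interval_cases e <;> omega
  have hv : Nat.card V = 1 ∨ Nat.card V = 3 ∨ Nat.card V = 9 ∨ Nat.card V = 27 := by
    have : ∀ v ∈ Nat.divisors 19008, (¬ 2 ∣ v ∧ ¬ 11 ∣ v) → v = 1 ∨ v = 3 ∨ v = 9 ∨ v = 27 := by
      decide +kernel
    exact this _ (Nat.mem_divisors.2 ⟨⟨Nat.card (Sylow 5 G) * e, by linarith⟩, by norm_num⟩)
      ⟨h2, h11⟩
  rw [hG] at h1
  have hv' : (e = 2 ∧ Nat.card V = 9) ∨ (e = 4 ∧ Nat.card V = 27) := by
    rcases he with rfl | rfl <;> rcases hv with a | a | a | a <;> rw [a] at h1 <;> omega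
  obtain ⟨W, hW⟩ := Sylow.exists_subgroup_card_pow_prime (G := V) 3 (n := 2) (by omega)
  have key : ∀ χ ∈ Tt X θ, (t = 1 ∨ χ ≠ θ) → dg χ = 11 → st X δ ε χ = 1 →
      (∀ ψ ∈ Tt X θ, dg ψ = dg χ → ψ = χ) → False := fun χ hχ ht hd hs hu => by
    have hi := int_of_unique h hθ hχ ht hu
    refine no_nine hna hd hi (W := W.map V.subtype)
      (by rw [card_map_of_injective (subtype_injective _), hW]; rfl) fun u hu => ?_
    have hu' := map_subtype_le W hu
    have := iv_cong (p := 5) (by norm_num) (hy ▸ pow_orderOf_eq_one y)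
      (hC.le hu' y (hP.le (mem_zpowers y))) (hi _) (hi u)
    rwa [iv_eq (val_Tt h hθ hχ ht (hC.dvd_order (hP.le (mem_zpowers y))
      (fun e => by rw [e, orderOf_one] at hy; omega) hu')), hs] at this
  rcases hv' with ⟨rfl, hv'⟩ | ⟨rfl, hv'⟩
  · obtain ⟨χ, ψ, a1, a2, a3, a4, a5, -, a6⟩ := five_two hG hr h hθ
    exact key χ a1 (Or.inr a2) a3 a4 fun η hη e => (a6 η hη).resolve_right fun e' => by
      rw [e'] at e; omega
  · obtain ⟨g, -, hm, hS⟩ := five_four hG hr h hθ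
    have hd : ∀ i, dg (g i) ∣ 704 := fun i => by
      have := dg_Tt_dvd h hθ ((hm _).2 ⟨i, rfl⟩) hy.symm.dvd
      rwa [h4, show Nat.card (Sylow 5 G) * 4 = 704 by rw [hv'] at h1; omega] at this
    have s := fun i n hn => sign_eq (st_sign h (g i)) (d := dg (g i)) (n := n) hn
    simp only [S5, List.mem_cons, Prod.mk.injEq, List.not_mem_nil, or_false] at hS
    have d0 := hd 0
    rcases hS with a | a | a | a | a
    · have b0 := ((s 0 44 (by omega)).2.1 a.1).2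
      have b1 := (s 1 11 (by omega)).1.1 a.2.1
      have b2 := ((s 2 16 (by omega)).1.1 a.2.2.1).2
      have b3 := ((s 3 16 (by omega)).1.1 a.2.2.2).2
      refine key (g 1) ((hm _).2 ⟨1, rfl⟩) (Or.inl (by omega)) b1.2 b1.1 fun η hη e => ?_
      obtain ⟨i, rfl⟩ := (hm η).1 hη
      fin_cases i <;> simp at e ⊢ <;> omega
    · rw [((s 0 144 (by omega)).2.1 a.1).2] at d0; omega
    · rw [((s 0 144 (by omega)).2.1 a.1).2] at d0; omega
    · rw [((s 0 99 (by omega)).2.1 a.1).2] at d0; omega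
    · rw [((s 0 144 (by omega)).2.1 a.1).2] at d0; omega

end H45.MO
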