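/- Simple groups of order `95040`: both principal blocks are determined. -/
import Cfsg.Agent.H45.MO6

set_option autoImplicit false
set_option linter.unusedSectionVars false

namespace H45.MO
open Cfsg H28 H29 H39 H87 Subgroup
open scoped ComplexConjugate

variable {G : Type*} [Group G] [Fintype G]

/-- The principal block for `11`, determined. -/
structure D11 (c120 c54 c45 c144 θ θ' : IrrCharacter G) : Prop where
  nd : [one G, c120, c54, c45, c144, θ, θ'].Nodup
  out : ∀ ψ, ψ ∉ [one G, c120, c54, c45, c144, θ, θ'] → 11 ∣ dg ψ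
  uni : ∀ g, ¬ 11 ∣ orderOf g → θ'.1 g = θ.1 g
  d120 : dg c120 = 120
  d54 : dg c54 = 54
  d45 : dg c45 = 45
  d144 : dg c144 = 144
  d16 : dg θ = 16
  typ : ∀ a : G, orderOf a = 2 → (cc a = 192 ∧ iv c120 a = -8 ∧ iv c54 a = 6 ∧ iv c45 a = -3 ∧
    iv c144 a = 0 ∧ iv θ a = 0) ∨ (5 ∣ cc a ∧ ((cc a : ℤ), iv θ a, iv c144 a, 1 + iv c120 a ^ 2 +
      iv c54 a ^ 2 + iv c45 a ^ 2 + iv c144 a ^ 2 + 2 * iv θ a ^ 2) ∈ TY ∧
      (cc a = 240 → iv c120 a = 0 ∧ iv c54 a = 6 ∧ iv c45 a = 5))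

theorem DA.d11 (hG : Nat.card G = 95040) {f : Fin 4 → IrrCharacter G} {θ θ' : IrrCharacter G}
    {δ : IrrCharacter G → ℤ} {ε : ℤ} (A : DA f θ θ' δ ε) {s : G} (hs : orderOf s = 2)
    (h5 : 5 ∣ cc s) : D11 (f 0) (f 1) (f 2) (f 3) θ θ' := by
  obtain ⟨z, hz, hz'⟩ := exists_central_inv (G := G) (n := 5) (by rw [hG]; norm_num)
  have h1 : δ (f 0) * dg (f 0) = -120 ∧ δ (f 1) * dg (f 1) = -54 ∧ δ (f 2) * dg (f 2) = 45 ∧
      δ (f 3) * dg (f 3) = 144 := by
    rcases (A.srch s hs).1 with h | h | h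
    · exact ⟨h.1, h.2.1, h.2.2.1, h.2.2.2.1⟩
    · rcases (A.srch z hz).1 with k | k | k
      · omega
      · omega
      · exact absurd ⟨h.1, h.2.1, h.2.2.1, h.2.2.2.1⟩ k.2.1
    · omega
  have h2 := A.deg
  rw [h1.1, h1.2.1, h1.2.2.1, h1.2.2.2] at h2
  obtain ⟨a0, b0⟩ := (sign_eq (A.sδ _) (n := 120) (by omega)).2.1 h1.1
  obtain ⟨a1, b1⟩ := (sign_eq (A.sδ _) (n := 54) (by omega)).2.1 h1.2.1
  obtain ⟨a2, b2⟩ := (sign_eq (A.sδ _) (n := 45) (by omega)).1.1 h1.2.2.1
  obtain ⟨a3, b3⟩ := (sign_eq (A.sδ _) (n := 144) (by omega)).1.1 h1.2.2.2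
  obtain ⟨a4, b4⟩ := (sign_eq A.sε (n := 16) (by omega)).1.1 h2
  refine ⟨A.nd, A.out, A.uni, b0, b1, b2, b3, b4, fun a ha => ?_⟩
  obtain ⟨k, l⟩ := A.srch a ha
  rw [a0, a1, a2, a3, a4] at l
  rw [a0, a1, a2, a3, b0, b1, b2, b3] at k
  rcases k with ⟨-, -, -, -, k | k | k⟩ | k | k
  · left; omega
  · right
    have e1 : iv (f 0) a = 0 := by omega
    have e2 : iv (f 1) a = 6 := by omega
    have e3 : iv (f 2) a = 5 := by omega
    have e4 : iv θ a = iv (f 3) a := by omega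
    rw [e1, e2, e3, e4]
    obtain ⟨c | c, -, -, -, d | d⟩ := k <;> rw [one_mul] at d <;> rw [c, d] <;>
      exact ⟨by omega, by decide, by simp⟩
  · right
    have e1 : iv (f 0) a = 0 := by omega
    have e2 : iv (f 1) a = 18 := by omega
    have e3 : iv (f 2) a = -15 := by omega
    have e4 : iv θ a = -8 := by omega
    have e5 : iv (f 3) a = 24 := by omega
    rw [e1, e2, e3, e4, e5, k.1]
    exact ⟨by omega, by decide, by omega⟩
  · omega
  · exact absurd (by norm_num) k.1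

theorem D11.d16' {c120 c54 c45 c144 θ θ' : IrrCharacter G} (A : D11 c120 c54 c45 c144 θ θ') :
    dg θ' = 16 := (charDegree_congr (A.uni 1 (by simp))).trans A.d16

theorem D11.iv' {c120 c54 c45 c144 θ θ' : IrrCharacter G} (A : D11 c120 c54 c45 c144 θ θ')
    {g : G} (hg : ¬ 11 ∣ orderOf g) : iv θ' g = iv θ g := by rw [iv, iv, A.uni g hg]

theorem D11.cases {c120 c54 c45 c144 θ θ' : IrrCharacter G} (A : D11 c120 c54 c45 c144 θ θ')
    (ψ : IrrCharacter G) : 11 ∣ dg ψ ∨ (ψ = one G ∧ dg ψ = 1) ∨ (ψ = c120 ∧ dg ψ = 120) ∨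
      (ψ = c54 ∧ dg ψ = 54) ∨ (ψ = c45 ∧ dg ψ = 45) ∨ (ψ = c144 ∧ dg ψ = 144) ∨
      ((ψ = θ ∨ ψ = θ') ∧ dg ψ = 16) := by
  by_cases h : ψ ∈ [one G, c120, c54, c45, c144, θ, θ']
  · simp only [List.mem_cons, List.not_mem_nil, or_false] at h
    rcases h with rfl | rfl | rfl | rfl | rfl | rfl | rfl <;>
      simp [dg_one, A.d120, A.d54, A.d45, A.d144, A.d16, A.d16']
  · exact Or.inl (A.out ψ h)

/-- The centralizer of an element of order `5`. -/
structure DC (y s : G) : Prop where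
  hy : orderOf y = 5
  hs : orderOf s = 2
  cm : Commute y s
  cen : ∀ c, Commute c y → ∃ k : ℕ, c = y ^ k ∨ c = y ^ k * s

namespace DC
variable {y s : G} (C : DC y s)
include C

theorem ss : s * s = 1 := H83.mul_self_of_orderOf_two C.hs

theorem y_ne : y ≠ 1 := fun e => by have := C.hy; rw [e, orderOf_one] at this; omega

theorem eq_s {c : G} (hc : orderOf c = 2) (h : Commute c y) : c = s := by
  have h2 := H83.mul_self_of_orderOf_two hc
  have key : ∀ k : ℕ, y ^ k * y ^ k = 1 → y ^ k = 1 := fun k hk => by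
    rw [← pow_add, ← orderOf_dvd_iff_pow_eq_one, C.hy] at hk
    rw [← orderOf_dvd_iff_pow_eq_one, C.hy]
    omega
  obtain ⟨k, rfl | rfl⟩ := C.cen c h
  · rw [key k h2, orderOf_one] at hc; omega
  · rw [mul_assoc, ← mul_assoc s, ← (C.cm.pow_left k).eq, mul_assoc, C.ss, mul_one] at h2
    rw [key k h2, one_mul]

theorem conj_s {g : G} (hg : g ∈ normalizer (zpowers y : Set G)) : g * s * g⁻¹ = s := by
  refine C.eq_s (by rw [H83.orderOf_conj, C.hs]) ?_
  obtain ⟨k, -, hk⟩ := H43.exists_pow_of_mem_normalizer (inv_mem hg)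
  have : y = g * y ^ k * g⁻¹ := by rw [← hk]; group
  rw [this]
  exact (C.cm.symm.pow_right k).conj g

theorem isConj_pow {g : G} (hg : g * y * g⁻¹ = y ^ 2) {v : G} (hv : v = 1 ∨ v = s) {k : ℕ}
    (hk : ¬ 5 ∣ k) : IsConj (y * v) (y ^ k * v) := by
  have : ∀ k < 5, k ≠ 0 → ∃ j < 4, 2 ^ j ≡ k [MOD 5] := by decide
  obtain ⟨j, -, hj⟩ := this (k % 5) (by omega) (by omega)
  have h1 : y ^ 2 ^ j = y ^ k := by
    rw [pow_eq_pow_iff_modEq, C.hy]; exact hj.trans (Nat.mod_modEq k 5)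
  refine isConj_iff.2 ⟨g ^ j, ?_⟩
  rw [← h1, ← H43.conj_pow_iter hg, ← conj_mul]
  rcases hv with rfl | rfl
  · simp
  · rw [C.conj_s (pow_mem (H43.mem_normalizer_zpowers hg) j)]

end DC

/-- The principal block for `5`, determined. -/
structure DB (y s : G) (c144 c99 c66 c176 : IrrCharacter G) : Prop extends DC y s where
  cC : cc y = 10
  cN : Nat.card (normalizer (zpowers y : Set G)) = 40
  rat : ∃ g, g * y * g⁻¹ = y ^ 2
  cs : cc s = 240
  Is : (Iv y s).card = 5
  nd : [one G, c144, c99, c66, c176].Nodup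
  d99 : dg c99 = 99
  d66 : dg c66 = 66
  d176 : dg c176 = 176
  val : ∀ g, 5 ∣ orderOf g → c144.1 g = -1 ∧ c99.1 g = -1 ∧ c66.1 g = 1 ∧ c176.1 g = 1
  reg : ∀ g, ¬ 5 ∣ orderOf g → IC g → 1 - iv c144 g - iv c99 g + iv c66 g + iv c176 g = 0
  out : ∀ ψ, ψ ∉ [one G, c144, c99, c66, c176] → ψ.1 y + ψ.1 (y * s) = 0
  inv : ∀ a b : G, a * a = 1 → b * b = 1 → ((Iv y a).card * (Iv y b).card * (cc a * cc b) : ℤ) =
    10 * (95040 - iv c144 a * iv c144 b * 660 - iv c99 a * iv c99 b * 960 +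
      iv c66 a * iv c66 b * 1440 + iv c176 a * iv c176 b * 540)
  vs : iv c144 s = 4 ∧ iv c99 s = -1 ∧ iv c66 s = 6 ∧ iv c176 s = -4

theorem card_V {n v : ℕ} (h : 95040 = n * 4 * 5 * v) (hn : n % 5 = 1) (h1 : 16 ∣ n * 4)
    (h2 : 99 ∣ n * 4) : v = 2 ∨ v = 12 := by
  obtain ⟨k, rfl⟩ : 396 ∣ n := by omega
  have h3 : k * v = 12 := by linarith
  have : k ≤ 12 := Nat.le_of_dvd (by norm_num) ⟨v, h3.symm⟩
  interval_cases k <;> omega

theorem not_sq {x a b : ℤ} (n : ℤ) (hx : 0 ≤ x) (hn : 0 ≤ n) (h : x * x * a = b) (ha : 0 < a)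
    (h1 : n * n * a < b) (h2 : b < (n + 1) * (n + 1) * a) : False := by
  rcases le_or_gt x n with k | k
  · nlinarith [mul_le_mul k k hx hn]
  · nlinarith [mul_le_mul (show n + 1 ≤ x from k) (show n + 1 ≤ x from k) (by omega) hx]

variable [IsSimpleGroup G]

theorem exists_DB (hG : Nat.card G = 95040) {c120 c54 c45 c144 θ1 θ2 : IrrCharacter G}
    (A : D11 c120 c54 c45 c144 θ1 θ2) (hr : ∀ ψ : IrrCharacter G, Res (dg ψ)) {P : Sylow 5 G}
    {V : Subgroup G} (hC : Cpl P V) {y s : G} (hP : zpowers y = P) (hy : orderOf y = 5)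
    (hsV : s ∈ V) (hs : orderOf s = 2) : ∃ c99 c66 c176, DB y s c144 c99 c66 c176 := by
  classical
  have hna := nonab hG
  obtain ⟨t, X, Y, δ, ε, h⟩ := exists_br H37.cycK P hC.card
  obtain ⟨θ, hθ⟩ := h.Y_nonempty
  have h1 := card_eq_of_cpl hC
  have h3 := two_le_e hna (by rw [hG]; norm_num) P
  have h4 := index_cen hC hP
  have h5 : Nat.card (Sylow 5 G) % 5 = 1 := card_sylow_modEq_one 5 G
  have hte := h.te
  change Br 5 ((Cen (P : Subgroup G)).relIndex (Nor (P : Subgroup G))) t X Y δ ε at h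
  change t * (Cen (P : Subgroup G)).relIndex (Nor (P : Subgroup G)) + 1 = 5 at hte
  have he : (Cen (P : Subgroup G)).relIndex (Nor (P : Subgroup G)) = 4 := by
    generalize (Cen (P : Subgroup G)).relIndex (Nor (P : Subgroup G)) = e at *
    have : e ∣ 4 := ⟨t, by linarith⟩
    have := Nat.le_of_dvd (by norm_num) this
    interval_cases e
    · obtain ⟨-, ψ, -, -, -, -, a5, -⟩ := five_two hG hr h hθ
      have := A.cases ψ
      omega
    · omega
    · rfl
  have h' := h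
  rw [he] at h' h1 h4 hte
  have ht : t = 1 := by omega
  obtain ⟨g, hg, hm, hS⟩ := five_four hG hr h' hθ
  have mg := fun i => (hm _).2 ⟨i, rfl⟩
  have ng := fun i => ne_one_of_Tt h hθ (mg i)
  have hs2 := H83.mul_self_of_orderOf_two hs
  have hc : Commute y s := hC.le hsV y (hP.le (mem_zpowers y))
  obtain ⟨-, hT, hT'⟩ := (A.typ s hs).resolve_left fun k => by
    have := hy ▸ orderOf_dvd_natCard _ (mem_centralizer_singleton.2 hc.eq)
    rw [show Nat.card (centralizer ({s} : Set G)) = 192 from k.1] at this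
    omega
  have sg := fun i n hn => sign_eq (st_sign h (g i)) (d := dg (g i)) (n := n) hn
  have ok5 : ∀ i, Ok5 (iv θ1 s) (iv c144 s) (st X δ ε (g i) * dg (g i))
      (st X δ ε (g i) * iv (g i) s) := fun i => by
    have a := cong_Tt h hθ (commutator_eq_top hna) (by norm_num) hy hs2 hc (mg i)
    have b := A.cases (g i)
    refine ⟨by rcases st_sign h (g i) with e | e <;> rw [e] <;> omega, fun e => ?_, fun e => ?_⟩
    · obtain ⟨e1, e2⟩ := (sg i 16 (by omega)).1.1 e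
      rw [e1, one_mul]
      obtain e3 | e3 : g i = θ1 ∨ g i = θ2 := by
        rcases b with b | b | b | b | b | b | b <;> first | omega | exact b.1
      · rw [e3]
      · rw [e3, A.iv' (by rw [hs]; norm_num)]
    · obtain ⟨e1, e2⟩ := (sg i 144 (by omega)).2.1 e
      have e3 : g i = c144 := by
        rcases b with b | b | b | b | b | b | b <;> first | omega | exact b.1
      rw [e1, e3, neg_one_mul]
  have cd : ∀ i, st X δ ε (g i) * iv (g i) s ∈ cand (st X δ ε (g i) * dg (g i))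
      (95040 / cc s) (cc s) := fun i => by
    have a := ok_inv hna (ng i) hs (st_sign h (g i))
    rw [index_eq, hG] at a
    refine mem_cand a ?_
    rw [sign_mul_self (st_sign h _), ← (ic_inv hs2).sum_sq]
    exact Finset.single_le_sum (f := fun χ => iv χ s ^ 2) (fun _ _ => sq_nonneg _)
      (Finset.mem_univ _)
  have lin := reg_Tt h hθ (g := s) (by rw [hs]; norm_num) (ic_inv hs2)
  rw [sum_enum hg hm, Fin.sum_univ_four] at lin
  have nrm : ([one G, c120, c54, c45, c144, θ1, θ2].map fun χ => iv χ s ^ 2).sum +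
      ∑ χ ∈ Tt X θ, wt (st X δ ε χ * dg χ) (st X δ ε χ * iv χ s) ≤ cc s := by
    have e1 : ∀ χ, wt (st X δ ε χ * dg χ) (st X δ ε χ * iv χ s) =
        if 11 ∣ dg χ then iv χ s ^ 2 else 0 := fun χ => by
      rw [wt, sign_mul_self (st_sign h _)]
      congr 1
      rcases st_sign h χ with e | e <;> rw [e, eq_iff_iff] <;> omega
    have e2 : Disjoint [one G, c120, c54, c45, c144, θ1, θ2].toFinset
        ((Tt X θ).filter fun χ => 11 ∣ dg χ) := Finset.disjoint_left.2 fun χ a b => by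
      have b := (Finset.mem_filter.1 b).2
      simp only [List.mem_toFinset, List.mem_cons, List.not_mem_nil, or_false] at a
      rcases a with rfl | rfl | rfl | rfl | rfl | rfl | rfl <;>
        simp [dg_one, A.d120, A.d54, A.d45, A.d144, A.d16, A.d16'] at b
    simp only [e1]
    rw [← List.sum_toFinset _ A.nd, ← (ic_inv hs2).sum_sq, ← Finset.sum_filter,
      ← Finset.sum_union e2]
    exact Finset.sum_le_sum_of_subset_of_nonneg (Finset.subset_univ _) fun _ _ _ => sq_nonneg _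
  rw [sum_enum hg hm, Fin.sum_univ_four] at nrm
  simp only [List.map_cons, List.sum_cons, List.map_nil, List.sum_nil, iv_triv,
    A.iv' (g := s) (by rw [hs]; norm_num)] at nrm
  obtain ⟨k1, k2⟩ := chk5 _ hT _ hS _ (cd 0) (ok5 0) _ (cd 1) (ok5 1) _ (cd 2) (ok5 2) _ (cd 3)
    ⟨ok5 3, lin, by linarith⟩
  have q := fun a b ha hb => inv_int hC (by norm_num) h hP (a := a) (b := b) ha hb hθ
  simp only [sum_enum hg hm, Fin.sum_univ_four, hG] at q
  have dv : ∀ i, dg (g i) ∣ Nat.card (Sylow 5 G) * 4 := fun i =>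
    h4 ▸ dg_Tt_dvd h hθ (mg i) hy.symm.dvd
  have q1 := q s s hs2 hs2
  simp only [Prod.mk.injEq] at k1 k2
  rw [hG] at h1
  rcases k2 with ⟨⟨d0, d1, d2, d3⟩, u0, u1, u2, u3⟩ | ⟨⟨d0, d1, d2, d3⟩, u0, u1, u2, u3⟩ <;>
    rw [k1, d0, d1, d2, d3, u0, u1, u2, u3] at q1
  swap
  · have := card_V h1 h5 (((sg 1 16 (by omega)).1.1 d1).2 ▸ dv 1)
      (((sg 0 99 (by omega)).2.1 d0).2 ▸ dv 0)
    rcases this with e | e <;> rw [e] at q1
    · exact (not_sq 7 (by omega) (by omega) q1 (by omega) (by decide) (by decide)).elim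
    · exact (not_sq 18 (by omega) (by omega) q1 (by omega) (by decide) (by decide)).elim
  obtain ⟨a0, b0⟩ := (sg 0 144 (by omega)).2.1 d0
  obtain ⟨a1, b1⟩ := (sg 1 99 (by omega)).2.1 d1
  obtain ⟨a2, b2⟩ := (sg 2 66 (by omega)).1.1 d2
  obtain ⟨a3, b3⟩ := (sg 3 176 (by omega)).1.1 d3
  have hV : Nat.card V = 2 := (card_V h1 h5 ((Dvd.intro 9 b0.symm).trans (dv 0))
    (b1 ▸ dv 1)).resolve_right fun e => by
      rw [e] at q1
      exact not_sq 12 (by omega) (by omega) q1 (by omega) (by decide) (by decide)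
  obtain rfl : g 0 = c144 := by
    rcases A.cases (g 0) with b | b | b | b | b | b | b <;> first | omega | exact b.1
  have hVs : ∀ v ∈ V, v = 1 ∨ v = s := fun v hv => by
    rw [← eq_of_le_of_card_ge (zpowers_le.2 hsV) (by rw [hV, Nat.card_zpowers, hs])] at hv
    obtain ⟨k, hk, rfl⟩ := H43.exists_pow_of_mem_zpowers hv
    rw [hs] at hk
    interval_cases k <;> simp
  have C : DC y s := ⟨hy, hs, hc, fun c hc' => by
    obtain ⟨z, hz, v, hv, rfl⟩ := hC.ex c (by
      rw [← hP]; show _ ∈ centralizer _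
      rw [H43.centralizer_zpowers']; exact mem_centralizer_singleton.2 hc'.eq)
    obtain ⟨k, -, rfl⟩ := H43.exists_pow_of_mem_zpowers (hP.ge hz)
    rcases hVs v hv with rfl | rfl
    exacts [⟨k, Or.inl (mul_one _)⟩, ⟨k, Or.inr rfl⟩]⟩
  have cC : Nat.card (Cen (P : Subgroup G)) = 10 := by rw [hC.card_cen, hV]
  obtain ⟨n, hn⟩ := exists_conj_pow (by norm_num) hy (k := 2) (by rw [hP, he]) (by norm_num)
  rw [hV] at q1 q
  refine ⟨g 1, g 2, g 3, C, by rw [cc, ← H43.centralizer_zpowers', hP, cC],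
    by rw [hP, ← relIndex_mul_card_centralizer, he, cC], ⟨n, hn⟩, by omega, ?_, ?_, b1, b2, b3,
    fun x hx => ?_, fun x hx hi => ?_, fun ψ hψ => ?_, fun a b ha hb => ?_, ?_⟩
  · have : ((Iv y s).card : ℤ) * (Iv y s).card = 5 * 5 := by
      norm_num at q1
      linarith
    exact_mod_cast (mul_self_inj (by omega) (by omega)).1 this
  · simp [hg.eq_iff, fun i => (ng i).symm]
  · simp [val_Tt h hθ (mg _) (Or.inl ht) hx, a0, a1, a2, a3]
  · have := reg_Tt h hθ hx hi
    rw [sum_enum hg hm, Fin.sum_univ_four, a0, a1, a2, a3] at this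
    linarith
  · cases nonempty_fintype (P : Subgroup G)
    cases nonempty_fintype V
    have hψ' : ψ ≠ one G ∧ ψ ∉ Tt X θ := by
      simp only [List.mem_cons, List.not_mem_nil, or_false, not_or] at hψ
      refine ⟨hψ.1, fun hT => ?_⟩
      obtain ⟨i, rfl⟩ := (hm ψ).1 hT
      fin_cases i <;> simp at hψ
    have m := hC.master ψ.2.isClassFunction
    rw [sS_eq_zero h (fun a => hψ'.2 (mem_Tt.2 (Or.inr ⟨hψ'.1, a⟩))) (fun a => hψ'.2
      (mem_Tt.2 (Or.inl (by simpa [Y_eq h hθ ht] using a)))), mul_zero,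
      Finset.sum_congr rfl (g := fun v : V => 4 * ψ.1 (y * v)) fun v _ => by
        rw [sum_prime_subgroup (by norm_num) hC.card (f := fun x => ψ.1 (x * v))
          (c := ψ.1 (y * v)) fun x hx hx1 => by
            obtain ⟨k, -, rfl⟩ := H43.exists_pow_of_mem_zpowers (hP.ge hx)
            exact (ψ.2.isClassFunction.eq_of_isConj (C.isConj_pow hn (hVs v v.2) fun e =>
              hx1 (orderOf_dvd_iff_pow_eq_one.1 (hy ▸ e)))).symm, one_mul]
        push_cast; ring,
      show (Finset.univ : Finset V) = {1, ⟨s, hsV⟩} by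
        refine (Finset.eq_univ_of_forall fun v => ?_).symm
        rcases hVs v v.2 with e | e
        · exact Finset.mem_insert.2 (Or.inl (Subtype.ext e))
        · exact Finset.mem_insert_of_mem (Finset.mem_singleton.2 (Subtype.ext e)),
      Finset.sum_pair fun e => H83.ne_one_of_orderOf_two hs (congrArg Subtype.val e).symm] at m
    simp only [OneMemClass.coe_one, mul_one] at m
    linear_combination -m / 4
  · rw [q a b ha hb, a0, a1, a2, a3, b0, b1, b2, b3]
    norm_num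
    ring
  · rw [a0] at u0
    rw [a1] at u1
    rw [a2] at u2
    rw [a3] at u3
    omega

end H45.MO
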