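/- Simple groups of order `95040`: the columns of the involutions. -/
import Cfsg.Agent.H45.MO7
import Cfsg.Agent.H30.Counting

set_option autoImplicit false
set_option linter.unusedSectionVars false

namespace H45.MO
open Cfsg H28 H29 H39 H87 Subgroup
open scoped ComplexConjugate

variable {G : Type*} [Group G] [Fintype G]

theorem prod_int {a b c : G} (ha : a * a = 1) (hb : b * b = 1) (hc : IC c) :
    (H43.prodCount a b c * (cc a * cc b) : ℤ) =
      ∑ χ, iv χ c * (iv χ a * iv χ b * (Nat.card G / dg χ)) := by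
  have h := H43.prodCount_eq' ha hb c
  rw [Finset.mul_sum] at h
  have e : ∀ χ : IrrCharacter G, (Nat.card G : ℂ) * (χ.1 c * (χ.1 a * χ.1 b / χ.1 1)) =
      (iv χ c * (iv χ a * iv χ b * (Nat.card G / dg χ)) : ℤ) := fun χ => by
    have := term_cast χ (Or.inl rfl) (ic_inv ha χ) (ic_inv hb χ)
    simp only [one_mul, Int.cast_one] at this
    rw [mul_left_comm, this, ← hc, Int.cast_mul (iv χ c)]
  simp only [e] at h
  exact_mod_cast h

theorem prodCount_Iv {y a : G} (hy : Odd (orderOf y)) (ha : a * a = 1) :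
    H43.prodCount a a y = (Iv y a).card := by
  classical
  rw [H43.prodCount_inv ha, Nat.card_eq_fintype_card, Fintype.card_subtype]
  congr 1
  ext u
  simp only [Finset.mem_filter, Finset.mem_univ, true_and]
  refine ⟨fun ⟨h1, h2⟩ => mem_Iv.2 ⟨h1, ?_⟩, fun h => ⟨(mem_Iv.1 h).1, ?_⟩⟩
  · have h3 := H31.mul_self_of_isConj ha h1
    have h4 := H83.left_inverts_mul h3 (H31.mul_self_of_isConj ha h2)
    simpa only [← mul_assoc u u, h3, one_mul] using h4
  · have := (mem_Iv.1 (mul_mem_Iv hy ha h (inv_mem (mem_zpowers y)))).1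
    rwa [← (mem_Iv.1 h).2, inv_mul_cancel_right] at this

theorem sum_list {ι M : Type*} [Fintype ι] [DecidableEq ι] [AddCommMonoid M] {L : List ι}
    (hL : L.Nodup) (F : ι → M) : ∑ i, F i = (L.map F).sum + ∑ i ∈ L.toFinsetᶜ, F i := by
  rw [← List.sum_toFinset _ hL, Finset.sum_add_sum_compl]

namespace DC
variable {y s : G} (C : DC y s)
include C

theorem odd : Odd (orderOf y) := by rw [C.hy]; decide

theorem inj (a : G) : Set.InjOn (fun k : ℕ => y ^ k * a) (Finset.range 5) := fun i hi j hj h => by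
  have := pow_injOn_Iio_orderOf (x := y) (by simpa [C.hy] using hi) (by simpa [C.hy] using hj)
    (mul_right_cancel h)
  exact this

theorem comm_of_inv {a : G} (h : a * y * a⁻¹ = y⁻¹) : a * s * a⁻¹ = s :=
  C.conj_s (H43.mem_normalizer_zpowers (k := 4) (by
    rw [h, inv_eq_iff_mul_eq_one, ← pow_succ']; exact orderOf_dvd_iff_pow_eq_one.1 (by rw [C.hy])))

theorem mul_s_spec {a : G} (ha : a * a = 1) (h : a * y * a⁻¹ = y⁻¹) :
    orderOf (a * s) = 2 ∧ a * s * y * (a * s)⁻¹ = y⁻¹ := by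
  have h1 := C.comm_of_inv h
  have h2 : a * s * y * (a * s)⁻¹ = y⁻¹ := by
    rw [← h, mul_assoc a, ← C.cm.eq]; group
  refine ⟨H83.orderOf_eq_two_iff'.2 ⟨?_, fun e => ?_⟩, h2⟩
  · rw [inv_eq_of_mul_eq_one_right ha] at h1
    rw [← mul_assoc, h1, C.ss]
  · rw [e, one_mul, inv_one, mul_one, eq_inv_iff_mul_eq_one, ← pow_two,
      ← orderOf_dvd_iff_pow_eq_one, C.hy] at h2
    omega

theorem six_le {a b : G} (hb : b * b = 1) (h1 : a ∈ Iv y b) (h2 : a * s ∈ Iv y b) :
    6 ≤ (Iv y b).card := by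
  classical
  have h3 : a * s ∉ (Finset.range 5).image fun k : ℕ => y ^ k * a := fun h => by
    obtain ⟨k, -, hk⟩ := Finset.mem_image.1 h
    have h4 := C.comm_of_inv (mem_Iv.1 h1).2
    rw [← hk, mul_inv_cancel_right] at h4
    have := orderOf_pow_dvd (x := y) k
    rw [h4, C.hs, C.hy] at this
    omega
  have := Finset.card_le_card (s := insert (a * s) ((Finset.range 5).image fun k : ℕ => y ^ k * a))
    (t := Iv y b) (Finset.insert_subset h2 (Finset.image_subset_iff.2 fun k _ =>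
      mul_mem_Iv C.odd hb h1 (npow_mem_zpowers y k)))
  rwa [Finset.card_insert_of_notMem h3, Finset.card_image_of_injOn (C.inj a),
    Finset.card_range] at this

theorem card_Iv {a : G} (ha : a * a = 1) (h : a * y * a⁻¹ = y⁻¹) (hn : ¬ IsConj a (a * s)) :
    (Iv y a).card = 5 := by
  classical
  have h1 : a ∈ Iv y a := mem_Iv.2 ⟨IsConj.refl a, h⟩
  rw [← Finset.card_range 5, ← Finset.card_image_of_injOn (C.inj a)]
  congr 1
  refine Finset.Subset.antisymm (fun x hx => ?_) (Finset.image_subset_iff.2 fun k _ =>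
      mul_mem_Iv C.odd ha h1 (npow_mem_zpowers y k))
  have hx2 := H31.mul_self_of_isConj ha (mem_Iv.1 hx).1
  obtain ⟨k, hk | hk⟩ := C.cen (x * a) (mul_mem_cen ha hx h1 y (mem_zpowers y)).symm
  · refine Finset.mem_image.2 ⟨k % 5, by simp [Nat.mod_lt], ?_⟩
    rw [← C.hy, pow_mod_orderOf, ← hk, mul_assoc, ha, mul_one]
  · obtain ⟨b1, b2⟩ := C.mul_s_spec ha h
    have h3 := mul_mem_Iv C.odd (H83.mul_self_of_orderOf_two b1) (mem_Iv.2 ⟨IsConj.refl _, b2⟩)
      (npow_mem_zpowers y k)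
    have h4 : y ^ k * (a * s) = x := by
      rw [mul_inv_eq_iff_eq_mul.1 (C.comm_of_inv h), ← mul_assoc, ← hk, mul_assoc, ha, mul_one]
    exact absurd ((mem_Iv.1 hx).1.trans (h4 ▸ (mem_Iv.1 h3).1).symm) hn

theorem isConj_s (hi : ¬ 5 ∣ (zpowers y).index) {a : G} (ha : orderOf a = 2) (h : 5 ∣ cc a) :
    IsConj a s := by
  obtain ⟨u, hu, hu5⟩ := H43.exists_mem_orderOf 5 h
  obtain ⟨g, hg⟩ := H43.exists_conj_mem_zpowers C.hy hi (hu5 ▸ pow_orderOf_eq_one u)
  refine isConj_iff.2 ⟨g, C.eq_s (by rw [H83.orderOf_conj, ha]) ?_⟩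
  have h1 : zpowers (g * u * g⁻¹) = zpowers y := eq_of_le_of_card_ge (zpowers_le.2 hg) (by
    rw [Nat.card_zpowers, Nat.card_zpowers, H83.orderOf_conj, hu5, C.hy])
  obtain ⟨k, hk⟩ := h1.ge (mem_zpowers y)
  rw [← hk]
  exact (Commute.conj (mem_centralizer_singleton.1 hu).symm g).zpow_right k

theorem order_ys : orderOf (y * s) = 10 := by
  rw [C.cm.orderOf_mul_eq_mul_orderOf_of_coprime (by rw [C.hy, C.hs]; norm_num), C.hy, C.hs]

theorem ic {g : G} (hg : g * y * g⁻¹ = y ^ 2) : IC y ∧ IC (y * s) := by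
  refine ⟨ic_of_rat fun m hm => ?_, ic_of_rat fun m hm => ?_⟩
  · rw [C.hy] at hm
    simpa using C.isConj_pow hg (Or.inl rfl) (k := m)
      ((Nat.Prime.coprime_iff_not_dvd (by norm_num)).1 hm.symm)
  · rw [C.order_ys, show 10 = 5 * 2 from rfl, Nat.coprime_mul_iff_right,
      Nat.coprime_two_right] at hm
    obtain ⟨h1, k, rfl⟩ := hm
    rw [C.cm.mul_pow, pow_succ s, pow_mul s, pow_two s, C.ss, one_pow, one_mul]
    exact C.isConj_pow hg (Or.inr rfl) ((Nat.Prime.coprime_iff_not_dvd (by norm_num)).1 h1.symm)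

end DC

theorem not_isConj_cc {a b : G} (h : cc a ≠ cc b) : ¬ IsConj a b := fun e =>
  h (card_centralizer_eq_of_isConj e)

variable {c120 c54 c45 c144 θ1 θ2 c99 c66 c176 : IrrCharacter G} {y s : G}

/-- The second class of involutions. -/
structure DZ (y s z : G) (c120 c54 c45 c144 θ1 c99 c66 c176 : IrrCharacter G) : Prop where
  hz : orderOf z = 2
  inv : z * y * z⁻¹ = y⁻¹
  zs : IsConj s (z * s)
  cz : cc z = 192
  Iz : (Iv y z).card = 5
  vz : iv c120 z = -8 ∧ iv c54 z = 6 ∧ iv c45 z = -3 ∧ iv c144 z = 0 ∧ iv θ1 z = 0 ∧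
    iv c99 z = 3 ∧ iv c66 z = 2 ∧ iv c176 z = 0
  vs : iv c120 s = 0 ∧ iv c54 s = 6 ∧ iv c45 s = 5 ∧ iv θ1 s = 4

theorem exists_DZ (hG : Nat.card G = 95040) (A : D11 c120 c54 c45 c144 θ1 θ2)
    (B : DB y s c144 c99 c66 c176) : ∃ z, DZ y s z c120 c54 c45 c144 θ1 c99 c66 c176 := by
  have C := B.toDC
  obtain ⟨t, ht⟩ := Finset.card_pos.1 (show 0 < (Iv y s).card by rw [B.Is]; norm_num)
  obtain ⟨h1, h2⟩ := mem_Iv.1 ht
  have h3 := H31.mul_self_of_isConj C.ss h1
  obtain ⟨h4, h5⟩ := C.mul_s_spec h3 h2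
  have h6 : ¬ IsConj s (t * s) := fun h => by
    have := C.six_le C.ss ht (mem_Iv.2 ⟨h, h5⟩)
    rw [B.Is] at this
    omega
  have h7 : t * s * s = t := by rw [mul_assoc, C.ss, mul_one]
  have z2 := H83.mul_self_of_orderOf_two h4
  have h8 := C.card_Iv z2 h5 fun h => h6 (h1.trans (h7 ▸ h).symm)
  have h9 := (A.typ _ h4).resolve_right fun h => h6 (C.isConj_s (by
    rw [H43.index_zpowers (m := 19008) C.hy hG]; norm_num) h4 h.1).symm
  obtain ⟨-, k1, k2⟩ := (A.typ _ C.hs).resolve_left fun h => by have := B.cs; omega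
  have q := B.inv s (t * s) C.ss z2
  have l := B.reg (t * s) (by rw [h4]; norm_num) (ic_inv z2)
  have d := iv_dvd (ic_inv z2 c176)
  have n := Finset.single_le_sum (f := fun χ => iv χ (t * s) ^ 2) (fun _ _ => sq_nonneg _)
    (Finset.mem_univ c176)
  rw [(ic_inv z2).sum_sq, h9.1] at n
  rw [index_eq, hG, h9.1, B.d176] at d
  rw [B.Is, h8, B.cs, h9.1, B.vs.1, B.vs.2.1, B.vs.2.2.1, B.vs.2.2.2] at q
  have e : iv c176 (t * s) = 0 := by
    by_contra hne
    have := sq_ge (x := iv c176 (t * s)) (k := 16) (by omega) (by omega)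
    omega
  have k3 := k2 B.cs
  rw [B.cs, B.vs.1] at k1
  refine ⟨t * s, h4, h5, h7.symm ▸ h1, h9.1, h8, by omega, k3.1, k3.2.1, k3.2.2, ?_⟩
  simp only [TY, List.mem_cons, Prod.mk.injEq, List.not_mem_nil, or_false] at k1
  omega

end H45.MO
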