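/- Blocks of defect one against involutions: the data for the numerical searches. -/
import Cfsg.Agent.H45.MO8
import Cfsg.Agent.H45.MN

set_option autoImplicit false
set_option linter.unusedSectionVars false

namespace H45.MN
open Cfsg H28 H29 H39 H87 Subgroup H45.MO

variable {G : Type*} [Group G] [Fintype G]

section
variable {p : ℕ} [hp : Fact p.Prime] {P : Sylow p G} {V : Subgroup G} (hC : Cpl P V)
include hC

theorem zpowers_eq {y : G} (hy : y ∈ (P : Subgroup G)) (h1 : y ≠ 1) : zpowers y = P :=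
  eq_of_le_of_card_ge (zpowers_le.2 hy) (by
    rw [hC.card, Nat.card_zpowers, H87.orderOf_eq_of_mem hp.out hC.card hy h1])

theorem cc_of_order {g : G} (hg : orderOf g = p) : cc g = p * Nat.card V := by
  obtain ⟨y, hy, h1, v, hv, h2⟩ := hC.exists_conj hg.symm.dvd
  have hc : Commute y v := hC.le hv y hy
  have h3 : (y * v) ^ p = 1 := by
    obtain ⟨c, hc⟩ := isConj_iff.1 h2
    rw [← hc, conj_pow, ← hg, pow_orderOf_eq_one, mul_one, mul_inv_cancel]
  rw [hc.mul_pow, ← H87.orderOf_eq_of_mem hp.out hC.card hy h1, pow_orderOf_eq_one, one_mul,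
    H87.orderOf_eq_of_mem hp.out hC.card hy h1] at h3
  have h4 : v = 1 := orderOf_eq_one_iff.1 (((Nat.dvd_prime hp.out).1
    (orderOf_dvd_of_pow_eq_one h3)).resolve_right fun e => hC.reg v hv e.symm.dvd)
  rw [h4, mul_one] at h2
  rw [cc, card_centralizer_eq_of_isConj h2, ← H43.centralizer_zpowers', zpowers_eq hC hy h1,
    hC.card_cen]

theorem card_Iv (hp2 : p ≠ 2) {y a : G} (hy : zpowers y = P) (ha : a * a = 1) :
    ∃ k ≤ Nat.card V, ((Cen (P : Subgroup G)).relIndex (Nor (P : Subgroup G)) % 2 = 1 → k = 0) ∧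
      (Iv y a).card = p * k := by
  have ho : orderOf y = p := by rw [← Nat.card_zpowers, hy, hC.card]
  have hodd : Odd (orderOf y) := ho ▸ hp.out.odd_of_ne_two hp2
  open Pointwise in
  have h1 : ((Iv y a : Set G) * (zpowers y : Set G)) = Iv y a := by
    refine Set.Subset.antisymm ?_ fun x hx => ⟨x, hx, 1, one_mem _, mul_one x⟩
    rintro _ ⟨x, hx, z, hz, rfl⟩
    have := mul_mem_Iv hodd ha hx (inv_mem hz)
    rwa [← inverts_of_mem (mem_Iv.1 hx).2 hz, inv_mul_cancel_right] at this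
  have h2 := card_mul_eq_card_subgroup_mul_card_quotient (zpowers y) (Iv y a : Set G)
  rw [h1, Nat.card_zpowers, ho, Nat.card_coe_set_eq, Set.ncard_coe_finset] at h2
  rcases (Iv y a).eq_empty_or_nonempty with h | ⟨x, hx⟩
  · exact ⟨0, Nat.zero_le _, fun _ => rfl, by simp [h]⟩
  refine ⟨_, Nat.le_of_mul_le_mul_left ?_ hp.out.pos, fun he => ?_, h2⟩
  · rw [← h2, ← hC.card_cen, ← hy, ← Fintype.card_coe, ← Nat.card_eq_fintype_card]
    exact Nat.card_le_card_of_injective (fun b => ⟨x * b.1, mul_mem_cen ha hx b.2⟩)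
      fun b c h => Subtype.ext (mul_left_cancel (congrArg Subtype.val h))
  · exfalso
    have h3 := (mem_Iv.1 hx).2
    have h4 : x * x = 1 := H31.mul_self_of_isConj ha (mem_Iv.1 hx).1
    have h5 : x ∈ Nor (P : Subgroup G) := by
      rw [← hy]
      exact mem_normalizer_fintype fun z hz => (inverts_of_mem h3 hz).symm ▸ inv_mem hz
    have := normal_subgroupOf_centralizer_normalizer ((P : Subgroup G) : Set G)
    have h6 := pow_index_mem ((Cen (P : Subgroup G)).subgroupOf (Nor (P : Subgroup G))) ⟨x, h5⟩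
    obtain ⟨j, hj⟩ := Nat.odd_iff.2 he
    rw [mem_subgroupOf, show ((Cen (P : Subgroup G)).subgroupOf (Nor (P : Subgroup G))).index =
      2 * j + 1 from hj, coe_pow, pow_succ, pow_mul, pow_two, h4, one_pow, one_mul] at h6
    have h7 : y * x = x * y := h6 y (hy.le (mem_zpowers y))
    rw [← h7, mul_inv_cancel_right, eq_inv_iff_mul_eq_one, ← pow_two] at h3
    exact hp2 ((Nat.prime_dvd_prime_iff_eq hp.out Nat.prime_two).1
      (ho ▸ orderOf_dvd_of_pow_eq_one h3))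

theorem exists_cset (hp2 : p ≠ 2) (h2 : 2 ∣ Nat.card V) : ∃ a : G, orderOf a = 2 ∧
    p ∣ cc a ∧ cc a ∈ cset (Nat.card G) p ((Cen (P : Subgroup G)).relIndex (Nor (P : Subgroup G)))
      (Nat.card V) := by
  cases nonempty_fintype V
  obtain ⟨j, -, hj⟩ := (Nat.dvd_prime_pow (m := 10) Nat.prime_two).1
    (Nat.gcd_dvd_right (Nat.card V) 1024)
  obtain ⟨j, rfl⟩ : ∃ i, j = i + 1 := ⟨j - 1, by
    have : j ≠ 0 := fun e => by
      have := Nat.dvd_gcd h2 (by norm_num : 2 ∣ 1024)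
      rw [hj, e] at this
      omega
    omega⟩
  obtain ⟨z, hz, h3⟩ := exists_central_inv (G := V) (hj ▸ Nat.gcd_dvd_left _ _)
  have h4 : (P : Subgroup G) ≤ centralizer {(z : G)} := fun x hx =>
    mem_centralizer_singleton.2 (hC.le z.2 x hx)
  have h5 := card_sylow_modEq_one p (centralizer {(z : G)})
  have h6 := (Nor (P.subtype h4 : Subgroup (centralizer {(z : G)}))).index_mul_card
  rw [(P.subtype h4).card_eq_index_normalizer] at h5
  have h7 : Nat.card (Nor (P.subtype h4 : Subgroup (centralizer {(z : G)}))) =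
      Nat.card (Nor (P : Subgroup G) ⊓ centralizer {(z : G)} : Subgroup G) := by
    rw [Sylow.coe_subtype, Nor, ← subgroupOf_normalizer_eq h4, ← inf_subgroupOf_right,
      Nat.card_congr (subgroupOfEquivOfLe inf_le_right).toEquiv]
  have h8 : Nat.card (Nor (P : Subgroup G)) =
      p * (Cen (P : Subgroup G)).relIndex (Nor (P : Subgroup G)) * Nat.card V := by
    rw [← ((Cen (P : Subgroup G)).subgroupOf (Nor (P : Subgroup G))).index_mul_card,
      Nat.card_congr (subgroupOfEquivOfLe (centralizer_le_normalizer _)).toEquiv, hC.card_cen]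
    exact mul_left_comm _ _ _ |>.trans (mul_assoc _ _ _).symm
  rw [h7] at h6
  have h9 : p ∣ Nat.card (Nor (P : Subgroup G) ⊓ centralizer {(z : G)} : Subgroup G) :=
    hC.card.symm.dvd.trans (card_dvd_of_le (le_inf le_normalizer h4))
  refine ⟨z, by rw [orderOf_coe, hz], hC.card.symm.dvd.trans (card_dvd_of_le h4), mem_cset Nat.card_pos.ne'
    (h8 ▸ Nat.card_pos.ne') (card_subgroup_dvd_card _) (h8 ▸ card_dvd_of_le inf_le_left)
    (Nat.Coprime.mul_dvd_of_dvd_of_dvd ?_ h9 (hj ▸ h3.trans ?_)) (card_dvd_of_le inf_le_right) ?_⟩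
  · rw [hj]
    exact ((Nat.coprime_primes hp.out Nat.prime_two).2 hp2).pow_right _
  · rw [cc, ← card_map_of_injective V.subtype_injective]
    refine card_dvd_of_le ?_
    rintro _ ⟨x, hx, rfl⟩
    exact ⟨centralizer_le_normalizer _ (hC.le x.2),
      mem_centralizer_singleton.2 (congrArg Subtype.val (mem_centralizer_singleton.1 hx))⟩
  · rw [cc, ← h6, Nat.mul_div_cancel _ Nat.card_pos]
    exact Eq.trans h5 (Nat.mod_eq_of_lt hp.out.one_lt)

end

theorem exists_comm {q : ℕ} (hq : q.Prime) {a : G} (h : q ∣ cc a) :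
    ∃ w, orderOf w = q ∧ Commute w a := by
  have := Fact.mk hq
  obtain ⟨w, hw, h1⟩ := H43.exists_mem_orderOf q h
  exact ⟨w, h1, mem_centralizer_singleton.1 hw⟩

theorem dvd_iv {q : ℕ} (hq : q.Prime) (hq2 : q ≠ 2) (hN : ¬ q ^ 2 ∣ Nat.card G)
    {χ : IrrCharacter G} (hd : q ∣ dg χ) {a : G} (ha : a * a = 1) (h : q ∣ cc a) :
    (q : ℤ) ∣ iv χ a := by
  obtain ⟨w, hw, hc⟩ := exists_comm hq h
  have h1 : χ.1 (w * a) = (0 : ℤ) := by
    rw [Int.cast_zero]
    refine eq_zero_of_pow_factorization_dvd hq χ.2 ((pow_dvd_pow q ?_).trans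
      (by rw [pow_one]; exact hd)) (dvd_orderOf_mul hq hw hc fun h2 => hq2
      ((Nat.prime_dvd_prime_iff_eq hq Nat.prime_two).1
        (h2.trans (orderOf_dvd_of_pow_eq_one (by rwa [pow_two])))))
    exact Nat.lt_succ_iff.1 (not_le.1 fun h2 => hN ((hq.pow_dvd_iff_le_factorization
      Nat.card_pos.ne').2 h2))
  have := iv_cong hq (hw ▸ pow_orderOf_eq_one w) hc (coe_iv ⟨_, h1⟩) (ic_inv ha χ)
  rwa [iv_eq h1, zero_sub, dvd_neg] at this

theorem ok_of [IsSimpleGroup G] (hna : ¬ IsMulCommutative G) {qs : List ℕ}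
    (hq : ∀ q ∈ qs, q.Prime ∧ q ≠ 2 ∧ ¬ q ^ 2 ∣ Nat.card G) {p : ℕ} {χ : IrrCharacter G}
    (h1 : χ ≠ one G) {a : G} (ha : orderOf a = 2) (hp : p ∣ cc a → (4 * p : ℤ) ∣ dg χ - iv χ a)
    {σ : ℤ} (hσ : σ = 1 ∨ σ = -1) :
    ok (Nat.card G) qs p (cc a) (σ * iv χ 1) (σ * iv χ a) = true := by
  have ha2 := H83.mul_self_of_orderOf_two ha
  have k1 := iv_lt hna h1 (H83.ne_one_of_orderOf_two ha) (ic_inv ha2 χ)
  have k2 := iv_dvd (ic_inv ha2 χ)
  have k3 := iv_mod4 (commutator_eq_top hna) χ ha2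
  have k4 : σ.natAbs = 1 := by omega
  rw [index_eq] at k2
  simp only [ok, Bool.and_eq_true, Nat.blt_eq, beq_iff_eq, List.all_eq_true, Bool.or_eq_true,
    bne_iff_ne, ← mul_sub, Int.natAbs_mul, k4, one_mul, iv_one, Int.natAbs_natCast, or_assoc]
  refine ⟨⟨⟨by have := abs_lt.1 k1; omega, Nat.mod_eq_zero_of_dvd ?_⟩, Nat.mod_eq_zero_of_dvd ?_⟩, fun q h => ?_⟩
  · split_ifs with h
    · exact Int.natCast_dvd.1 (by exact_mod_cast hp (Nat.dvd_of_mod_eq_zero h))
    · exact Int.natCast_dvd.1 k3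
  · have := Int.natCast_dvd.1 k2
    rwa [← Int.natCast_div, Int.natAbs_mul, Int.natAbs_natCast] at this
  · refine or_iff_not_imp_left.2 fun h2 => or_iff_not_imp_left.2 fun h3 =>
      Nat.mod_eq_zero_of_dvd (Int.natCast_dvd.1 (dvd_iv (hq q h).1 (hq q h).2.1 (hq q h).2.2
      (Nat.dvd_of_mod_eq_zero (not_not.1 h3)) ha2 (Nat.dvd_of_mod_eq_zero (not_not.1 h2))))

/-- the signed values at `a` -/
noncomputable def cl (s : IrrCharacter G → ℤ) (L : List (IrrCharacter G)) (a : G) : List ℤ :=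
  L.map fun χ => s χ * iv χ a

/-- the pairs (degree, value at `a`) -/
noncomputable def pr (L : List (IrrCharacter G)) (a : G) : List (ℕ × ℤ) :=
  L.map fun χ => (dg χ, iv χ a)

/-- The principal `p`-block: `L` lists the non-trivial non-exceptional characters with signs `s`,
and `E` the exceptional ones. -/
structure Bk (p n e v : ℕ) (L E : List (IrrCharacter G)) (s : IrrCharacter G → ℤ) : Prop where
  hp : p.Prime
  mem : (n, e, v) ∈ cas (Nat.card G) p
  ne0 : n * e ≠ 0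
  nd : (one G :: (L ++ E)).Nodup
  deg : ∀ flt : ℕ → Bool, (∀ χ ∈ L ++ E, flt (dg χ) = true) → Dg (Nat.card G) p n e flt (cl s L 1)
  col : ∀ qs : List ℕ, (∀ q ∈ qs, q.Prime ∧ q ≠ 2 ∧ ¬ q ^ 2 ∣ Nat.card G) → ∀ a, orderOf a = 2 →
    Cl (Nat.card G) qs p e v (cl s L 1) (cc a) (cl s L a)
  uns : ∀ a, ¬ p ∣ orderOf a → (∀ χ ∈ L ++ E, (iv χ a : ℂ) = χ.1 a) →
    uns (cl s L 1) (cl s L a) ((p - 1) / e) = pr (L ++ E) a
  out : v = 1 → ∀ ψ, ψ ≠ one G → ¬ p ∣ dg ψ → ψ ∈ L ++ E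
  md : ∀ χ ∈ L ++ E, (p : ℤ) ∣ s χ * dg χ - 1 ∨ (p : ℤ) ∣ s χ * dg χ - e
  sg : ∀ χ, s χ = 1 ∨ s χ = -1
  ccp : ∀ g : G, orderOf g = p → cc g = p * v
  big : 2 ∣ v → ∀ χ ∈ L ++ E, 2 * p < dg χ
  inv : 2 ∣ v → ∃ a : G, orderOf a = 2 ∧ cc a ∈ cset (Nat.card G) p e v
  uni : ∀ θ ∈ E, ∀ θ' ∈ E, ∀ g, ¬ p ∣ orderOf g → θ.1 g = θ'.1 g
  lt : e < p
  br : ∃ (_ : Fact p.Prime) (P : Sylow p G) (V : Subgroup G) (t : ℕ) (X Y : Finset (IrrCharacter G))
    (δ : IrrCharacter G → ℤ) (ε : ℤ), Cpl P V ∧ Br p e t X Y δ ε ∧ Nat.card V = v ∧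
    (Cen (P : Subgroup G)).relIndex (Nor (P : Subgroup G)) = e ∧ Nat.card (Sylow p G) = n ∧
    (∀ χ, χ ∈ L ↔ χ ≠ one G ∧ χ ∈ X) ∧ (∀ χ, χ ∈ E ↔ χ ∈ Y) ∧ (∀ χ ∈ X, s χ = δ χ) ∧
    ∀ χ ∈ Y, s χ = ε

theorem ss_cl (s : IrrCharacter G → ℤ) (hs : ∀ χ, s χ = 1 ∨ s χ = -1) (L : List (IrrCharacter G))
    (a : G) : (ss (cl s L a) : ℤ) = (L.map fun χ => iv χ a ^ 2).sum := by
  simp only [ss, cl, List.map_map, Nat.cast_list_sum]
  exact congrArg _ (List.map_congr_left fun χ _ => by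
    simp only [Function.comp, s2_cast, sign_mul_self (hs χ)])

theorem sign_sign {σ : ℤ} (hσ : σ = 1 ∨ σ = -1) (χ : IrrCharacter G) (u : ℤ) :
    ((σ * iv χ 1).natAbs, (σ * iv χ 1).sign * (σ * u)) = (dg χ, u) := by
  have := dg_pos χ
  rw [iv_one]
  rcases hσ with rfl | rfl <;> simp [Int.sign_eq_one_of_pos (show (0 : ℤ) < dg χ by omega)]

theorem exists_bk [IsSimpleGroup G] (hna : ¬ IsMulCommutative G) {p m : ℕ} [hp : Fact p.Prime]
    (hp2 : p ≠ 2) (hN : Nat.card G = p * m) (hm : ¬ p ∣ m) :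
    ∃ n e v L E s, Bk (G := G) p n e v L E s := by
  classical
  obtain ⟨P⟩ : Nonempty (Sylow p G) := inferInstance
  obtain ⟨y, hy, hP⟩ := H43.exists_gen_sylow hN hm P
  obtain ⟨V, hC⟩ := exists_cpl (P := P) (by rw [← hP, Nat.card_zpowers, hy])
  obtain ⟨t, X, Y, δ, ε, h⟩ := exists_br H37.cycK P hC.card
  obtain ⟨θ, hθ⟩ := h.Y_nonempty
  have hG := commutator_eq_top hna
  have a1 := card_eq_of_cpl hC
  have a2 := two_le_e hna (hN ▸ dvd_mul_right _ _) P
  have a3 := index_cen hC hP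
  have a4 := fun a ha => card_Iv hC hp2 hP (a := a) ha
  have a5 := exists_cset hC hp2
  have a6 := fun a ha => inv_int hC hp2 h hP (a := a) ha ha hθ
  have a7 : Nat.card V = 1 → ∀ ψ, ψ ∉ X → ψ ∉ Y → p ∣ dg ψ := fun h1 ψ => by
    obtain rfl := card_eq_one.1 h1
    exact dvd_of_out hC h
  change Br p ((Cen (P : Subgroup G)).relIndex (Nor (P : Subgroup G))) t X Y δ ε at h
  generalize he : (Cen (P : Subgroup G)).relIndex (Nor (P : Subgroup G)) = e at *
  have ht : (p - 1) / e = t := by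
    rw [← h.te, Nat.add_sub_cancel, Nat.mul_div_cancel _ h.e_pos]
  let s : IrrCharacter G → ℤ := fun χ => if χ ∈ X then δ χ else ε
  have sg : ∀ χ, s χ = 1 ∨ s χ = -1 := fun χ => by
    simp only [s]; split_ifs; exacts [h.sδ χ, h.sε]
  let L := (X.erase (one G)).toList.mergeSort fun a b => decide (s a * iv a 1 ≤ s b * iv b 1)
  have hL : L.Perm (X.erase (one G)).toList := List.mergeSort_perm _ _
  have mL : ∀ χ, χ ∈ L ↔ χ ≠ one G ∧ χ ∈ X := fun χ => by simp [hL.mem_iff]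
  have sY : ∀ χ ∈ Y, s χ = ε := fun χ hχ => if_neg (Finset.disjoint_right.1 h.disj hχ)
  have sumL : ∀ F : IrrCharacter G → ℤ, (L.map F).sum = ∑ χ ∈ X.erase (one G), F χ := fun F => by
    rw [(hL.map F).sum_eq, Finset.sum_map_toList]
  have mT : ∀ χ ∈ L ++ Y.toList, ∃ η ∈ Y, χ ∈ Tt X η := fun χ hχ => by
    rcases List.mem_append.1 hχ with h1 | h1
    exacts [⟨θ, hθ, mem_Tt.2 (Or.inr ((mL χ).1 h1))⟩,
      ⟨χ, Finset.mem_toList.1 h1, mem_Tt.2 (Or.inl rfl)⟩]
  have nd : (one G :: (L ++ Y.toList)).Nodup := by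
    refine List.nodup_cons.2 ⟨fun h1 => ?_, List.nodup_append.2 ⟨hL.nodup_iff.2
      (Finset.nodup_toList _), Finset.nodup_toList _, fun a ha b hb =>
      h.ne_XY ((mL a).1 ha).2 (Finset.mem_toList.1 hb)⟩⟩
    obtain ⟨η, h2, h3⟩ := mT _ h1
    exact ne_one_of_Tt h h2 h3 rfl
  have reg : ∀ a, ¬ p ∣ orderOf a → (∀ χ ∈ L ++ Y.toList, (iv χ a : ℂ) = χ.1 a) → ∀ η ∈ Y,
      1 + (cl s L a).sum = ε * iv η a := fun a ha hi η hη => by
    have h1 := h.reg η hη a ha
    rw [← Finset.add_sum_erase _ _ h.one_mem, h.δ_one, ← hi η (by simp [hη]),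
      Finset.sum_congr rfl (g := fun χ => ((s χ * iv χ a : ℤ) : ℂ)) fun χ hχ => by
        have h2 := Finset.mem_erase.1 hχ
        rw [← hi χ (List.mem_append_left _ ((mL χ).2 h2)), Int.cast_mul]
        simp only [s, if_pos h2.2]] at h1
    rw [cl, sumL]
    simp only [Int.cast_one, mul_one] at h1
    exact_mod_cast h1.symm
  have r1 := reg 1 h.not_dvd_one (fun χ _ => ic_one χ) θ hθ
  have sq : ∀ a, ¬ p ∣ orderOf a → IC a → ((1 + ss (cl s L a) + (p - 1) / e *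
      s2 (1 + (cl s L a).sum) : ℕ) : ℤ) ≤ cc a := fun a ha hi => by
    have h1 := list_le nd (fun χ => iv χ a ^ 2) fun _ => sq_nonneg _
    rw [hi.sum_sq, List.map_cons, List.sum_cons, List.map_append, List.sum_append, iv_triv,
      Finset.sum_map_toList, Finset.sum_congr rfl (g := fun _ => iv θ a ^ 2) fun η hη => by
        rw [iv, iv, h.uni hη hθ ha], Finset.sum_const, h.cardY] at h1
    push_cast
    rw [ss_cl s sg, s2_cast, reg a ha (fun χ _ => hi χ) θ hθ, sign_mul_self h.sε, ← Int.natCast_div,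
      ht]
    simpa [add_assoc] using h1
  have md : ∀ χ ∈ L ++ Y.toList, (χ ∈ L ∧ (p : ℤ) ∣ s χ * dg χ - 1) ∨
      (χ ∈ Y ∧ (p : ℤ) ∣ s χ * dg χ - e) := fun χ hχ => by
    rcases List.mem_append.1 hχ with h1 | h1
    · refine Or.inl ⟨h1, ?_⟩
      simpa only [s, if_pos ((mL χ).1 h1).2] using br_dvd_sub_one h ((mL χ).1 h1).2
    · rw [Finset.mem_toList] at h1
      refine Or.inr ⟨h1, ?_⟩
      have := (br_dvd_Y h h1).mul_left ε
      rw [sY χ h1]
      rcases h.sε with e | e <;> simpa [e, sub_eq_add_neg, add_comm] using this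
  have cg : ∀ a, orderOf a = 2 → ∀ χ ∈ L ++ Y.toList, p ∣ cc a → (4 * p : ℤ) ∣ dg χ - iv χ a :=
    fun a ha χ hχ h1 => by
      obtain ⟨w, hw, hc⟩ := exists_comm hp.out h1
      obtain ⟨η, h2, h3⟩ := mT χ hχ
      exact cong_Tt h h2 hG hp2 hw (H83.mul_self_of_orderOf_two ha) hc h3
  have n1 : ∀ χ ∈ L ++ Y.toList, χ ≠ one G := fun χ hχ e => (List.nodup_cons.1 nd).1 (e ▸ hχ)
  have dv : ∀ χ ∈ L ++ Y.toList, dg χ ∣ Nat.card (Sylow p G) * e := fun χ hχ => by
    obtain ⟨η, h2, h3⟩ := mT χ hχ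
    exact a3 ▸ dg_Tt_dvd h h2 h3 hy.symm.dvd
  have ab : ∀ {σ : ℤ}, σ = 1 ∨ σ = -1 → ∀ χ : IrrCharacter G, (σ * iv χ 1).natAbs = dg χ :=
    fun hσ χ => congrArg Prod.fst (sign_sign hσ χ 0)
  have mθ : θ ∈ L ++ Y.toList := by simp [hθ]
  have hr : ∀ a : G, orderOf a = 2 → ¬ p ∣ orderOf a := fun a ha h1 => hp2
    ((Nat.prime_dvd_prime_iff_eq hp.out Nat.prime_two).1 (ha ▸ h1))
  refine ⟨Nat.card (Sylow p G), e, Nat.card V, L, Y.toList, s, hp.out, mem_cas hp.out.one_lt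
    Nat.card_pos.ne' a1 (Eq.trans (card_sylow_modEq_one p G) (Nat.mod_eq_of_lt hp.out.one_lt))
    (card_sylow_ne_one hna p (hN ▸ dvd_mul_right _ _)) ⟨t, by rw [← h.te, mul_comm]; rfl⟩
    (by omega), mul_ne_zero Nat.card_pos.ne' (by omega), nd, fun flt hf => ⟨?_, ?_, ?_, ?_, ?_, ?_,
    ?_, ?_⟩, fun qs hq a ha => ⟨?_, ?_, ?_, ?_⟩, fun a ha hi => ?_, fun h1 ψ h2 h3 => ?_,
    fun χ hχ => (md χ hχ).imp And.right And.right, sg, fun g => cc_of_order hC,
    fun h2 χ hχ => ?_, fun h2 => ?_, fun η hη η' hη' g hg =>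
      h.uni (Finset.mem_toList.1 hη) (Finset.mem_toList.1 hη') hg,
    by have := h.te; have := h.t_pos; nlinarith, hp, P, V, t, X, Y, δ, ε, hC, h, rfl, he, rfl, mL,
    fun _ => Finset.mem_toList, fun _ h => if_pos h, sY⟩
  · rw [cl, List.length_map, hL.length_eq, Finset.length_toList,
      Finset.card_erase_add_one h.one_mem, h.cardX]
  · exact List.pairwise_map.2 ((List.pairwise_mergeSort (fun a b c => by simpa using le_trans)
      (fun a b => by simpa using le_total _ _) _).imp fun h => by simpa using h)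
  · refine List.forall_mem_map.2 fun χ hχ => ?_
    have h1 := List.mem_append_left Y.toList hχ
    have h2 := dg_pos χ
    have h3 : dg χ ≠ 1 := fun e => n1 χ h1 (eq_one_of_dg hG e)
    rw [ab (sg χ), iv_one]
    exact ⟨dv χ h1, ((md χ h1).resolve_right fun h4 => h.ne_XY ((mL χ).1 hχ).2 h4.1 rfl).2,
      by omega, hf χ h1⟩
  · rw [r1, ab h.sε]; exact dv θ mθ
  · rw [r1, iv_one, ← sY θ hθ]
    exact ((md θ mθ).resolve_left fun h4 => h.ne_XY ((mL θ).1 h4.1).2 hθ rfl).2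
  · rw [r1, ab h.sε]; exact fun e => n1 θ mθ (eq_one_of_dg hG e)
  · rw [r1, ab h.sε]; exact hf θ mθ
  · have := sq 1 h.not_dvd_one ic_one
    rw [cc, centralizer_eq_top_iff_subset.2 (by simp), card_top] at this
    exact_mod_cast this
  all_goals try have ha2 := H83.mul_self_of_orderOf_two ha
  all_goals try have hr := hr a ha
  · simp only [cl, List.forall₂_map_left_iff, List.forall₂_map_right_iff, List.forall₂_same]
    exact fun χ hχ => ok_of hna hq (n1 χ (by simp [hχ])) ha (cg a ha χ (by simp [hχ])) (sg χ)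
  · rw [r1, reg a hr (fun χ _ => ic_inv ha2 χ) θ hθ]
    exact ok_of hna hq (n1 θ mθ) ha (cg a ha θ mθ) h.sε
  · exact_mod_cast sq a hr (ic_inv ha2)
  · obtain ⟨k, h1, h2, h3⟩ := a4 a ha2
    refine ⟨k, h1, h2, ?_⟩
    have h4 := a6 a ha2
    rw [Tt, Finset.sum_insert fun h1 =>
      Finset.disjoint_right.1 h.disj hθ (Finset.mem_of_mem_erase h1), st_θ h hθ, h3,
      Finset.sum_congr rfl (g := fun χ => s χ * iv χ a * (s χ * iv χ a) *
        (Nat.card G / (s χ * iv χ 1))) fun χ hχ => by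
        simp only [st, s, if_pos (Finset.mem_of_mem_erase hχ), iv_one], ← sumL] at h4
    rw [fm, r1, reg a hr (fun χ _ => ic_inv ha2 χ) θ hθ, cl, cl, List.zipWith_map,
      List.zipWith_self, iv_one]
    rw [neg_mul ε (dg θ), Int.ediv_neg] at h4
    push_cast at h4 ⊢
    linear_combination h4
  · rw [H45.MN.uns, pr, List.map_append, r1, reg a ha hi θ hθ, sign_sign h.sε, cl, cl,
      List.zipWith_map, List.zipWith_self, ht]
    congr 1
    · exact List.map_congr_left fun χ _ => sign_sign (sg χ) χ _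
    · refine (List.eq_replicate_iff.2 ⟨by simp [h.cardY], List.forall_mem_map.2 fun η hη => ?_⟩).symm
      rw [Finset.mem_toList] at hη
      rw [h.dg_eq hη hθ, iv, iv, h.uni hη hθ ha]
  · by_contra h4
    simp only [List.mem_append, mL, Finset.mem_toList, not_or, not_and] at h4
    exact h3 (a7 h1 ψ (h4.1 h2) h4.2)
  · obtain ⟨a, ha, h3, -⟩ := a5 h2
    obtain ⟨k, hk⟩ := cg a ha χ hχ h3
    have h4 := abs_lt.1 (iv_lt hna (n1 χ hχ) (H83.ne_one_of_orderOf_two ha)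
      (ic_inv (H83.mul_self_of_orderOf_two ha) χ))
    have h5 : (0 : ℤ) < p := by exact_mod_cast hp.out.pos
    have h6 : 0 < k := (mul_pos_iff_of_pos_left (by omega : (0 : ℤ) < 4 * p)).1 (by omega)
    have : (p : ℤ) * 1 ≤ p * k := mul_le_mul_of_nonneg_left h6 h5.le
    have : (2 * p : ℤ) < dg χ := by linarith
    exact_mod_cast this
  · obtain ⟨a, ha, -, h3⟩ := a5 h2
    exact ⟨a, ha, h3⟩

namespace Bk
variable {p n e v q n' e' v' : ℕ} {L E L' E' : List (IrrCharacter G)} {s s' : IrrCharacter G → ℤ}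
  (A : Bk p n e v L E s)
include A

theorem ne_one {χ : IrrCharacter G} (h : χ ∈ L ++ E) : χ ≠ one G := fun e =>
  (List.nodup_cons.1 A.nd).1 (e ▸ h)

theorem ndv {χ : IrrCharacter G} (h : χ ∈ L ++ E) : ¬ p ∣ dg χ := fun h1 => by
  have h2 := (Int.natCast_dvd_natCast.2 h1).mul_left (s χ)
  have h3 := A.lt
  have h4 := A.hp.one_lt
  have h5 := Nat.pos_of_ne_zero (right_ne_zero_of_mul A.ne0)
  rcases A.md χ h with h | h <;>
  · have := Int.le_of_dvd (by omega) ((dvd_sub_right h2).1 h)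
    omega

theorem uns2 (hp : p ≠ 2) {a : G} (ha : a * a = 1) :
    MN.uns (cl s L 1) (cl s L a) ((p - 1) / e) = pr (L ++ E) a :=
  A.uns a (fun h => hp ((Nat.prime_dvd_prime_iff_eq A.hp Nat.prime_two).1
    (h.trans (orderOf_dvd_of_pow_eq_one (by rwa [pow_two]))))) fun χ _ => ic_inv ha χ

theorem sub (B : Bk q n' e' 1 L' E' s') (a : G) : sub q (pr (L ++ E) a) (pr (L' ++ E') a) = true :=
  sub_map _ (List.nodup_cons.1 A.nd).2 fun χ h h1 => B.out rfl χ (A.ne_one h) h1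

theorem not_dvd_cc (hv : v = 1) {a : G} (ha : ¬ orderOf a ∣ p) : ¬ p ∣ cc a := fun h => by
  obtain ⟨w, hw, hc⟩ := exists_comm A.hp h
  have := orderOf_dvd_natCard (⟨a, mem_centralizer_singleton.2 hc.symm⟩ : centralizer {w})
  rw [orderOf_mk, show Nat.card _ = _ from A.ccp w hw, hv, mul_one] at this
  exact ha this

theorem dvd_v (B : Bk q n' e' v' L' E' s') (hpq : p ≠ q) (h : q ∣ v) : p ∣ v' := by
  obtain ⟨_, _, _, _, _, _, _, _, -, hb, -⟩ := A.br
  obtain ⟨x, hx⟩ := hb.exists_order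
  obtain ⟨w, hw, hc⟩ := exists_comm B.hp (A.ccp x hx ▸ h.mul_left p)
  have := orderOf_dvd_natCard (⟨x, mem_centralizer_singleton.2 hc.symm⟩ : centralizer {w})
  rw [orderOf_mk, hx, show Nat.card _ = _ from B.ccp w hw] at this
  exact ((Nat.coprime_primes A.hp B.hp).2 hpq).dvd_of_dvd_mul_left this

end Bk

theorem sq_pr (L : List (IrrCharacter G)) (a : G) :
    (sq (pr L a) : ℤ) = (L.map fun χ => iv χ a ^ 2).sum := by
  simp only [sq, pr, List.map_map, Nat.cast_list_sum]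
  exact congrArg _ (List.map_congr_left fun χ _ => by simp only [Function.comp, s2_cast, pow_two])

theorem dv_pr (q : ℕ) (L : List (IrrCharacter G)) (a : G) :
    dv q (pr L a) = pr (L.filter fun χ => dg χ % q == 0) a := List.filter_map

theorem sq_le {L : List (IrrCharacter G)} (h : (one G :: L).Nodup) {a : G} (ha : IC a) :
    1 + sq (pr L a) ≤ cc a := by
  have h1 := list_le h (fun χ => iv χ a ^ 2) fun _ => sq_nonneg _
  rw [ha.sum_sq, List.map_cons, List.sum_cons, iv_triv, ← sq_pr] at h1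
  exact_mod_cast h1

theorem nodup_dv {q : ℕ} {L M : List (IrrCharacter G)} (hL : (one G :: L).Nodup)
    (hM : (one G :: M).Nodup) (h : ∀ χ ∈ L, ¬ q ∣ dg χ) :
    (one G :: (L ++ M.filter fun χ => dg χ % q == 0)).Nodup := by
  rw [List.nodup_cons] at hL hM ⊢
  refine ⟨fun h1 => (List.mem_append.1 h1).elim hL.1 fun h2 => hM.1 (List.mem_filter.1 h2).1,
    List.nodup_append.2 ⟨hL.2, hM.2.filter _, fun a ha b hb e => h a ha ?_⟩⟩
  exact e ▸ Nat.dvd_of_mod_eq_zero (beq_iff_eq.1 (List.mem_filter.1 hb).2)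

theorem sq_append (A B : List (ℕ × ℤ)) : sq (A ++ B) = sq A + sq B := by simp [sq]

theorem pr_append (L M : List (IrrCharacter G)) (a : G) : pr (L ++ M) a = pr L a ++ pr M a :=
  List.map_append

theorem Bk.bound {p n e v q n' e' v' : ℕ} {L E L' E' : List (IrrCharacter G)}
    {s s' : IrrCharacter G → ℤ} (A : Bk p n e v L E s) (B : Bk q n' e' v' L' E' s') {a : G}
    (ha : IC a) : 1 + sq (pr (L' ++ E') a) + sq (dv q (pr (L ++ E) a)) ≤ cc a := by
  rw [dv_pr, add_assoc, ← sq_append, ← pr_append]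
  exact sq_le (nodup_dv B.nd A.nd fun _ => B.ndv) ha

/-- A value shared by all characters of the same degree is an integer. -/
theorem int_of_deg {χ : IrrCharacter G} {g : G} (h : ∀ ψ, dg ψ = dg χ → ψ.1 g = χ.1 g) :
    (iv χ g : ℂ) = χ.1 g :=
  coe_iv (exists_int_of_forall_fixed (χ.2.isCharacter.isIntegral g) fun σ =>
    h ⟨_, χ.2.gal σ.toRingHom⟩ (charDegree_eq (by simp only [← coe_dg χ]; exact map_natCast σ _)))

end H45.MN
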