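/- Numerical searches for simple groups of order `443520`. -/
import Cfsg.Agent.H45.MN22

set_option autoImplicit false
set_option maxRecDepth 100000

namespace H45.MN

theorem c11 : ((cas 443520 11).all fun x => degs 443520 11 x.1 x.2.1 (big 11 x.2.2) fun D =>
    if x.2.2 = 1 then x.2.1 == 5 && R11.contains D else x.2.2 % 2 == 0 &&
      (cset 443520 11 x.2.1 x.2.2).all fun c =>
        cols 443520 [5, 7] 11 x.2.1 x.2.2 D c fun _ => false) = true := by
  decide +kernel

theorem c7 : ((cas 443520 7).all fun x => x.2.2 % 11 == 0 ||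
    degs 443520 7 x.1 x.2.1 (fun d => big 7 x.2.2 d && res d) fun D =>
    if x.2.2 = 1 then x.2.1 == 3 && R7.contains D else if x.2.2 % 2 = 0 then
      (cset 443520 7 x.2.1 x.2.2).all fun c => c % 11 == 0 ||
        cols 443520 [5, 7] 7 x.2.1 x.2.2 D c fun U => x.2.2 % 5 != 0 && inT T7 c (6 / x.2.1) D U
    else Cz.all fun c => cols 443520 [5, 7] 7 x.2.1 x.2.2 D c fun _ => false) = true := by
  decide +kernel

theorem c5 : ((cas 443520 5).all fun x => x.2.2 % 11 == 0 ||
    degs 443520 5 x.1 x.2.1 (fun d => big 5 x.2.2 d && res d) fun D =>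
    if x.2.2 = 1 then x.2.1 == 4 && R5.contains D else if x.2.2 % 2 = 0 then
      (cset 443520 5 x.2.1 x.2.2).all fun c => c % 11 == 0 ||
        cols 443520 [5, 7] 5 x.2.1 x.2.2 D c fun U => inT T5 c (4 / x.2.1) D U
    else x.2.2 % 7 == 0) = true := by
  decide +kernel

theorem kz : (R7.all fun A => R11.all fun B => !sub 11 (uns A A 2) (uns B B 2) ||
    !sub 7 (uns B B 2) (uns A A 2) || Cz.all fun c => c % 7 == 0 ||
    cols 443520 [5, 7] 7 3 1 A c fun U => cols 443520 [5, 7] 11 5 1 B c fun W =>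
      !sub 11 (uns A U 2) (uns B W 2) || Nat.blt c (1 + sq (uns B W 2) + sq (dv 11 (uns A U 2))) ||
      (PP.contains (A, B) && (c % 5 == 0 || R5.all fun C => !sub 11 (uns C C 1) (uns B B 2) ||
        !sub 5 (uns B B 2) (uns C C 1) || !sub 5 (uns A A 2) (uns C C 1) ||
        !sub 7 (uns C C 1) (uns A A 2) || cols 443520 [5, 7] 5 4 1 C c fun Z =>
          !sub 5 (uns A U 2) (uns C Z 1) || !sub 5 (uns B W 2) (uns C Z 1) ||
          (A == [-55, 99] && B == [-21, 45, 45, 210] && F5.contains C)))) = true := by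
  decide +kernel

theorem kf : (F5.all fun C => (dvs 1152).all fun c => c % 2 != 0 ||
    cols 443520 [5, 7] 7 3 1 [-55, 99] c fun U =>
    cols 443520 [5, 7] 11 5 1 [-21, 45, 45, 210] c fun W =>
    !sub 11 (uns [-55, 99] U 2) (uns [-21, 45, 45, 210] W 2) || cols 443520 [5, 7] 5 4 1 C c fun Z =>
      let M := uns [-21, 45, 45, 210] W 2 ++ dv 11 (uns [-55, 99] U 2 ++ dv 7 (uns C Z 1))
      let S : ℤ := 1 + (M.map fun x => (x.1 : ℤ) * x.2).sum
      !sub 5 M (uns C Z 1) || S % 385 != 0 || 1 + sq M + s2 (S / 385) != c ||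
        (c == 384 && S == -385 && M.all fun x => x.2 == val x.1)) = true := by
  decide +kernel

end H45.MN
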