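/- Numerical searches for simple groups of order `443520`. -/
import Cfsg.Agent.H45.MN22

set_option autoImplicit false
set_option maxRecDepth 100000

namespace H45.MN

theorem k7 : kT T7 (fun c B x => S7.contains B && (c % 5 == 0 || R5.all fun C =>
    !sub 11 (uns C C 1) (uns B B 2) || !sub 5 (uns B B 2) (uns C C 1) ||
    !sub 5 (uns x.2.1 x.2.1 x.1) (uns C C 1) || cols 443520 [5, 7] 5 4 1 C c fun Z =>
      !sub 5 (uns x.2.1 x.2.2 x.1) (uns C Z 1))) = true := by
  decide +kernel

theorem k5 : kT T5 (fun c B x => S5.contains B && (c % 7 == 0 || PP.all fun C => C.2 != B ||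
    cols 443520 [5, 7] 7 3 1 C.1 c fun Z => !sub 7 (uns x.2.1 x.2.2 x.1) (uns C.1 Z 2))) = true := by
  decide +kernel

end H45.MN
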