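/- Simple groups of order `443520`: the blocks for `11`, `7` and `5`. -/
import Cfsg.Agent.H45.MG
import Cfsg.Agent.H45.MN22b
import Cfsg.Agent.H45.MN22c

set_option autoImplicit false
set_option linter.unusedSectionVars false

namespace H45.MN
open Cfsg H28 H29 H39 H87 Subgroup H45.MO

variable {G : Type*} [Group G] [Fintype G]
  {p n e v n7 e7 v7 n5 e5 v5 : ℕ} {L E L7 E7 L5 E5 : List (IrrCharacter G)}
  {s s7 s5 : IrrCharacter G → ℤ}

theorem Bk.big' (A : Bk p n e v L E s) {χ : IrrCharacter G} (h : χ ∈ L ++ E) :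
    MN.big p v (dg χ) = true := by
  simp only [MN.big, Bool.or_eq_true, beq_iff_eq, Nat.blt_eq]
  exact or_iff_not_imp_left.2 fun h1 => A.big (by omega) χ h

theorem Bk.res (A : Bk 11 n 5 1 L E s) (ψ : IrrCharacter G) : res (dg ψ) = true := by
  have : dg ψ % 11 = 0 ∨ dg ψ % 11 = 1 ∨ dg ψ % 11 = 5 ∨ dg ψ % 11 = 6 ∨ dg ψ % 11 = 10 := by
    by_cases h : ψ = one G
    · simp [h, dg_one]
    by_cases h1 : 11 ∣ dg ψ
    · omega
    have := A.md ψ (A.out rfl ψ h h1)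
    rcases A.sg ψ with e | e <;> rw [e] at this <;> omega
  simpa [MN.res] using this

variable [IsSimpleGroup G] (hG : Nat.card G = 443520)
include hG

theorem col22 (A : Bk p n e v L E s) {a : G} (ha : orderOf a = 2) :
    Cl 443520 [5, 7] p e v (cl s L 1) (cc a) (cl s L a) :=
  hG ▸ A.col _ (by rw [hG]; simp; norm_num) a ha

theorem step11 (A : Bk 11 n e v L E s) : v = 1 ∧ e = 5 ∧ cl s L 1 ∈ R11 := by
  have h0 := List.all_eq_true.1 c11 _ (hG ▸ A.mem)
  have h := degs_spec (by norm_num) A.ne0 (hG ▸ A.deg _ fun _ => A.big') h0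
  split_ifs at h with h1
  · exact ⟨h1, by simpa using h⟩
  simp only [Bool.and_eq_true, beq_iff_eq, List.all_eq_true] at h
  obtain ⟨a, ha, h2⟩ := A.inv (by omega)
  simpa using cols_spec (col22 hG A ha) (h.2 _ (hG ▸ h2))

theorem exists_z (A : Bk 11 n 5 1 L E s) : ∃ z : G, orderOf z = 2 ∧ cc z ∈ Cz := by
  obtain ⟨z, hz, h⟩ := exists_central_inv (G := G) (n := 6) (by rw [hG]; norm_num)
  exact ⟨z, hz, mem_Cz (hG ▸ card_subgroup_dvd_card _) h (A.not_dvd_cc rfl (by simp [hz]))⟩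

theorem step7 (A : Bk 11 n 5 1 L E s) (B : Bk 7 n7 e7 v7 L7 E7 s7) :
    (v7 = 1 ∧ e7 = 3 ∧ cl s7 L7 1 ∈ R7) ∨ (¬ 5 ∣ v7 ∧ ∃ a : G, orderOf a = 2 ∧
      inT T7 (cc a) (6 / e7) (cl s7 L7 1) (cl s7 L7 a) = true) := by
  have h0 := (Bool.or_eq_true _ _).mp (List.all_eq_true.1 c7 _ (hG ▸ B.mem))
  have h := degs_spec (by norm_num) B.ne0 (hG ▸ B.deg _ fun χ h => by simp [B.big' h, A.res])
    (h0.resolve_left fun h => by
      simpa using B.dvd_v A (by norm_num) (Nat.dvd_of_mod_eq_zero (beq_iff_eq.1 h)))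
  split_ifs at h with h1 h2
  · exact Or.inl ⟨h1, by simpa using h⟩
  · obtain ⟨a, ha, h3⟩ := B.inv (Nat.dvd_of_mod_eq_zero h2)
    have h4 := A.not_dvd_cc rfl (a := a) (by simp [ha])
    have := cols_spec (col22 hG B ha) (((Bool.or_eq_true _ _).mp
      (List.all_eq_true.1 h _ (hG ▸ h3))).resolve_left (by simp; omega))
    simp only [Bool.and_eq_true, bne_iff_ne] at this
    exact Or.inr ⟨by omega, a, ha, this.2⟩
  · obtain ⟨z, hz, h3⟩ := exists_z hG A
    simpa using cols_spec (col22 hG B hz) (List.all_eq_true.1 h _ h3)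

theorem step5 (A : Bk 11 n 5 1 L E s) (C : Bk 5 n5 e5 v5 L5 E5 s5) :
    (v5 = 1 ∧ e5 = 4 ∧ cl s5 L5 1 ∈ R5) ∨ 7 ∣ v5 ∨ ∃ a : G, orderOf a = 2 ∧
      inT T5 (cc a) (4 / e5) (cl s5 L5 1) (cl s5 L5 a) = true := by
  have h0 := (Bool.or_eq_true _ _).mp (List.all_eq_true.1 c5 _ (hG ▸ C.mem))
  have h := degs_spec (by norm_num) C.ne0 (hG ▸ C.deg _ fun χ h => by simp [C.big' h, A.res])
    (h0.resolve_left fun h => by
      simpa using C.dvd_v A (by norm_num) (Nat.dvd_of_mod_eq_zero (beq_iff_eq.1 h)))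
  split_ifs at h with h1 h2
  · exact Or.inl ⟨h1, by simpa using h⟩
  · obtain ⟨a, ha, h3⟩ := C.inv (Nat.dvd_of_mod_eq_zero h2)
    have h4 := A.not_dvd_cc rfl (a := a) (by simp [ha])
    exact Or.inr (Or.inr ⟨a, ha, cols_spec (col22 hG C ha) (((Bool.or_eq_true _ _).mp
      (List.all_eq_true.1 h _ (hG ▸ h3))).resolve_left (by simp; omega))⟩)
  · exact Or.inr (Or.inl (Nat.dvd_of_mod_eq_zero (beq_iff_eq.1 h)))

theorem use_kT {T : List (ℕ × List (ℕ × List ℤ × List ℤ))}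
    {Q : ℕ → List ℤ → ℕ × List ℤ × List ℤ → Bool} (h : kT T Q = true) (A : Bk 11 n 5 1 L E s)
    (hA : cl s L 1 ∈ R11) (B : Bk p n7 e7 v7 L7 E7 s7) (hp : p ≠ 2) {a : G} (ha : orderOf a = 2)
    (h1 : inT T (cc a) ((p - 1) / e7) (cl s7 L7 1) (cl s7 L7 a) = true) :
    Q (cc a) (cl s L 1) ((p - 1) / e7, cl s7 L7 1, cl s7 L7 a) = true := by
  have ha2 := H83.mul_self_of_orderOf_two ha
  have a1 : uns _ _ 2 = _ := A.uns2 (by norm_num) (one_mul 1)
  have a2 : uns _ _ 2 = _ := A.uns2 (by norm_num) ha2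
  refine kT_spec h h1 hA ?_ (col22 hG A ha) ?_ ?_
  · rw [a1, B.uns2 hp (one_mul 1)]; exact B.sub A 1
  · rw [a2, B.uns2 hp ha2]; exact B.sub A a
  · rw [a2, B.uns2 hp ha2]; exact B.bound A (ic_inv ha2)

theorem all_one (A : Bk 11 n e v L E s) (B : Bk 7 n7 e7 v7 L7 E7 s7) (C : Bk 5 n5 e5 v5 L5 E5 s5) :
    (v = 1 ∧ e = 5 ∧ cl s L 1 = [-21, 45, 45, 210]) ∧ (v7 = 1 ∧ e7 = 3 ∧ cl s7 L7 1 = [-55, 99]) ∧
      v5 = 1 ∧ e5 = 4 ∧ cl s5 L5 1 ∈ F5 := by
  obtain ⟨rfl, rfl, hA⟩ := step11 hG A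
  have a1 : ∀ {a : G}, a * a = 1 → uns _ _ 2 = _ := A.uns2 (by norm_num)
  have b1 : ∀ {a : G}, a * a = 1 → uns _ _ (6 / e7) = _ := B.uns2 (by norm_num)
  have c1 : ∀ {a : G}, a * a = 1 → uns _ _ (4 / e5) = _ := C.uns2 (by norm_num)
  have o := one_mul (1 : G)
  rcases step7 hG A B with ⟨rfl, rfl, hB⟩ | ⟨h5, a, ha, h7⟩
  · obtain ⟨z, hz, h1⟩ := exists_z hG A
    have hz2 := H83.mul_self_of_orderOf_two hz
    have h2 := B.not_dvd_cc rfl (a := z) (by simp [hz])
    have h3 := List.all_eq_true.1 (List.all_eq_true.1 kz _ hB) _ hA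
    simp only [a1 o, show uns _ _ 2 = _ from b1 o, B.sub A, A.sub B, Bool.not_true,
      Bool.false_or] at h3
    have h4 := cols_spec (col22 hG A hz) (cols_spec (col22 hG B hz) (((Bool.or_eq_true _ _).mp
      (List.all_eq_true.1 h3 _ h1)).resolve_left (by simp; omega)))
    simp only [a1 hz2, show uns _ _ 2 = _ from b1 hz2, B.sub A, Bool.not_true, Bool.false_or,
      Bool.or_eq_true, Nat.blt_eq, (B.bound A (ic_inv hz2)).not_gt, false_or, Bool.and_eq_true,
      List.contains_iff_mem, beq_iff_eq, List.all_eq_true] at h4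
    rcases step5 hG A C with ⟨rfl, rfl, hC⟩ | h5 | ⟨a, ha, h5⟩
    · have h6 := C.not_dvd_cc rfl (a := z) (by simp [hz])
      have h7 := h4.2.resolve_left (by omega) _ hC
      simp only [show uns _ _ 1 = _ from c1 o, C.sub A, A.sub C, B.sub C, C.sub B, Bool.not_true,
        Bool.false_eq_true, false_or] at h7
      have h8 := cols_spec (col22 hG C hz) h7
      simp only [show uns _ _ 1 = _ from c1 hz2, A.sub C, B.sub C, Bool.not_true, Bool.false_or,
        Bool.and_eq_true, beq_iff_eq, List.contains_iff_mem] at h8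
      exact ⟨⟨rfl, rfl, h8.1.2⟩, ⟨rfl, rfl, h8.1.1⟩, rfl, rfl, h8.2⟩
    · simpa using C.dvd_v B (by norm_num) h5
    · have ha2 := H83.mul_self_of_orderOf_two ha
      have h6 := use_kT hG k5 A hA C (by norm_num) ha h5
      have h7 := B.not_dvd_cc rfl (a := a) (by simp [ha])
      simp only [Bool.and_eq_true, Bool.or_eq_true, beq_iff_eq, List.all_eq_true] at h6
      have h8 := cols_spec (col22 hG B ha)
        ((h6.2.resolve_left (by omega) _ h4.1).resolve_left (by simp))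
      simp [show uns _ _ 2 = _ from b1 ha2, c1 ha2, C.sub B] at h8
  · have ha2 := H83.mul_self_of_orderOf_two ha
    have h6 := use_kT hG k7 A hA B (by norm_num) ha h7
    simp only [Bool.and_eq_true, Bool.or_eq_true, beq_iff_eq, List.all_eq_true,
      List.contains_iff_mem] at h6
    rcases step5 hG A C with ⟨rfl, rfl, hC⟩ | h5' | ⟨b, hb, h5'⟩
    · have h8 := C.not_dvd_cc rfl (a := a) (by simp [ha])
      have h9 := h6.2.resolve_left (by omega) _ hC
      simp only [a1 o, b1 o, show uns _ _ 1 = _ from c1 o, C.sub A, A.sub C, B.sub C, Bool.not_true,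
        Bool.false_eq_true, false_or] at h9
      simpa [b1 ha2, show uns _ _ 1 = _ from c1 ha2, B.sub C] using cols_spec (col22 hG C ha) h9
    · exact absurd (C.dvd_v B (by norm_num) h5') h5
    · have := use_kT hG k5 A hA C (by norm_num) hb h5'
      simp only [Bool.and_eq_true, List.contains_iff_mem] at this
      exact absurd this.1 (S75 _ h6.1)

end H45.MN
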