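/- Simple groups of order `95040`: the remaining characters. -/
import Cfsg.Agent.H45.MO8

set_option autoImplicit false
set_option linter.unusedSectionVars false

namespace H45.MO
open Cfsg H28 H29 H39 H87 Subgroup
open scoped ComplexConjugate

variable {G : Type*} [Group G] [Fintype G] [IsSimpleGroup G]
  {c120 c54 c45 c144 θ1 θ2 c99 c66 c176 : IrrCharacter G} {y s z : G}

theorem not_mem_of_dg {L : List (IrrCharacter G)} {χ : IrrCharacter G} (h : dg χ ∉ L.map dg) :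
    χ ∉ L := fun e => h (List.mem_map_of_mem e)

theorem iv_mod {p : ℕ} (hp : p.Prime) {y : G} (hy : orderOf y = p) (hi : IC y)
    (χ : IrrCharacter G) : (p : ℤ) ∣ iv χ y - dg χ := by
  simpa [iv_one] using iv_cong hp (χ := χ) (hy ▸ pow_orderOf_eq_one y) (Commute.one_right y)
    (by simpa using hi χ) (ic_one χ)

theorem iv_zero5 (hG : Nat.card G = 95040) {χ : IrrCharacter G} (h : 5 ∣ dg χ) {g : G}
    (hg : 5 ∣ orderOf g) : iv χ g = 0 :=
  iv_eq (by simpa using eq_zero_of_pow_factorization_dvd (p := 5) (by norm_num) χ.2 (by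
    rwa [hG, show (95040 : ℕ).factorization 5 = 1 by decide +kernel, pow_one]) hg)

theorem lt97 {n : ℕ} (h : (n : ℤ) ^ 2 < 9409) : n < 97 := by
  by_contra h'
  have : (97 : ℤ) ≤ n := by exact_mod_cast not_lt.1 h'
  nlinarith

theorem lt4 {n : ℤ} (h : n ^ 2 ≤ 10) : -4 < n ∧ n < 4 := by constructor <;> nlinarith

theorem three_of_sq {u v : ℤ} (a : 4 ∣ 11 - u) (b : 4 ∣ 11 - v) (c : u ^ 2 + v ^ 2 = 18) :
    u = 3 := by
  have h1 : -5 < u ∧ u < 5 := by constructor <;> nlinarith [sq_nonneg v]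
  have h2 : -5 < v ∧ v < 5 := by constructor <;> nlinarith [sq_nonneg u]
  obtain rfl | rfl : u = 3 ∨ u = -1 := by omega
  · rfl
  · obtain rfl | rfl : v = 3 ∨ v = -1 := by omega
    all_goals omega

theorem vals_y (hG : Nat.card G = 95040) (A : D11 c120 c54 c45 c144 θ1 θ2)
    (B : DB y s c144 c99 c66 c176) : iv θ2 y = 1 ∧ iv θ1 y = 1 ∧ iv (one G) y = 1 ∧
      iv c144 y = -1 ∧ iv c99 y = -1 ∧ iv c66 y = 1 ∧ iv c176 y = 1 ∧ iv c120 y = 0 ∧
      iv c45 y = 0 ∧ iv c54 y = -1 := by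
  have C := B.toDC
  obtain ⟨g, hg⟩ := B.rat
  have iy := (C.ic hg).1
  have v5 := B.val y C.hy.symm.dvd
  have m5 := iv_mod (by norm_num) C.hy iy
  have k : ∀ χ, -4 < iv χ y ∧ iv χ y < 4 := fun χ => by
    have := Finset.single_le_sum (f := fun χ => iv χ y ^ 2) (fun _ _ => sq_nonneg _)
      (Finset.mem_univ χ)
    rw [iy.sum_sq, B.cC] at this
    exact lt4 this
  have a := m5 θ2
  have b := m5 θ1
  have c := m5 c54
  have a' := k θ2
  have b' := k θ1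
  have c' := k c54
  rw [A.d16'] at a
  rw [A.d16] at b
  rw [A.d54] at c
  exact ⟨by omega, by omega, iv_triv y, iv_eq (by simp [v5]), iv_eq (by simp [v5]),
    iv_eq (by simp [v5]), iv_eq (by simp [v5]), iv_zero5 hG (by simp [A.d120]) C.hy.symm.dvd,
    iv_zero5 hG (by simp [A.d45]) C.hy.symm.dvd, by omega⟩

theorem DB.out' (B : DB y s c144 c99 c66 c176) {ψ : IrrCharacter G}
    (h : ψ ∉ [one G, c144, c99, c66, c176]) : iv ψ (y * s) = -iv ψ y := by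
  obtain ⟨g, hg⟩ := B.rat
  obtain ⟨iy, iys⟩ := B.toDC.ic hg
  have := B.out ψ h
  rw [← iy, ← iys] at this
  have : iv ψ y + iv ψ (y * s) = 0 := by exact_mod_cast this
  omega

/-- The two characters of degree `11` and the three of degree `55`. -/
structure DR (y s z : G) (L : List (IrrCharacter G)) (a1 a2 : IrrCharacter G)
    (R : Finset (IrrCharacter G)) : Prop where
  d1 : dg a1 = 11
  d2 : dg a2 = 11
  y1 : iv a1 y = 1 ∧ iv a1 (y * s) = -1
  y2 : iv a2 y = 1 ∧ iv a2 (y * s) = -1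
  yR : ∀ ψ ∈ R, iv ψ y = 0 ∧ iv ψ (y * s) = 0
  v1 : iv a1 z = 3 ∧ iv a1 s = -1
  v2 : iv a2 z = 3 ∧ iv a2 s = -1
  card : R.card = 3
  dR : ∀ ψ ∈ R, dg ψ = 55
  sumZ : ∀ {M : Type} [AddCommMonoid M] (F : IrrCharacter G → M),
    ∑ χ, F χ = F a2 + (F a1 + (L.map F).sum) + ∑ χ ∈ R, F χ
  sR : ∀ ψ ∈ R, iv ψ s = -5

theorem exists_DR (hG : Nat.card G = 95040) (A : D11 c120 c54 c45 c144 θ1 θ2)
    (d144 : dg c144 = 144) (B : DB y s c144 c99 c66 c176)
    (Z : DZ y s z c120 c54 c45 c144 θ1 c99 c66 c176) : ∃ a1 a2 R,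
      DR y s z [θ2, θ1, one G, c144, c99, c66, c176, c120, c45, c54] a1 a2 R := by
  classical
  have hna := nonab hG
  have C := B.toDC
  obtain ⟨g, hg⟩ := B.rat
  obtain ⟨iy, iys⟩ := C.ic hg
  have z2 := H83.mul_self_of_orderOf_two Z.hz
  have dgs : dg θ2 = 16 ∧ dg θ1 = 16 ∧ dg (one G) = 1 ∧ dg c144 = 144 ∧ dg c99 = 99 ∧ dg c66 = 66 ∧
      dg c176 = 176 ∧ dg c120 = 120 ∧ dg c45 = 45 ∧ dg c54 = 54 :=
    ⟨A.d16', A.d16, dg_one, d144, B.d99, B.d66, B.d176, A.d120, A.d45, A.d54⟩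
  have nd : [θ2, θ1, one G, c144, c99, c66, c176, c120, c45, c54].Nodup := by
    refine List.nodup_cons.2 ⟨fun h => (List.mem_cons.1 h).elim (fun e => ?_)
      (not_mem_of_dg (by simp [dgs])), List.Nodup.of_map dg (by simp [dgs])⟩
    have := A.nd
    simp [e] at this
  have m5 := iv_mod (by norm_num) C.hy iy
  have sy := iy.sum_sq
  rw [B.cC] at sy
  have vy := vals_y hG A B
  set L := [θ2, θ1, one G, c144, c99, c66, c176, c120, c45, c54] with hL
  have s0 : ∑ χ ∈ L.toFinset, iv χ y ^ 2 = 8 := by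
    rw [List.sum_toFinset _ nd, hL]; simp [vy]
  obtain ⟨a1, n1, u1⟩ := H43.exists_unit_entry (fun χ => iv χ y) L.toFinset (by omega) (by omega)
  have s1 : ∑ χ ∈ insert a1 L.toFinset, iv χ y ^ 2 = 9 := by
    rw [Finset.sum_insert n1, s0]; rcases u1 with e | e <;> simp [e]
  obtain ⟨a2, n2, u2⟩ := H43.exists_unit_entry (fun χ => iv χ y) (insert a1 L.toFinset)
    (by omega) (by omega)
  have s2 : ∑ χ ∈ insert a2 (insert a1 L.toFinset), iv χ y ^ 2 = 10 := by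
    rw [Finset.sum_insert n2, s1]; rcases u2 with e | e <;> simp [e]
  have zr := fun ψ => H43.eq_zero_of_sum_eq (fun χ => iv χ y) (insert a2 (insert a1 L.toFinset))
    (by omega) (j := ψ)
  have sumZ : ∀ {M : Type} [AddCommMonoid M] (F : IrrCharacter G → M), ∑ χ, F χ =
      F a2 + (F a1 + (L.map F).sum) + ∑ χ ∈ (insert a2 (insert a1 L.toFinset))ᶜ, F χ := fun F => by
    rw [← List.sum_toFinset _ nd, ← Finset.sum_insert n1, ← Finset.sum_insert n2,
      Finset.sum_add_sum_compl]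
  generalize hR : (insert a2 (insert a1 L.toFinset))ᶜ = R at sumZ
  have hR' : ∀ ψ ∈ R, ψ ∉ L ∧ iv ψ y = 0 := fun ψ hψ => by
    rw [← hR, Finset.mem_compl] at hψ
    exact ⟨fun h => hψ (by simp [h]), zr ψ hψ⟩
  have n1' : a1 ∉ L := by simpa using n1
  have n2' : a2 ∉ L := fun h => n2 (by simp [h])
  have o11 : ∀ ψ ∉ L, 11 ∣ dg ψ := fun ψ hψ => A.out ψ fun h => hψ (by
    simp only [List.mem_cons, List.not_mem_nil, or_false] at h
    rcases h with h | h | h | h | h | h | h <;> simp [h, hL])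
  have o5 : ∀ ψ ∉ L, iv ψ (y * s) = -iv ψ y := fun ψ hψ => B.out' fun h => hψ (by
    simp only [List.mem_cons, List.not_mem_nil, or_false] at h
    rcases h with h | h | h | h | h <;> simp [h, hL])
  have o1 : ∀ ψ ∉ L, ψ ≠ one G := fun ψ hψ e => hψ (by simp [e, hL])
  have e1 := sumZ fun χ => (dg χ : ℤ) ^ 2
  have e2 := sumZ fun χ => iv χ y * iv χ 1
  have e3 := sumZ fun χ => iv χ y * (iv χ z * iv χ z * (Nat.card G / dg χ))
  have e4 := sumZ fun χ => iv χ z ^ 2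
  have e5 := sumZ fun χ => iv χ s ^ 2
  have vz := Z.vz
  have vs := Z.vs
  have vs' := B.vs
  have tz : iv θ2 z = iv θ1 z := A.iv' (by rw [Z.hz]; norm_num)
  have ts : iv θ2 s = iv θ1 s := A.iv' (by rw [C.hs]; norm_num)
  rw [sum_dg_sq, hG] at e1
  rw [iy.sum_mul ic_one fun h => C.y_ne (isConj_one_left.1 h),
    Finset.sum_eq_zero fun ψ hψ => by rw [(hR' ψ hψ).2, zero_mul]] at e2
  rw [← prod_int z2 z2 iy, prodCount_Iv C.odd z2, Z.Iz, Z.cz,
    Finset.sum_eq_zero fun ψ hψ => by rw [(hR' ψ hψ).2, zero_mul], hG] at e3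
  rw [(ic_inv z2).sum_sq, Z.cz] at e4
  rw [(ic_inv C.ss).sum_sq, B.cs] at e5
  simp only [hL, List.map_cons, List.map_nil, List.sum_cons, List.sum_nil, dgs, vy, vz, vs, vs', tz,
    ts, iv_one, iv_triv] at e1 e2 e3 e4 e5
  have p1 : 0 ≤ ∑ χ ∈ R, (dg χ : ℤ) ^ 2 := Finset.sum_nonneg fun _ _ => sq_nonneg _
  have p4 : 0 ≤ ∑ χ ∈ R, iv χ z ^ 2 := Finset.sum_nonneg fun _ _ => sq_nonneg _
  have q1 := sq_nonneg (dg a1 : ℤ)
  have q2 := sq_nonneg (dg a2 : ℤ)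
  have b1 : dg a1 < 97 := lt97 (by omega)
  have b2 : dg a2 < 97 := lt97 (by omega)
  have r1 := o11 a1 n1'
  have r2 := o11 a2 n2'
  have t1 := m5 a1
  have t2 := m5 a2
  have f1 := iv_mod4 (commutator_eq_top hna) a1 z2
  have f2 := iv_mod4 (commutator_eq_top hna) a2 z2
  have g1 := sq_nonneg (iv a1 z)
  have g2 := sq_nonneg (iv a2 z)
  have dd : dg a1 = 11 ∧ dg a2 = 11 ∧ iv a1 y = 1 ∧ iv a2 y = 1 := by
    rcases u1 with u1 | u1 <;> rcases u2 with u2 | u2 <;> rw [u1] at e2 t1 e3 <;> rw [u2] at e2 t2 e3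
    · omega
    · rw [show dg a1 = 66 by omega, show dg a2 = 44 by omega, ← pow_two (iv a1 z),
        ← pow_two (iv a2 z)] at e3
      omega
    · rw [show dg a1 = 44 by omega, show dg a2 = 66 by omega, ← pow_two (iv a1 z),
        ← pow_two (iv a2 z)] at e3
      omega
    · omega
  obtain ⟨d1, d2, y1, y2⟩ := dd
  rw [d1, d2, y1, y2, ← pow_two (iv a1 z), ← pow_two (iv a2 z)] at e3
  rw [d1] at f1
  rw [d2] at f2
  have cs : ∀ ψ ∉ L, (5 : ℤ) ∣ iv ψ y + iv ψ s := fun ψ hψ => by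
    have := iv_cong (p := 5) (by norm_num) (C.hy ▸ pow_orderOf_eq_one y) C.cm (iys ψ)
      (ic_inv C.ss ψ)
    rw [o5 ψ hψ] at this
    omega
  have ws : ∀ ψ ∉ L, dg ψ = 11 → iv ψ y = 1 → iv ψ s = -1 := fun ψ hψ hd hy => by
    have a := cs ψ hψ
    have b := iv_mod4 (commutator_eq_top hna) ψ C.ss
    have c := abs_lt.1 (iv_lt hna (o1 ψ hψ) (H83.ne_one_of_orderOf_two C.hs) (ic_inv C.ss ψ))
    omega
  rw [d1, d2] at e1
  have dR : ∀ ψ ∈ R, dg ψ = 55 := fun ψ hψ => by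
    have a := o11 ψ (hR' ψ hψ).1
    have b := m5 ψ
    have c := Finset.single_le_sum (f := fun χ => (dg χ : ℤ) ^ 2) (fun _ _ => sq_nonneg _) hψ
    have d := dg_pos ψ
    have e : dg ψ < 97 := lt97 (by omega)
    rw [(hR' ψ hψ).2] at b
    omega
  have cR : R.card = 3 := by
    rw [Finset.sum_congr rfl (g := fun _ => 55 ^ 2) fun ψ hψ => by rw [dR ψ hψ]; rfl,
      Finset.sum_const, nsmul_eq_mul] at e1
    omega
  rw [ws a1 n1' d1 y1, ws a2 n2' d2 y2] at e5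
  have sR : ∀ ψ ∈ R, (20 : ℤ) ∣ iv ψ s + 5 := fun ψ hψ => by
    have a := cs ψ (hR' ψ hψ).1
    have b := iv_mod4 (commutator_eq_top hna) ψ C.ss
    rw [(hR' ψ hψ).2] at a
    rw [dR ψ hψ] at b
    omega
  refine ⟨a1, a2, R, d1, d2, ⟨y1, by rw [o5 a1 n1', y1]⟩, ⟨y2, by rw [o5 a2 n2', y2]⟩,
    fun ψ hψ => ⟨(hR' ψ hψ).2, by rw [o5 ψ (hR' ψ hψ).1, (hR' ψ hψ).2, neg_zero]⟩,
    ⟨three_of_sq f1 f2 (by omega), ws a1 n1' d1 y1⟩,
    ⟨three_of_sq f2 f1 (by omega), ws a2 n2' d2 y2⟩, cR, dR, sumZ, fun ψ hψ => ?_⟩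
  have a := Finset.single_le_sum (f := fun χ => iv χ s ^ 2) (fun _ _ => sq_nonneg _) hψ
  have b := sR ψ hψ
  by_contra h
  have := sq_ge (x := iv ψ s) (k := 15) (by omega) (by omega)
  omega

end H45.MO
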