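/- Simple groups of order `443520`: the character degrees and the local data. -/
import Cfsg.Agent.H45.M22a
import Cfsg.Agent.H45.MO9
import Cfsg.Agent.H45.MSpec

set_option autoImplicit false
set_option linter.unusedSectionVars false

namespace H45.MN
open Cfsg H28 H29 H39 H87 Subgroup H45.MO

variable {G : Type*} [Group G] [Fintype G]
  {p n e v n7 n5 : ℕ} {L E L7 E7 L5 E5 : List (IrrCharacter G)} {s s7 s5 : IrrCharacter G → ℤ}

theorem Bk.rel (A : Bk p n e v L E s) {x : G} (hx : ¬ p ∣ orderOf x) (hi : IC x) {u : ℕ → ℤ}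
    (hu : ∀ χ, iv χ x = u (dg χ)) : (1 + (cl s L 1).sum).sign *
      (1 + ((cl s L 1).map fun d => d.sign * u d.natAbs).sum) = u (1 + (cl s L 1).sum).natAbs := by
  have h1 : ((cl s L 1).map fun d => d.sign * u d.natAbs) = cl s L x := by
    rw [cl, cl, List.map_map]
    refine List.map_congr_left fun χ _ => ?_
    have := sign_sign (A.sg χ) χ (s χ * iv χ x)
    simp only [Prod.mk.injEq, ← mul_assoc (s χ), Function.comp] at this ⊢
    rw [this.1, ← hu, ← this.2]
    rcases A.sg χ with h | h <;> simp [h]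
  have h2 := A.uns x hx fun χ _ => hi χ
  have h3 : 0 < (p - 1) / e := Nat.div_pos (Nat.le_sub_one_of_lt A.lt)
    (Nat.pos_of_ne_zero (right_ne_zero_of_mul A.ne0))
  have h4 : _ ∈ MN.uns (cl s L 1) (cl s L x) ((p - 1) / e) :=
    List.mem_append_right _ (List.mem_replicate.2 ⟨h3.ne', rfl⟩)
  obtain ⟨χ, -, h4⟩ := List.mem_map.1 (h2 ▸ h4)
  rw [h1, ← (Prod.mk.inj h4).2, ← (Prod.mk.inj h4).1, hu]

theorem Bk.mem_E (A : Bk p n e 1 L E s) {χ : IrrCharacter G} (h1 : dg χ ≠ 1) (h2 : ¬ p ∣ dg χ)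
    (h3 : dg χ ∉ (cl s L 1).map Int.natAbs) : χ ∈ E :=
  (List.mem_append.1 (A.out rfl χ (fun e => h1 (e ▸ dg_one)) h2)).resolve_left fun h => h3
    (List.mem_map.2 ⟨_, List.mem_map_of_mem h, congrArg Prod.fst (sign_sign (A.sg χ) χ 0)⟩)

/-- The last character. -/
theorem exists_last {M : List (IrrCharacter G)} (hM : (one G :: M).Nodup) {r : ℕ} (hr : r ≠ 0)
    (h : ∀ ψ, ψ ≠ one G → ψ ∉ M → r ∣ dg ψ) (hs : 1 + sq (pr M 1) + r * r = Nat.card G) :
    ∃ ρ, dg ρ = r ∧ ∀ F : IrrCharacter G → ℤ, ∑ χ, F χ = F (one G) + (M.map F).sum + F ρ := by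
  classical
  have h1 := sum_list hM fun χ => iv χ 1 ^ 2
  rw [List.map_cons, List.sum_cons, ← sq_pr, iv_triv] at h1
  simp only [iv_one, sum_dg_sq, ← hs] at h1
  have h2 : ∑ χ ∈ (one G :: M).toFinsetᶜ, (dg χ : ℤ) ^ 2 = r * r := by push_cast at h1; linarith
  have h3 : ∀ χ ∈ (one G :: M).toFinsetᶜ, (r * r : ℤ) ≤ (dg χ : ℤ) ^ 2 := fun χ hχ => by
    simp only [Finset.mem_compl, List.mem_toFinset, List.mem_cons, not_or] at hχ
    have := Nat.le_of_dvd (dg_pos χ) (h χ hχ.1 hχ.2)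
    rw [pow_two]
    exact_mod_cast Nat.mul_self_le_mul_self this
  have h4 := Finset.card_nsmul_le_sum _ _ _ h3
  have h5 : (0 : ℤ) < r * r := by positivity
  rw [h2, nsmul_eq_mul] at h4
  have h6 := (mul_le_iff_le_one_left h5).1 h4
  obtain ⟨ρ, hρ⟩ := Finset.card_eq_one.1 (le_antisymm (by exact_mod_cast h6)
    (Finset.card_pos.2 (Finset.nonempty_of_sum_ne_zero (h2.trans_ne h5.ne'))))
  rw [hρ, Finset.sum_singleton, pow_two] at h2
  refine ⟨ρ, Nat.mul_self_inj.1 (by exact_mod_cast h2), fun F => ?_⟩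
  rw [sum_list hM, hρ, Finset.sum_singleton, List.map_cons, List.sum_cons]

theorem two_le_sum {F : ℕ → ℤ} (h0 : ∀ d, 0 ≤ F d) {χ ψ : IrrCharacter G} (h : χ ≠ ψ) :
    F (dg χ) + F (dg ψ) ≤ ∑ η : IrrCharacter G, F (dg η) := by
  simpa using list_le (L := [χ, ψ]) (by simpa using h) (fun η => F (dg η)) fun _ => h0 _

theorem exists_dg {d : ℕ} (h : ∑ η : IrrCharacter G, (if dg η = d then 1 else 0 : ℤ) ≠ 0) :
    ∃ χ : IrrCharacter G, dg χ = d := by
  obtain ⟨χ, -, h⟩ := Finset.exists_ne_zero_of_sum_ne_zero h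
  exact ⟨χ, by simpa using h⟩

theorem cube22 {a k : ℤ} {c : ℕ} (h : c ∣ 1152)
    (hc : (c : ℤ) = 9 * (3 * a ^ 2 + 14 * k ^ 2 + 6 * k + 1)) : c = 9 ∨ c = 36 := by
  have h1 : (c : ℤ) ≤ 1152 := by exact_mod_cast Nat.le_of_dvd (by norm_num) h
  have h2 : -7 < a ∧ a < 7 := by constructor <;> nlinarith [sq_nonneg (14 * k + 3)]
  have h3 : -4 < k ∧ k < 4 := by constructor <;> nlinarith [sq_nonneg a]
  have h4 : (c : ℤ) ∣ 1152 := by exact_mod_cast h
  rw [hc] at h4
  obtain ⟨h2, h2'⟩ := h2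
  obtain ⟨h3, h3'⟩ := h3
  interval_cases a <;> interval_cases k <;> first | omega | norm_num at h4

variable [IsSimpleGroup G] (hG : Nat.card G = 443520)
include hG

theorem table22 (A : Bk 11 n 5 1 L E s) (B : Bk 7 n7 3 1 L7 E7 s7) (C : Bk 5 n5 4 1 L5 E5 s5)
    (hA : cl s L 1 = [-21, 45, 45, 210]) (hB : cl s7 L7 1 = [-55, 99]) (hC : cl s5 L5 1 ∈ F5) :
    (∀ F : ℕ → ℤ, ∑ χ : IrrCharacter G, F (dg χ) = F 1 + F 21 + 2 * F 45 + F 55 + F 99 + F 154 +
      F 210 + F 231 + 2 * F 280 + F 385) ∧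
    ∀ a : G, orderOf a = 2 → cc a = 384 ∧ ∀ χ, iv χ a = val (dg χ) := by
  have a1 : ∀ {a : G}, a * a = 1 → uns _ _ 2 = _ := A.uns2 (by norm_num)
  have b1 : ∀ {a : G}, a * a = 1 → uns _ _ 2 = _ := B.uns2 (by norm_num)
  have c1 : ∀ {a : G}, a * a = 1 → uns _ _ 1 = _ := C.uns2 (by norm_num)
  have nd := nodup_dv A.nd (nodup_dv B.nd C.nd fun _ => B.ndv) fun _ => A.ndv
  have hM := fun a : G => (pr_append _ _ a).trans (congrArg (pr (L ++ E) a ++ ·) ((dv_pr 11 _ a).symm.trans
    (congrArg (dv 11) ((pr_append (L7 ++ E7) _ a).trans (congrArg (pr (L7 ++ E7) a ++ ·)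
      (dv_pr 7 (L5 ++ E5) a).symm)))))
  have out : ∀ ψ, ψ ≠ one G → ψ ∉ L ++ E ++ (L7 ++ E7 ++ (L5 ++ E5).filter
      fun χ => dg χ % 7 == 0).filter (fun χ => dg χ % 11 == 0) → 385 ∣ dg ψ := fun ψ h1 h2 => by
    have h3 := A.out rfl ψ h1
    have h4 := B.out rfl ψ h1
    have h5 := C.out rfl ψ h1
    simp only [List.mem_append (s := _ ++ _), List.mem_filter, beq_iff_eq, not_or, not_and] at h2
    have h6 : dg ψ % 11 = 0 := by_contra fun h => h2.1 (h3 (by omega))
    have h7 : dg ψ % 7 = 0 := by_contra fun h => h2.2 (Or.inl (h4 (by omega))) h6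
    have h8 : dg ψ % 5 = 0 := by_contra fun h => h2.2 (Or.inr ⟨h5 (by omega), h7⟩) h6
    omega
  generalize L ++ E ++ (L7 ++ E7 ++ (L5 ++ E5).filter fun χ => dg χ % 7 == 0).filter
    (fun χ => dg χ % 11 == 0) = M at nd hM out
  have h1 := hM 1
  rw [← a1 (one_mul 1), ← b1 (one_mul 1), ← c1 (one_mul 1), hA, hB] at h1
  have h2 : (pr M 1).Perm [(21, 21), (45, 45), (45, 45), (55, 55), (99, 99), (154, 154), (210, 210),
      (231, 231), (280, 280), (280, 280)] := by
    rw [h1]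
    generalize cl s5 L5 1 = D at hC
    revert D
    decide
  obtain ⟨ρ, hρ, hs⟩ := exists_last nd (r := 385) (by norm_num) out (by
    rw [hG, sq, (h2.map _).sum_eq]; decide)
  refine ⟨fun F => ?_, fun a ha => ?_⟩
  · have := (h2.map fun x => F x.1).sum_eq
    rw [pr, List.map_map] at this
    rw [hs, dg_one, hρ, show (M.map fun χ => F (dg χ)).sum = _ from this]
    simp only [List.map_cons, List.sum_cons, List.map_nil, List.sum_nil]
    ring
  have ha2 := H83.mul_self_of_orderOf_two ha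
  have k1 := A.not_dvd_cc rfl (a := a) (by simp [ha])
  have k2 := B.not_dvd_cc rfl (a := a) (by simp [ha])
  have k3 := C.not_dvd_cc rfl (a := a) (by simp [ha])
  have k4 : cc a ∣ 1152 := Nat.Coprime.dvd_of_dvd_mul_right (n := 5 * (7 * 11))
    ((Nat.coprime_mul_iff_right.2 ⟨((Nat.Prime.coprime_iff_not_dvd (by norm_num)).2 k3).symm,
      Nat.coprime_mul_iff_right.2 ⟨((Nat.Prime.coprime_iff_not_dvd (by norm_num)).2 k2).symm,
      ((Nat.Prime.coprime_iff_not_dvd (by norm_num)).2 k1).symm⟩⟩))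
    (show _ ∣ 443520 from hG ▸ card_subgroup_dvd_card _)
  have k5 : 2 ∣ cc a := ha ▸ (orderOf_mk a (mem_centralizer_singleton.2 rfl)).symm.dvd.trans
    (orderOf_dvd_natCard _)
  have k6 := cols_spec (hA ▸ col22 hG A ha) (cols_spec (hB ▸ col22 hG B ha) (((Bool.or_eq_true _ _).mp
    (List.all_eq_true.1 (List.all_eq_true.1 kf _ hC) _ (mem_dvs (by norm_num) k4))).resolve_left
    (by simp; omega)))
  rw [← hA, ← hB, a1 ha2, b1 ha2, B.sub A, Bool.not_true, Bool.false_or] at k6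
  have k7 := cols_spec (col22 hG C ha) k6
  have k8 := ic_one.sum_mul (ic_inv ha2) fun h => by
    rw [isConj_one_right.1 h, orderOf_one] at ha; omega
  have k9 := (ic_inv ha2).sum_sq
  rw [hs, iv_triv, ← sq_pr] at k9
  rw [hs, iv_triv, iv_triv, iv_one, hρ] at k8
  have k10 : ((pr M a).map fun x => (x.1 : ℤ) * x.2).sum = (M.map fun χ => iv χ 1 * iv χ a).sum := by
    simp [pr, iv_one, Function.comp_def]
  have k11 : sub 5 (pr M a) (pr (L5 ++ E5) a) = true := sub_map _ (List.nodup_cons.1 nd).2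
    fun χ h h1 => C.out rfl χ (fun e => (List.nodup_cons.1 nd).1 (e ▸ h)) h1
  simp only [c1 ha2, ← hM, k10, k11, show 1 + (M.map fun χ => iv χ 1 * iv χ a).sum =
    385 * -iv ρ a by push_cast at k8; linarith, Int.mul_emod_right, Bool.not_true, Bool.false_or,
    bne_self_eq_false, Int.mul_ediv_cancel_left _ (show (385 : ℤ) ≠ 0 by norm_num), Bool.or_eq_true,
    bne_iff_ne, Bool.and_eq_true, beq_iff_eq, List.all_eq_true] at k7
  obtain ⟨⟨l1, l2⟩, l3⟩ := k7.resolve_left (not_not.2 (by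
    zify; rw [s2_cast]; linarith))
  refine ⟨l1, fun χ => ?_⟩
  by_cases h3 : χ = one G
  · rw [h3, iv_triv, dg_one]; rfl
  by_cases h4 : χ ∈ M
  · exact l3 _ (List.mem_map_of_mem h4)
  classical
  have h5 := hs fun η => if η = χ then 1 else 0
  rw [List.map_congr_left (g := fun _ => 0) fun η h => if_neg fun e : η = χ => h4 (e ▸ h)] at h5
  have h6 : ρ = χ := by simpa [Ne.symm h3] using h5
  rw [← h6, hρ, show iv ρ a = 1 by omega]
  rfl

theorem d22 : H45.EX.D22 G := by
  have hna : ¬ IsMulCommutative G := nonabelian_of_card_not_prime (by rw [hG]; norm_num)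
  have := Fact.mk (by norm_num : Nat.Prime 11)
  have := Fact.mk (by norm_num : Nat.Prime 7)
  have := Fact.mk (by norm_num : Nat.Prime 5)
  obtain ⟨n, e, v, L, E, s, A⟩ := exists_bk hna (p := 11) (m := 40320) (by norm_num) hG (by norm_num)
  obtain ⟨n7, e7, v7, L7, E7, s7, B⟩ := exists_bk hna (p := 7) (m := 63360) (by norm_num) hG
    (by norm_num)
  obtain ⟨n5, e5, v5, L5, E5, s5, C⟩ := exists_bk hna (p := 5) (m := 88704) (by norm_num) hG
    (by norm_num)
  obtain ⟨⟨rfl, rfl, hA⟩, ⟨rfl, rfl, hB⟩, rfl, rfl, hC⟩ := all_one hG A B C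
  obtain ⟨hd, hi⟩ := table22 hG A B C hA hB hC
  have ex : ∀ d ∈ [21, 45, 154], ∃ χ : IrrCharacter G, dg χ = d := fun d h => exists_dg (by
    rw [hd fun k => if k = d then 1 else 0]; revert d; decide)
  refine ⟨hG, fun a b ha hb => by_contra fun h => ?_, fun z hz => (hi z hz).1, fun x hx => ?_,
    C.ccp, fun U hU => ?_⟩
  · have h1 := (ic_inv (H83.mul_self_of_orderOf_two ha)).sum_mul
      (ic_inv (H83.mul_self_of_orderOf_two hb)) h
    simp only [(hi a ha).2, (hi b hb).2, hd fun d => val d * val d] at h1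
    revert h1; decide
  · have h1 : ∀ χ ψ : IrrCharacter G, dg ψ = dg χ → ψ.1 x = χ.1 x := fun χ ψ h => by
      by_cases h1 : dg χ = 45
      · exact B.uni _ (B.mem_E (by omega) (by omega) (by simp [hB, h, h1])) _
          (B.mem_E (by omega) (by omega) (by simp [hB, h1])) x (by simp [hx])
      by_cases h2 : dg χ = 280
      · exact A.uni _ (A.mem_E (by omega) (by omega) (by simp [hA, h, h2])) _
          (A.mem_E (by omega) (by omega) (by simp [hA, h2])) x (by simp [hx])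
      refine by_contra fun h3 => ?_
      have := two_le_sum (F := fun k => if k = dg χ then 1 else 0) (fun _ => by positivity)
        (χ := χ) (ψ := ψ) fun e => h3 (e ▸ rfl)
      rw [hd fun k => if k = dg χ then 1 else 0] at this
      simp only [h, if_true] at this
      split_ifs at this <;> omega
    have ix : IC x := fun χ => int_of_deg (h1 χ)
    obtain ⟨u, hu, u0⟩ : ∃ u : ℕ → ℤ, (∀ χ, iv χ x = u (dg χ)) ∧ ∀ d, 9 ∣ d → u d = 0 := by
      classical
      refine ⟨fun d => if h : ∃ χ : IrrCharacter G, dg χ = d then iv h.choose x else 0,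
        fun χ => ?_, fun d h => ?_⟩
      · have h : ∃ ψ : IrrCharacter G, dg ψ = dg χ := ⟨χ, rfl⟩
        simp only [dif_pos h, iv, h1 _ _ h.choose_spec]
      · dsimp only
        split_ifs with h2
        · exact iv_eq (by
            rw [Int.cast_zero]
            refine eq_zero_of_pow_factorization_dvd Nat.prime_three h2.choose.2 ?_ hx.symm.dvd
            rw [hG, show Nat.factorization 443520 3 = 2 by
              rw [Nat.factorization_def _ Nat.prime_three]; decide +kernel]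
            exact h.trans h2.choose_spec.symm.dvd)
        · rfl
    obtain ⟨z, hz, -⟩ := exists_z hG A
    have r1 := A.rel (by simp [hx]) ix hu
    have r2 := B.rel (by simp [hx]) ix hu
    have r3 : 1 + u 21 + u 231 = u 154 + u 99 := by
      have := C.rel (by simp [hx]) ix hu
      simp only [F5, List.mem_cons, List.not_mem_nil, or_false] at hC
      rcases hC with h | h | h | h <;> rw [h] at this <;>
        simp [Int.sign_eq_one_of_pos] at this <;> omega
    have r4 := ic_one.sum_mul ix fun h => by rw [isConj_one_right.1 h, orderOf_one] at hx; omega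
    have r5 := (ic_inv (H83.mul_self_of_orderOf_two hz)).sum_mul ix
      (H43.not_isConj_of_orderOf (by omega))
    have r6 := ix.sum_sq
    have r7 : u 1 = 1 := by rw [← dg_one (G := G), ← hu, iv_triv]
    have r8 : ∀ d ∈ [21, 45, 154], (3 : ℤ) ∣ u d - d := fun d h => by
      obtain ⟨χ, rfl⟩ := ex d h
      exact hu χ ▸ iv_mod Nat.prime_three hx ix χ
    simp only [iv_one, hu, hd fun d => d * u d] at r4
    simp only [(hi z hz).2, hu, hd fun d => val d * u d] at r5
    simp only [hu, hd fun d => u d ^ 2] at r6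
    rw [hA] at r1
    rw [hB] at r2
    obtain ⟨a, ha⟩ := r8 21 (by simp)
    obtain ⟨k, hk⟩ := r8 154 (by simp)
    simp [val, List.lookup, u0 45, u0 99, r7, Int.sign_eq_one_of_pos] at r1 r2 r3 r4 r5 r6 ha hk
    refine cube22 (a := a + 7) (k := k + 51) (Nat.Coprime.dvd_of_dvd_mul_right (n := 5 * (7 * 11))
      ((Nat.coprime_mul_iff_right.2 ⟨((Nat.Prime.coprime_iff_not_dvd (by norm_num)).2
        (C.not_dvd_cc rfl (by simp [hx]))).symm, Nat.coprime_mul_iff_right.2
        ⟨((Nat.Prime.coprime_iff_not_dvd (by norm_num)).2 (B.not_dvd_cc rfl (by simp [hx]))).symm,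
        ((Nat.Prime.coprime_iff_not_dvd (by norm_num)).2 (A.not_dvd_cc rfl (by simp [hx]))).symm⟩⟩))
      (show _ ∣ 443520 from hG ▸ card_subgroup_dvd_card _)) ?_
    rw [← r6, show u 21 = 3 * (a + 7) by omega, show u 154 = 3 * (k + 51) + 1 by omega,
      show u 55 = 1 by omega, show u 210 = 3 * (a + 7) + 3 * (k + 51) by omega,
      show u 231 = 3 * (k + 51) - 3 * (a + 7) by omega, show u 280 = 3 * (k + 51) + 1 by omega,
      show u 385 = -2 - 9 * (k + 51) by omega]
    ring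
  · cases nonempty_fintype U
    obtain ⟨χ, hχ⟩ := ex 45 (by simp)
    obtain ⟨m, hm⟩ := exists_sum_eq χ.2.isCharacter U
    rw [H43.sum_subgroup_ite le_rfl χ.1 (β := -3) (γ := 0) (fun u hu h1 => by
      have h2 := orderOf_eq_prime (hU.2 u hu) h1
      rw [← ic_inv (H83.mul_self_of_orderOf_two h2) χ, (hi u h2).2, hχ]
      simp [val, List.lookup]) (fun u hu h => absurd hu h), ← coe_dg, hχ] at hm
    have : (48 : ℂ) = Nat.card U * m + 3 * Nat.card U := by push_cast at hm; linear_combination hm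
    have : 48 = Nat.card U * m + 3 * Nat.card U := by exact_mod_cast this
    omega

end H45.MN
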