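/- Blocks of defect one against involutions: matching of values. -/
import Cfsg.Agent.H45.M22b
import Cfsg.Agent.H45.MN2

set_option autoImplicit false
set_option linter.unusedSectionVars false

namespace H45.MN
open Cfsg H28 H29 H39 H87 Subgroup H45.MO

variable {G : Type*} [Group G] [Fintype G]
  {p n e v : ℕ} {L E W : List (IrrCharacter G)} {s : IrrCharacter G → ℤ}

theorem cnt_pr (d : ℕ) (W : List (IrrCharacter G)) (a : G) :
    cnt d (pr W a) = (W.filter fun χ => dg χ == d).length := by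
  rw [cnt, pr, List.countP_map, List.countP_eq_length_filter]; rfl

theorem Bk.fx (B : Bk p n e 1 L E s) (hW : (one G :: W).Nodup) (a : G) {χ : IrrCharacter G}
    (hχ : χ ≠ one G) {σ : ℤ} (hσ : σ = 1 ∨ σ = -1) :
    fx p (pr (L ++ E) 1) (pr W a) (σ * iv χ 1) (σ * iv χ a) = true := by
  have h1 := sign_sign hσ χ (iv χ a)
  simp only [MN.fx, (Prod.mk.inj h1).1, (Prod.mk.inj h1).2, Bool.or_eq_true, beq_iff_eq, Nat.blt_eq,
    cnt_pr, List.contains_iff_mem, or_assoc]
  refine or_iff_not_imp_left.2 fun h2 => or_iff_not_imp_left.2 fun h3 => ?_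
  have h4 : ¬ p ∣ dg χ := fun h => h2 (Nat.mod_eq_zero_of_dvd h)
  rw [List.nodup_cons] at hW
  have h5 := (List.subperm_of_subset (hW.2.filter fun ψ => dg ψ == dg χ)
    (l₂ := (L ++ E).filter fun ψ => dg ψ == dg χ) fun ψ h => by
      rw [List.mem_filter, beq_iff_eq] at h ⊢
      exact ⟨B.out rfl ψ (fun e => hW.1 (e ▸ h.1)) (h.2 ▸ h4), h.2⟩).perm_of_length_le (not_lt.1 h3)
  exact List.mem_map_of_mem (List.mem_filter.1 (h5.mem_iff.2
    (List.mem_filter.2 ⟨B.out rfl χ hχ h4, by simp⟩))).1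

theorem Bk.exists_E (A : Bk p n e v L E s) {a : G} (ha : ¬ p ∣ orderOf a) (hi : IC a) :
    ∃ θ ∈ L ++ E, ∃ σ : ℤ, (σ = 1 ∨ σ = -1) ∧ 1 + (cl s L 1).sum = σ * iv θ 1 ∧
      1 + (cl s L a).sum = σ * iv θ a := by
  have h3 : 0 < (p - 1) / e := Nat.div_pos (Nat.le_sub_one_of_lt A.lt)
    (Nat.pos_of_ne_zero (right_ne_zero_of_mul A.ne0))
  have h4 : _ ∈ MN.uns (cl s L 1) (cl s L a) ((p - 1) / e) :=
    List.mem_append_right _ (List.mem_replicate.2 ⟨h3.ne', rfl⟩)
  obtain ⟨θ, h5, h6⟩ := List.mem_map.1 (A.uns a ha (fun χ _ => hi χ) ▸ h4)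
  obtain ⟨h7, h8⟩ := Prod.mk.inj h6
  have := dg_pos θ
  rcases lt_trichotomy (1 + (cl s L 1).sum) 0 with h | h | h
  · exact ⟨θ, h5, -1, Or.inr rfl, by rw [iv_one]; omega,
      by rw [h8, Int.sign_eq_neg_one_of_neg h]; ring⟩
  · omega
  · exact ⟨θ, h5, 1, Or.inl rfl, by rw [iv_one]; omega,
      by rw [h8, Int.sign_eq_one_of_pos h]; ring⟩

theorem s2_sign {σ : ℤ} (hσ : σ = 1 ∨ σ = -1) (u : ℤ) : s2 (σ * u) = s2 u := by
  rcases hσ with rfl | rfl <;> simp [s2]

theorem reg2 (hp : p.Prime) (hp2 : p ≠ 2) {a : G} (ha : a * a = 1) : ¬ p ∣ orderOf a := fun h =>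
  hp2 ((Nat.prime_dvd_prime_iff_eq hp Nat.prime_two).1
    (h.trans (orderOf_dvd_of_pow_eq_one (by rwa [pow_two]))))

theorem Bk.sq_eq (A : Bk p n e v L E s) (hp : p ≠ 2) {a : G} (ha : a * a = 1) :
    sq (pr (L ++ E) a) = ss (cl s L a) + (p - 1) / e * s2 (1 + (cl s L a).sum) := by
  obtain ⟨θ, -, σ, h1, h2, h3⟩ := A.exists_E (reg2 A.hp hp ha) (ic_inv ha)
  rw [← A.uns2 hp ha, MN.uns, sq_append, h2, h3, sign_sign h1, s2_sign h1]
  congr 1
  · simp only [sq, ss, cl, List.zipWith_map, List.zipWith_self, List.map_map]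
    exact congrArg _ (List.map_congr_left fun χ _ => by
      simp only [Function.comp, (Prod.mk.inj (sign_sign (A.sg χ) χ (iv χ a))).2, s2_sign (A.sg χ)])
  · simp [sq]

theorem Bk.colsF (A : Bk p n e v L E s) (hp : p ≠ 2) {a : G} (ha : a * a = 1) {N : ℕ}
    {qs : List ℕ} (hc : Cl N qs p e v (cl s L 1) (cc a) (cl s L a)) (hW : (one G :: W).Nodup)
    {φ : ℤ → ℤ → Bool} (hφ : ∀ χ, χ ≠ one G → ∀ σ : ℤ, σ = 1 ∨ σ = -1 →
      φ (σ * iv χ 1) (σ * iv χ a) = true) {P : List ℤ → Bool}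
    (h : colsF N qs p e v (cl s L 1) (cc a) φ (sq (dv p (pr W a))) P = true) :
    P (cl s L a) = true := by
  obtain ⟨θ, h0, σ, h1, h2, h3⟩ := A.exists_E (reg2 A.hp hp ha) (ic_inv ha)
  refine colsF_spec hc ?_ (h2 ▸ h3 ▸ hφ θ (A.ne_one h0) σ h1) ?_ h
  · simp only [cl, List.forall₂_map_left_iff, List.forall₂_map_right_iff, List.forall₂_same]
    exact fun χ hχ => hφ χ (A.ne_one (List.mem_append_left _ hχ)) _ (A.sg χ)
  · have := sq_le (nodup_dv A.nd hW fun _ => A.ndv) (ic_inv ha)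
    rw [pr_append, sq_append, A.sq_eq hp ha, ← dv_pr] at this
    omega

theorem ok_sign {N : ℕ} {qs : List ℕ} {p c : ℕ} {d u σ : ℤ} (hσ : σ = 1 ∨ σ = -1) :
    ok N qs p c (σ * d) (σ * u) = ok N qs p c d u := by
  have k4 : σ.natAbs = 1 := by omega
  simp only [ok, ← mul_sub, Int.natAbs_mul, k4, one_mul]

theorem Bk.hasC (A : Bk p n e v L E s) (hp : p ≠ 2) {a : G} (ha : a * a = 1) {N : ℕ}
    {qs : List ℕ} (hc : Cl N qs p e v (cl s L 1) (cc a) (cl s L a)) {χ : IrrCharacter G}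
    (h : χ ∈ L ++ E) : hasC N qs p (cc a) (dg χ) = true := by
  refine hasC_of (u := iv χ a) A.hp.pos ?_ ?_
  · rcases List.mem_append.1 h with h1 | h1
    · have := hc.okU
      simp only [cl, List.forall₂_map_left_iff, List.forall₂_map_right_iff, List.forall₂_same] at this
      rw [← iv_one, ← ok_sign (A.sg χ), this χ h1]
    · have h2 := A.uns2 hp ha
      rw [MN.uns, pr_append] at h2
      have h3 := (List.append_inj h2 (by simp [cl, pr])).2
      have h8 : (dg χ, iv χ a) ∈ pr E a := List.mem_map_of_mem h1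
      rw [← h3] at h8
      have h4 := List.eq_of_mem_replicate h8
      obtain ⟨θ, -, σ, h5, h6, h7⟩ := A.exists_E (reg2 A.hp hp ha) (ic_inv ha)
      rw [h6, h7, sign_sign h5, Prod.mk.injEq] at h4
      rw [h4.1, h4.2, ← iv_one, ← ok_sign h5, ← h6, ← h7, hc.okE]
  · have := sq_le (L := [χ]) (by simpa using (A.ne_one h).symm) (ic_inv ha)
    simp only [sq, pr, List.map_cons, List.map_nil, List.sum_cons, List.sum_nil] at this
    omega

theorem Bk.r23 (A : Bk 23 n 11 1 L E s) (ψ : IrrCharacter G) :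
    [0, 1, 11, 12, 22].contains (dg ψ % 23) = true := by
  have : dg ψ % 23 = 0 ∨ dg ψ % 23 = 1 ∨ dg ψ % 23 = 11 ∨ dg ψ % 23 = 12 ∨ dg ψ % 23 = 22 := by
    by_cases h : ψ = one G
    · simp [h, dg_one]
    by_cases h1 : 23 ∣ dg ψ
    · omega
    have := A.md ψ (A.out rfl ψ h h1)
    rcases A.sg ψ with e | e <;> rw [e] at this <;> omega
  simpa using this

theorem Bk.exq (A : Bk 23 n 11 1 L E s) (W : List (IrrCharacter G)) {a : G}
    (ha : ¬ 23 ∣ orderOf a) : exq 23 11 (pr W a) = true := by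
  have key : ∀ x ∈ (pr W a).filter fun x => x.1 % 23 == 11 || (x.1 + 11) % 23 == 0,
      ∃ χ ∈ E, (dg χ, iv χ a) = x := fun x hx => by
    simp only [List.mem_filter, pr, List.mem_map, Bool.or_eq_true, beq_iff_eq] at hx
    obtain ⟨⟨χ, -, rfl⟩, h⟩ := hx
    refine ⟨χ, A.mem_E (by omega) (by omega) fun h1 => ?_, rfl⟩
    obtain ⟨d, h2, h3⟩ := List.mem_map.1 h1
    have := ((A.deg (fun _ => true) fun _ _ => rfl).mem d h2).2.1
    omega
  simp only [MN.exq, List.all_eq_true, beq_iff_eq]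
  intro x hx y hy
  obtain ⟨χ, h1, rfl⟩ := key x hx
  obtain ⟨ψ, h2, rfl⟩ := key y hy
  rw [iv, iv, A.uni χ h1 ψ h2 a ha, show dg χ = dg ψ from
    charDegree_congr (A.uni χ h1 ψ h2 1 (by simp))]

theorem Bk.even_v (A : Bk p n e v L E s) (hp : p ≠ 2) {a : G} (ha : orderOf a = 2)
    (h : p ∣ cc a) : 2 ∣ v := by
  obtain ⟨w, hw, hc⟩ := exists_comm A.hp h
  have := orderOf_dvd_natCard (⟨a, mem_centralizer_singleton.2 hc.symm⟩ : centralizer {w})
  rw [orderOf_mk, ha, show Nat.card _ = _ from A.ccp w hw] at this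
  exact ((Nat.coprime_primes Nat.prime_two A.hp).2 hp.symm).dvd_of_dvd_mul_left this

theorem two_dvd_cc {a : G} (ha : orderOf a = 2) : 2 ∣ cc a :=
  ha ▸ (orderOf_mk a (mem_centralizer_singleton.2 rfl)).symm.dvd.trans (orderOf_dvd_natCard _)

theorem dvd_of_not_dvd {c m q : ℕ} (hq : q.Prime) (h : c ∣ m * q) (h1 : ¬ q ∣ c) : c ∣ m :=
  ((Nat.Prime.coprime_iff_not_dvd hq).2 h1).symm.dvd_of_dvd_mul_right h

/-- The values at an involution, from a complete list. -/
theorem iv_eq_val {M : List (IrrCharacter G)} {ρ : IrrCharacter G} {a : G} {f : ℕ → ℤ}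
    (hs : ∀ F : IrrCharacter G → ℤ, ∑ χ, F χ = F (one G) + (M.map F).sum + F ρ)
    (h1 : f 1 = 1) (h2 : ∀ x ∈ pr M a, x.2 = f x.1) (h3 : iv ρ a = f (dg ρ)) (χ : IrrCharacter G) :
    iv χ a = f (dg χ) := by
  by_cases h4 : χ = one G
  · rw [h4, iv_triv, dg_one, h1]
  by_cases h5 : χ ∈ M
  · exact h2 _ (List.mem_map_of_mem h5)
  classical
  have h6 := hs fun η => if η = χ then 1 else 0
  rw [List.map_congr_left (g := fun _ => 0) fun η h => if_neg fun e : η = χ => h5 (e ▸ h)] at h6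
  have h7 : ρ = χ := by simpa [Ne.symm h4] using h6
  rw [← h7, h3]

/-- The involutions commuting with an involution, when there is one class. -/
theorem card_comm (h : ∀ a b : G, orderOf a = 2 → orderOf b = 2 → IsConj a b) {z : G}
    (hz : orderOf z = 2) :
    Nat.card {t : G // orderOf t = 2 ∧ Commute t z} = H43.prodCount z z z + 1 := by
  classical
  have hz2 := H83.mul_self_of_orderOf_two hz
  rw [H43.prodCount_inv hz2, Nat.card_eq_fintype_card, Nat.card_eq_fintype_card,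
    Fintype.card_subtype, Fintype.card_subtype, ← Finset.card_insert_of_notMem (a := z)]
  · congr 1
    ext t
    simp only [Finset.mem_filter, Finset.mem_univ, true_and, Finset.mem_insert]
    refine ⟨fun ⟨h1, h2⟩ => or_iff_not_imp_left.2 fun h3 => ⟨h z t hz h1, h z _ hz ?_⟩, ?_⟩
    · have h4 := H83.mul_self_of_orderOf_two h1
      refine orderOf_eq_prime (by rw [h2.mul_pow, pow_two, pow_two, h4, hz2, one_mul]) fun h5 => h3 ?_
      rw [← one_mul z, ← h4, mul_assoc, h5, mul_one]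
    · rintro (rfl | ⟨h1, h2⟩)
      · exact ⟨hz, rfl⟩
      · have h3 := H31.mul_self_of_isConj hz2 h1
        have h4 := H31.mul_self_of_isConj hz2 h2
        refine ⟨by_contra fun h5 => H43.not_isConj_of_orderOf (hz ▸ Ne.symm h5) h1, ?_⟩
        have h5 := eq_inv_of_mul_eq_one_left h4
        rw [mul_inv_rev, ← eq_inv_of_mul_eq_one_left h3, ← eq_inv_of_mul_eq_one_left hz2] at h5
        exact h5
  · simp only [Finset.mem_filter, Finset.mem_univ, true_and, hz2, isConj_one_left, not_and]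
    exact fun _ => H83.ne_one_of_orderOf_two hz

end H45.MN
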