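/- Numerical searches for simple groups of order `10200960`. -/
import Cfsg.Agent.H45.MN23

set_option autoImplicit false
set_option maxRecDepth 100000

namespace H45.MN

theorem d23 : ((cas 10200960 23).all fun x => if x.2.2 = 1 then x.2.1 == 11 && x.1 == 40320 else
    degs 10200960 23 x.1 x.2.1 (big 23 x.2.2) (fun _ => false) || (x.2.2 % 2 == 0 &&
      (cset 10200960 23 x.2.1 x.2.2).all fun c => degs 10200960 23 x.1 x.2.1
      (fun d => big 23 x.2.2 d && hasC 10200960 [5, 7, 11] 23 c d) fun D =>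
        colsF 10200960 [5, 7, 11] 23 x.2.1 x.2.2 D c (fun _ _ => true) 0 fun _ => false)) = true := by
  decide +kernel

/-- two wrong columns -/
def TA : List (List ℤ × List ℤ) := [([-736, -230, -230, 1035], [0, -14, -14, 27]),
  ([-736, -230, 45, 1035], [0, -14, -3, 27])]

theorem kA : ([2688, 4032].all fun c => Q11.all fun B =>
    !sub 11 (uns [-1035, 2024] [-1035, 2024] 2) (uns B B 2) ||
    (Q5.all fun C => !sub 11 (uns C C 1) (uns B B 2)) ||
    colsF 10200960 [5, 7, 11] 11 5 1 B c (fx 11 (uns B B 2) (uns [-1035, 2024] [-27, 8] 2))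
      (sq (dv 11 (uns [-1035, 2024] [-27, 8] 2))) fun W =>
    !sub 11 (uns [-1035, 2024] [-27, 8] 2) (uns B W 2) || Q5.all fun C =>
    !sub 11 (uns C C 1) (uns B B 2) ||
    colsF 10200960 [5, 7, 11] 5 4 3 C c (fx 11 (uns B B 2) (uns B W 2)) 0 fun Z =>
    !sub 11 (uns C Z 1) (uns B W 2) || !exq 23 11 (uns B W 2 ++ uns C Z 1) ||
    (c == 2688 && ((B == [-230, 45, 45, 1035] && W == [-22, -3, -3, 27]) ||
      (TA.contains (B, W) && (uns C Z 1).contains (11, -1) &&
        (uns C Z 1).contains (759, -1))))) = true := by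
  decide +kernel

/-- the search for the `23`-block -/
noncomputable def kD (B W : List ℤ) (G X X' : List (ℕ × ℤ)) (P : List ℤ → Bool) : Bool :=
  degs 10200960 23 40320 11 (fun d => d % 11 == 0 || Nat.blt 0 (cnt d (uns B B 2))) fun D =>
    let M := uns B B 2 ++ dv 11 (uns [-1035, 2024] [-1035, 2024] 2 ++ X)
    let M' := uns B W 2 ++ dv 11 (uns [-1035, 2024] [-27, 8] 2 ++ X')
    (G.any fun x => cnt x.1 (uns D D 2) == 0) ||
    !sub 23 M (uns D D 2) || !sub 11 (uns D D 2) (uns B B 2) ||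
    Nat.blt 10200960 (1 + sq (uns D D 2) + sq (dv 23 M)) ||
    colsF 10200960 [5, 7, 11] 23 11 1 D 2688 (fx 23 (uns D D 2) M') (sq (dv 23 M'))
      fun Y => !sub 23 M' (uns D Y 2) || (G.any fun x => !(uns D Y 2).contains x) || P D

theorem kB : (TA.all fun x => kD x.1 x.2 [(11, -1)] [(759, 759)] [(759, -1)] fun _ => false) = true := by
  decide +kernel

theorem kC : kD [-230, 45, 45, 1035] [-22, -3, -3, 27] [] [] []
    (· == [-896, -896, -45, -45, -22, 231, 231, 231, 990, 990]) = true := by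
  decide +kernel

/-- the values at an involution -/
def val23 (d : ℕ) : ℤ := (([(1, 1), (22, 6), (45, -3), (230, 22), (231, 7), (253, 13), (770, -14),
  (896, 0), (990, -18), (1035, 27), (2024, 8)] : List (ℕ × ℤ)).lookup d).getD 0

theorem kF : ([2, 16].all fun v => (dvs 40320).all fun c => c % 2 != 0 ||
    cols 10200960 [5, 7, 11] 7 3 v [-1035, 2024] c fun U =>
    let B := [-230, 45, 45, 1035]
    let D := [-896, -896, -45, -45, -22, 231, 231, 231, 990, 990]
    colsF 10200960 [5, 7, 11] 11 5 1 B c (fx 11 (uns B B 2) (uns [-1035, 2024] U 2))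
      (sq (dv 11 (uns [-1035, 2024] U 2))) fun W =>
    let M' := uns B W 2 ++ dv 11 (uns [-1035, 2024] U 2)
    colsF 10200960 [5, 7, 11] 23 11 1 D c (fx 23 (uns D D 2) M') (sq (dv 23 M')) fun Y =>
      let M := uns D Y 2 ++ dv 23 M'
      let S : ℤ := 1 + (M.map fun x => (x.1 : ℤ) * x.2).sum
      !sub 23 M' (uns D Y 2) || S % 253 != 0 || 1 + sq M + s2 (S / 253) != c ||
        (c == 2688 && S == -3289 && M.all fun x => x.2 == val23 x.1)) = true := by
  decide +kernel

end H45.MN
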