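/- Simple groups of order `10200960`: the blocks for `23`, `11`, `7` and `5`. -/
import Cfsg.Agent.H45.MG2
import Cfsg.Agent.H45.MN23b

set_option autoImplicit false
set_option linter.unusedSectionVars false

namespace H45.MN
open Cfsg H28 H29 H39 H87 Subgroup H45.MO

variable {G : Type*} [Group G] [Fintype G]
  {p n e v q n' e' n1 e1 v1 n7 e7 v7 n5 e5 v5 : ℕ}
  {L E L' E' L1 E1 L7 E7 L5 E5 W W' : List (IrrCharacter G)} {s s' s1 s7 s5 : IrrCharacter G → ℤ}

theorem Bk.ndv_v (A : Bk p n e v L E s) (B : Bk q n' e' 1 L' E' s') (h : p ≠ q) :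
    (v % q == 0) ≠ true := fun h1 =>
  A.hp.one_lt.ne' (Nat.dvd_one.1 (A.dvd_v B h (Nat.dvd_of_mod_eq_zero (beq_iff_eq.1 h1))))

theorem Bk.ndv_c (A : Bk p n e 1 L E s) (hp : p ≠ 2) {a : G} (ha : orderOf a = 2) :
    (cc a % p == 0) ≠ true := fun h => A.not_dvd_cc rfl (fun h1 => hp
  ((Nat.prime_dvd_prime_iff_eq Nat.prime_two A.hp).1 (ha ▸ h1)).symm)
  (Nat.dvd_of_mod_eq_zero (beq_iff_eq.1 h))

theorem or_res {a b : Bool} (h : (a || b) = true) (ha : a ≠ true) : b = true := by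
  cases a <;> simp_all

theorem or_not {a b : Bool} (h : (!a || b) = true) (ha : a = true) : b = true := by
  cases a <;> simp_all

variable [IsSimpleGroup G] (hG : Nat.card G = 10200960)
include hG

theorem col23 (A : Bk p n e v L E s) {a : G} (ha : orderOf a = 2) :
    Cl 10200960 [5, 7, 11] p e v (cl s L 1) (cc a) (cl s L a) :=
  hG ▸ A.col _ (by rw [hG]; simp; norm_num) a ha

theorem cf23 (A : Bk p n e v L E s) (B : Bk q n' e' 1 L' E' s') (hp : p ≠ 2) {a : G}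
    (ha : orderOf a = 2) (hW : (one G :: W).Nodup) (hW' : (one G :: W').Nodup) {D : List ℤ}
    {c b : ℕ} {X Y : List (ℕ × ℤ)} {P : List ℤ → Bool}
    (h : colsF 10200960 [5, 7, 11] p e v D c (fx q X Y) b P = true) (hD : cl s L 1 = D)
    (hc : cc a = c) (hX : X = pr (L' ++ E') 1) (hY : Y = pr W' a) (hb : b = sq (dv p (pr W a))) :
    P (cl s L a) = true := by
  subst hD hc hX hY hb
  exact A.colsF hp (H83.mul_self_of_orderOf_two ha) (col23 hG A ha) hW
    (fun _ h _ => B.fx hW' a h) h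

theorem step23 (A : Bk 23 n e v L E s) : v = 1 ∧ e = 11 ∧ n = 40320 := by
  have h0 := List.all_eq_true.1 d23 _ (hG ▸ A.mem)
  split_ifs at h0 with h1
  · exact ⟨h1, by simpa using h0⟩
  have h2 := or_res h0 fun h => by
    simpa using degs_spec (by norm_num) A.ne0 (hG ▸ A.deg _ fun _ => A.big') h
  rw [Bool.and_eq_true, beq_iff_eq] at h2
  obtain ⟨a, ha, h3⟩ := A.inv (Nat.dvd_of_mod_eq_zero h2.1)
  have ha2 := H83.mul_self_of_orderOf_two ha
  have h4 := degs_spec (by norm_num) A.ne0 (hG ▸ A.deg _ fun χ h => by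
    simp [A.big' h, A.hasC (by norm_num) ha2 (col23 hG A ha) h])
    (List.all_eq_true.1 h2.2 _ (hG ▸ h3))
  simpa using A.colsF (W := []) (by norm_num) ha2 (col23 hG A ha) (by simp) (fun _ _ _ _ => rfl) h4

theorem step11' (A : Bk 23 n 11 1 L E s) (B : Bk 11 n1 e1 v1 L1 E1 s1)
    (C : Bk 7 n7 e7 v7 L7 E7 s7) : v1 = 1 ∧ e1 = 5 ∧ cl s1 L1 1 ∈ Q11 := by
  have k : ¬ 11 ∣ v7 := fun k => by
    have h0 := List.all_eq_true.1 d7a _ (hG ▸ C.mem)
    rw [Bool.or_assoc] at h0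
    have h := degs_spec (by norm_num) C.ne0 (hG ▸ C.deg _ fun χ h => by
      simp only [C.big' h, r23, A.r23, Bool.and_self])
      (or_res (or_res h0 (C.ndv_v A (by norm_num))) (by simp; omega))
    rw [Bool.and_eq_true, beq_iff_eq] at h
    obtain ⟨a, ha, h3⟩ := C.inv (Nat.dvd_of_mod_eq_zero h.1)
    simpa using cols_spec (col23 hG C ha) (or_res (List.all_eq_true.1 h.2 _ (hG ▸ h3))
      (A.ndv_c (by norm_num) ha))
  have h0 := List.all_eq_true.1 d11 _ (hG ▸ B.mem)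
  rw [Bool.or_assoc] at h0
  have h := degs_spec (by norm_num) B.ne0 (hG ▸ B.deg _ fun χ h => by
    simp only [B.big' h, r23, A.r23, Bool.and_self])
    (or_res (or_res h0 (B.ndv_v A (by norm_num))) fun h =>
      k (B.dvd_v C (by norm_num) (Nat.dvd_of_mod_eq_zero (beq_iff_eq.1 h))))
  split_ifs at h with h1
  · exact ⟨h1, by simpa using h⟩
  rw [Bool.and_eq_true, beq_iff_eq] at h
  obtain ⟨a, ha, h3⟩ := B.inv (Nat.dvd_of_mod_eq_zero h.1)
  simpa using cols_spec (col23 hG B ha) (or_res (List.all_eq_true.1 h.2 _ (hG ▸ h3))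
    (A.ndv_c (by norm_num) ha))

theorem step5' (A : Bk 23 n 11 1 L E s) (B : Bk 11 n1 5 1 L1 E1 s1)
    (D : Bk 5 n5 e5 v5 L5 E5 s5) : (7 ∣ v5 ∧ ∃ a : G, orderOf a = 2 ∧ 7 ∣ cc a) ∨
      (v5 = 3 ∧ e5 = 4 ∧ cl s5 L5 1 ∈ Q5) := by
  have h0 := List.all_eq_true.1 d5 _ (hG ▸ D.mem)
  rw [Bool.or_assoc] at h0
  have h := or_not (degs_spec (by norm_num) D.ne0 (hG ▸ D.deg _ fun χ h => by
    simp only [D.big' h, r23, A.r23, B.res, Bool.and_self])
    (or_res (or_res h0 (D.ndv_v A (by norm_num))) (D.ndv_v B (by norm_num))))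
    (D.uns2 (by norm_num) (one_mul 1) ▸ A.exq _ (a := 1) (by simp))
  split_ifs at h with h1
  · obtain ⟨a, ha, h3⟩ := D.inv (Nat.dvd_of_mod_eq_zero h1)
    have h4 := List.all_eq_true.1 h _ (hG ▸ h3)
    rw [Bool.or_assoc] at h4
    have := cols_spec (col23 hG D ha) (or_res (or_res h4 (A.ndv_c (by norm_num) ha))
      (B.ndv_c (by norm_num) ha))
    simp only [Bool.and_eq_true, beq_iff_eq] at this
    exact Or.inl ⟨by omega, a, ha, by omega⟩
  · exact Or.inr (by simpa [and_assoc] using h)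

theorem step7' (A : Bk 23 n 11 1 L E s) (B : Bk 11 n1 5 1 L1 E1 s1) (hB : cl s1 L1 1 ∈ Q11)
    (C : Bk 7 n7 e7 v7 L7 E7 s7) (D : Bk 5 n5 e5 v5 L5 E5 s5) :
    (v5 = 3 ∧ e5 = 4 ∧ cl s5 L5 1 ∈ Q5) ∧ e7 = 3 ∧ cl s7 L7 1 = [-1035, 2024] ∧ v7 ∈ [2, 16] ∧
      ∃ a : G, orderOf a = 2 ∧ cl s7 L7 a = [-27, 8] ∧ cc a ∈ [2688, 4032] := by
  have b1 : ∀ {a : G}, a * a = 1 → uns _ _ 2 = _ := B.uns2 (by norm_num)
  have c1 : ∀ {a : G}, a * a = 1 → uns _ _ (6 / e7) = _ := C.uns2 (by norm_num)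
  have o := one_mul (1 : G)
  have h0 := List.all_eq_true.1 d7 _ (hG ▸ C.mem)
  rw [Bool.or_assoc] at h0
  have h := degs_spec (by norm_num) C.ne0 (hG ▸ C.deg _ fun χ h => by
    simp only [C.big' h, r23, A.r23, B.res, Bool.and_self])
    (or_res (or_res h0 (C.ndv_v A (by norm_num))) (C.ndv_v B (by norm_num)))
  have h5 := step5' hG A B D
  split_ifs at h with h1 h2
  · obtain ⟨z, hz, h3⟩ := exists_central_inv (G := G) (n := 6) (by rw [hG]; norm_num)
    have h4 := mem_Cz (dvd_of_not_dvd (q := 23) (by norm_num)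
      (show cc z ∣ 10200960 from hG ▸ card_subgroup_dvd_card _) (A.not_dvd_cc rfl (by simp [hz])))
      h3 (B.not_dvd_cc rfl (by simp [hz]))
    have h6 := cols_spec (col23 hG C hz) (List.all_eq_true.1 (or_not (List.all_eq_true.1 h _ hB)
      (by rw [b1 o, c1 o]; exact C.sub B 1)) _ h4)
    simpa using cf23 hG B B (W := []) (by norm_num) hz (by simp) C.nd h6 rfl rfl (b1 o)
      (c1 (H83.mul_self_of_orderOf_two hz)) rfl
  · obtain ⟨a, ha, h3⟩ := C.inv (Nat.dvd_of_mod_eq_zero h2)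
    have h4 := List.all_eq_true.1 h _ (hG ▸ h3)
    rw [Bool.or_assoc] at h4
    have := cols_spec (col23 hG C ha) (or_res (or_res h4 (A.ndv_c (by norm_num) ha))
      (B.ndv_c (by norm_num) ha))
    simp only [Bool.and_eq_true, Bool.or_eq_true, beq_iff_eq, bne_iff_ne,
      List.contains_iff_mem] at this
    obtain ⟨h6, h7⟩ := h5.resolve_left fun h => this.1
      (Nat.mod_eq_zero_of_dvd (D.dvd_v C (by norm_num) h.1))
    have h8 := this.2.resolve_left fun h => by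
      have := D.even_v (by norm_num) ha (Nat.dvd_of_mod_eq_zero h)
      omega
    exact ⟨⟨h6, h7⟩, h8.1.1.1.1, h8.1.1.1.2, h8.2, a, ha, h8.1.1.2, h8.1.2⟩
  · exfalso
    obtain ⟨rfl, rfl, h7⟩ := h5.resolve_left fun ⟨_, a, ha, h⟩ =>
      h2 (Nat.mod_eq_zero_of_dvd (C.even_v (by norm_num) ha h))
    have h8 := or_res h fun h => by
      have := C.dvd_v D (by norm_num) (Nat.dvd_of_mod_eq_zero (beq_iff_eq.1 h))
      omega
    simp only [Bool.and_eq_true, beq_iff_eq] at h8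
    obtain ⟨⟨rfl, rfl⟩, h8⟩ := h8
    have d1 : uns _ _ 1 = _ := D.uns2 (by norm_num) o
    have h9 := List.all_eq_true.1 h8 _ hB
    simp only [b1 o, show uns _ _ 1 = _ from c1 o, C.sub B, B.sub C, Bool.not_true,
      Bool.false_or] at h9
    simpa [d1, D.sub B, D.sub C] using List.all_eq_true.1 h9 _ h7

theorem kD_spec (A : Bk 23 40320 11 1 L E s) (B : Bk 11 n1 5 1 L1 E1 s1)
    (C : Bk 7 n7 3 v7 L7 E7 s7) {a : G} (ha : orderOf a = 2) (hc : cc a = 2688)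
    (hC : cl s7 L7 1 = [-1035, 2024]) (hU : cl s7 L7 a = [-27, 8])
    (hW : (one G :: (L7 ++ E7 ++ W)).Nodup) (hW' : ∀ χ ∈ W', χ ≠ one G ∧ ¬ 23 ∣ dg χ)
    {P : List ℤ → Bool} (h : kD (cl s1 L1 1) (cl s1 L1 a) (pr W' a) (pr W 1) (pr W a) P = true) :
    P (cl s L 1) = true := by
  have ha2 := H83.mul_self_of_orderOf_two ha
  have o := one_mul (1 : G)
  have a1 : ∀ {a : G}, a * a = 1 → uns _ _ 2 = _ := A.uns2 (by norm_num)
  have b1 : ∀ {a : G}, a * a = 1 → uns _ _ 2 = _ := B.uns2 (by norm_num)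
  have c1 : ∀ {a : G}, a * a = 1 → uns _ _ 2 = _ := C.uns2 (by norm_num)
  have c2 := c1 ha2
  have c3 := c1 o
  rw [hC] at c2 c3
  rw [hU] at c2
  have nd := nodup_dv B.nd hW fun _ => B.ndv
  have h1 := degs_spec (by norm_num) A.ne0 (hG ▸ A.deg _ fun χ h => by
    rw [b1 o, cnt_pr, Bool.or_eq_true, beq_iff_eq, Nat.blt_eq]
    exact or_iff_not_imp_left.2 fun h1 => List.length_pos_of_mem (List.mem_filter.2
      ⟨B.out rfl χ (A.ne_one h) (by omega), by simp⟩)) h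
  simp only [a1 o, b1 o, b1 ha2, c2, c3, ← pr_append, dv_pr 11] at h1
  generalize L1 ++ E1 ++ (L7 ++ E7 ++ W).filter (fun χ => dg χ % 11 == 0) = M at nd h1
  have sb : ∀ a : G, sub 23 (pr M a) (pr (L ++ E) a) = true := fun a => sub_map _
    (List.nodup_cons.1 nd).2 fun χ h => A.out rfl χ fun e => (List.nodup_cons.1 nd).1 (e ▸ h)
  have bd := sq_le (nodup_dv A.nd nd fun _ => A.ndv) ic_one
  rw [pr_append, sq_append, ← dv_pr, cc, centralizer_eq_top_iff_subset.2 (by simp), card_top,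
    hG, ← add_assoc] at bd
  have m1 : ∀ χ ∈ W', χ ∈ L ++ E := fun χ h => A.out rfl χ (hW' χ h).1 (hW' χ h).2
  simp only [sb, A.sub B, Bool.not_true, Bool.or_false, Bool.or_assoc] at h1
  have h2 := cf23 hG A A (by norm_num) ha nd nd (or_res (or_res h1 (by
    simp only [ne_eq, List.any_eq_true, not_exists, not_and, beq_iff_eq, cnt_pr]
    exact List.forall_mem_map.2 fun χ h =>
      (List.length_pos_of_mem (List.mem_filter.2 ⟨m1 χ h, by simp⟩)).ne'))
    (by rw [ne_eq, Nat.blt_eq]; omega)) rfl hc rfl rfl rfl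
  simp only [a1 ha2, sb, Bool.not_true, Bool.false_or] at h2
  refine or_res h2 ?_
  simp only [ne_eq, List.any_eq_true, not_exists, not_and, pr, List.forall_mem_map,
    Bool.not_eq_true', Bool.not_eq_false, List.contains_iff_mem]
  exact fun χ h => List.mem_map_of_mem (m1 χ h)

theorem blocks23 (A : Bk 23 n e v L E s) (B : Bk 11 n1 e1 v1 L1 E1 s1)
    (C : Bk 7 n7 e7 v7 L7 E7 s7) (D : Bk 5 n5 e5 v5 L5 E5 s5) :
    (v = 1 ∧ e = 11 ∧ cl s L 1 = [-896, -896, -45, -45, -22, 231, 231, 231, 990, 990]) ∧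
      (v1 = 1 ∧ e1 = 5 ∧ cl s1 L1 1 = [-230, 45, 45, 1035]) ∧
      e7 = 3 ∧ cl s7 L7 1 = [-1035, 2024] ∧ v7 ∈ [2, 16] := by
  obtain ⟨rfl, rfl, rfl⟩ := step23 hG A
  obtain ⟨rfl, rfl, hB⟩ := step11' hG A B C
  obtain ⟨⟨rfl, rfl, hD⟩, rfl, hC, hv, a, ha, hU, hc⟩ := step7' hG A B hB C D
  have ha2 := H83.mul_self_of_orderOf_two ha
  have o := one_mul (1 : G)
  have b1 : ∀ {a : G}, a * a = 1 → uns _ _ 2 = _ := B.uns2 (by norm_num)
  have c1 : ∀ {a : G}, a * a = 1 → uns _ _ 2 = _ := C.uns2 (by norm_num)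
  have d1 : ∀ {a : G}, a * a = 1 → uns _ _ 1 = _ := D.uns2 (by norm_num)
  have c2 := c1 ha2
  have c3 := c1 o
  rw [hC] at c2 c3
  rw [hU] at c2
  have h1 := List.all_eq_true.1 (List.all_eq_true.1 kA _ hc) _ hB
  simp only [b1 o, c2, c3, C.sub B, Bool.not_true, Bool.false_or] at h1
  have h2 := cf23 hG B B (by norm_num) ha C.nd C.nd (or_res h1 fun h => by
    simpa [d1 o, D.sub B] using List.all_eq_true.1 h _ hD) rfl rfl rfl rfl rfl
  simp only [b1 ha2, C.sub B, Bool.not_true, Bool.false_or] at h2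
  have h3 := cf23 hG D B (W := []) (by norm_num) ha (by simp) B.nd (or_not
    (List.all_eq_true.1 h2 _ hD) (by rw [d1 o]; exact D.sub B 1)) rfl rfl rfl rfl rfl
  simp only [d1 ha2, D.sub B, ← pr_append, A.exq _ (a := a) (by simp [ha]), Bool.not_true,
    Bool.false_or, Bool.and_eq_true, Bool.or_eq_true, beq_iff_eq, List.contains_iff_mem] at h3
  obtain ⟨h4, ⟨h5, h6⟩ | ⟨⟨h5, h6⟩, h7⟩⟩ := h3
  · refine ⟨⟨rfl, rfl, beq_iff_eq.1 (kD_spec hG A B C (W := []) (W' := []) ha h4 hC hU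
      (by simpa using C.nd) (by simp) (P := (· == _)) ?_)⟩, ⟨rfl, rfl, h5⟩, rfl, hC, hv⟩
    rw [h5, h6]
    exact kC
  obtain ⟨χ, h8, h6⟩ := List.mem_map.1 h6
  obtain ⟨ψ, h9, h7⟩ := List.mem_map.1 h7
  have k1 := (Prod.mk.inj h7).1
  have k2 : ψ ∉ L7 ++ E7 := fun h => by
    have : (dg ψ, iv ψ 1) ∈ pr (L7 ++ E7) 1 := List.mem_map_of_mem h
    rw [← c3, iv_one, k1] at this
    revert this
    decide
  have := kD_spec hG A B C (W := [ψ]) (W' := [χ]) ha h4 hC hU (by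
      have := List.nodup_cons.1 C.nd
      simp only [List.nodup_cons, List.nodup_append (l₂ := [ψ]), List.mem_append (t := [ψ]),
        List.mem_singleton, not_or]
      exact ⟨⟨this.1, (D.ne_one h9).symm⟩, this.2, by simp, fun a h b hb e => k2 (hb ▸ e ▸ h)⟩)
    (by simpa [(Prod.mk.inj h6).1] using D.ne_one h8) (P := fun _ => false) (by
      have e1 : pr [χ] a = [(11, -1)] := congrArg (· :: []) h6
      have e2 : pr [ψ] 1 = [(759, 759)] := by simp [pr, iv_one, k1]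
      have e3 : pr [ψ] a = [(759, -1)] := congrArg (· :: []) h7
      rw [e1, e2, e3]
      exact List.all_eq_true.1 kB _ h5)
  simp at this

end H45.MN
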