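/- Interface for the recognition of `M₂₃` by its order (see `blueprints/MATH-ORD.md`). -/
import Cfsg.Agent.H45.MSpec

set_option autoImplicit false

namespace H45.EX
open Subgroup Cfsg H96.CG

universe u

/-- what the character theory gives for a simple group of order `10200960` -/
structure D23 (G : Type u) [Group G] : Prop where
  card : Nat.card G = 10200960
  one : ∀ a b : G, orderOf a = 2 → orderOf b = 2 → IsConj a b
  c2 : ∀ z : G, orderOf z = 2 → Nat.card (cen1 z) = 2688
  i99 : ∀ z : G, orderOf z = 2 → Nat.card {t : G // orderOf t = 2 ∧ Commute t z} = 99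
  c7 : ∀ y : G, orderOf y = 7 → (Nat.card (cen1 y) = 14 ∨ Nat.card (cen1 y) = 112) ∧
    Nat.card (nor (zpowers y)) = 3 * Nat.card (cen1 y)
  rk : ∀ U : Subgroup G, IsElementaryAbelian 2 U → Nat.card U ≤ 16

/-- local analysis for the order of `M₂₃` -/
def JobL23 : Prop := ∀ (G : Type u) [Group G] [Finite G], D23 G → ∃ E : Subgroup G, E0 E

/-- the structure of a group of order `21 · 2 ^ b` with a self-centralizing element of order `7` -/
def JobS7 : Prop := ∀ (H : Type u) [Group H] [Finite H] (b : ℕ) (y : H), Nat.card H = 21 * 2 ^ b →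
  orderOf y = 7 → cen1 y = zpowers y → (∀ g : H, g * y * g⁻¹ ≠ y⁻¹) →
  ∃ (Q : Subgroup H) (_ : Q.Normal), IsPGroup 2 Q ∧
    (Q.index = 21 ∨ (Q.index = 168 ∧ IsSimpleGroup (H ⧸ Q)))

end H45.EX
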