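/- Simple groups of order `10200960`: the character degrees and the local data. -/
import Cfsg.Agent.H45.M23a
import Cfsg.Agent.H45.MSpec2

set_option autoImplicit false
set_option linter.unusedSectionVars false

namespace H45.MN
open Cfsg H28 H29 H39 H87 Subgroup H45.MO

variable {G : Type*} [Group G] [Fintype G]
  {p n e v n1 n7 v7 : ℕ} {L E L1 E1 L7 E7 : List (IrrCharacter G)} {s s1 s7 : IrrCharacter G → ℤ}

theorem Bk.card_nor (A : Bk p n e v L E s) {y : G} (hy : orderOf y = p) :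
    Nat.card (Nor (zpowers y)) = e * cc y := by
  obtain ⟨_, P, V, _, _, _, _, _, hC, -, h1, h2, h3, -⟩ := A.br
  have a1 := card_eq_of_cpl hC
  obtain ⟨Q, hQ⟩ := (IsPGroup.of_card (n := 1) (p := p) (G := zpowers y)
    (by rw [Nat.card_zpowers, hy, pow_one])).exists_le_sylow
  have h4 : zpowers y = Q := eq_of_le_of_card_ge hQ (by
    rw [Nat.card_zpowers, hy, Q.card_eq_multiplicity, ← P.card_eq_multiplicity, hC.card])
  have h5 := (Nor (Q : Subgroup G)).index_mul_card
  rw [show (Nor (Q : Subgroup G)).index = _ from Q.card_eq_index_normalizer.symm, a1, h1, h2, h3,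
    mul_assoc, mul_assoc] at h5
  rw [h4, A.ccp y hy]
  exact Nat.eq_of_mul_eq_mul_left (Nat.pos_of_ne_zero (left_ne_zero_of_mul A.ne0)) h5

variable [IsSimpleGroup G] (hG : Nat.card G = 10200960)
include hG

theorem table23 (A : Bk 23 n 11 1 L E s) (B : Bk 11 n1 5 1 L1 E1 s1) (C : Bk 7 n7 3 v7 L7 E7 s7)
    (hA : cl s L 1 = [-896, -896, -45, -45, -22, 231, 231, 231, 990, 990])
    (hB : cl s1 L1 1 = [-230, 45, 45, 1035]) (hC : cl s7 L7 1 = [-1035, 2024])
    (hv : v7 ∈ [2, 16]) :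
    (∀ F : ℕ → ℤ, ∑ χ : IrrCharacter G, F (dg χ) = F 1 + F 22 + 2 * F 45 + F 230 + 3 * F 231 +
      F 253 + 2 * F 770 + 2 * F 896 + 2 * F 990 + F 1035 + F 2024) ∧
    ∀ a : G, orderOf a = 2 → cc a = 2688 ∧ ∀ χ, iv χ a = val23 (dg χ) := by
  have o := one_mul (1 : G)
  have a1 : ∀ {a : G}, a * a = 1 → uns _ _ 2 = _ := A.uns2 (by norm_num)
  have b1 : ∀ {a : G}, a * a = 1 → uns _ _ 2 = _ := B.uns2 (by norm_num)
  have c1 : ∀ {a : G}, a * a = 1 → uns _ _ 2 = _ := C.uns2 (by norm_num)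
  have a0 := a1 o
  have b0 := b1 o
  have c0 := c1 o
  rw [hA] at a0 a1
  rw [hB] at b0 b1
  rw [hC] at c0 c1
  have n0 := nodup_dv B.nd C.nd fun _ => B.ndv
  have nd := nodup_dv A.nd n0 fun _ => A.ndv
  have hM := fun a : G => (pr_append _ _ a).trans (congrArg (pr (L ++ E) a ++ ·) (dv_pr 23
    (L1 ++ E1 ++ (L7 ++ E7).filter fun χ => dg χ % 11 == 0) a).symm)
  have hW := fun a : G => (pr_append _ _ a).trans (congrArg (pr (L1 ++ E1) a ++ ·)
    (dv_pr 11 (L7 ++ E7) a).symm)
  have out : ∀ ψ, ψ ≠ one G → ψ ∉ L ++ E ++ (L1 ++ E1 ++ (L7 ++ E7).filter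
      fun χ => dg χ % 11 == 0).filter (fun χ => dg χ % 23 == 0) → 253 ∣ dg ψ := fun ψ h1 h2 => by
    have h3 := A.out rfl ψ h1
    have h4 := B.out rfl ψ h1
    simp only [List.mem_append (s := _ ++ _), List.mem_filter, beq_iff_eq, not_or, not_and] at h2
    have h6 : dg ψ % 23 = 0 := by_contra fun h => h2.1 (h3 (by omega))
    have h7 : dg ψ % 11 = 0 := by_contra fun h => h2.2 (Or.inl (h4 (by omega))) h6
    omega
  generalize L1 ++ E1 ++ (L7 ++ E7).filter (fun χ => dg χ % 11 == 0) = W at n0 nd hM hW out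
  generalize L ++ E ++ W.filter (fun χ => dg χ % 23 == 0) = M at nd hM out
  have h1 := hM 1
  rw [hW, ← a0, ← b0, ← c0] at h1
  have h2 : (pr M 1).Perm [(22, 22), (45, 45), (45, 45), (230, 230), (231, 231), (231, 231),
      (231, 231), (770, 770), (770, 770), (896, 896), (896, 896), (990, 990), (990, 990),
      (1035, 1035), (2024, 2024)] := by
    rw [h1]
    decide
  obtain ⟨ρ, hρ, hs⟩ := exists_last nd (r := 253) (by norm_num) out (by
    rw [hG, sq, (h2.map _).sum_eq]; decide)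
  refine ⟨fun F => ?_, fun a ha => ?_⟩
  · have := (h2.map fun x => F x.1).sum_eq
    rw [pr, List.map_map] at this
    rw [hs, dg_one, hρ, show (M.map fun χ => F (dg χ)).sum = _ from this]
    simp only [List.map_cons, List.sum_cons, List.map_nil, List.sum_nil]
    ring
  have ha2 := H83.mul_self_of_orderOf_two ha
  have k4 : cc a ∣ 40320 := dvd_of_not_dvd (q := 11) (by norm_num) (dvd_of_not_dvd (q := 23)
    (by norm_num) (show cc a ∣ 10200960 from hG ▸ card_subgroup_dvd_card _)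
    (A.not_dvd_cc rfl (by simp [ha]))) (B.not_dvd_cc rfl (by simp [ha]))
  have k5 := two_dvd_cc ha
  have k6 := cols_spec (hC ▸ col23 hG C ha) (or_res (List.all_eq_true.1 (List.all_eq_true.1 kF _ hv)
    _ (mem_dvs (by norm_num) k4)) (by simp; omega))
  have k7 := cf23 hG B B (by norm_num) ha C.nd C.nd k6 hB rfl b0 (c1 ha2) (by rw [c1 ha2])
  simp only [b1 ha2, c1 ha2, ← hW] at k7
  have k7 := cf23 hG A A (by norm_num) ha n0 n0 k7 hA rfl a0 rfl rfl
  have k8 := ic_one.sum_mul (ic_inv ha2) fun h => by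
    rw [isConj_one_right.1 h, orderOf_one] at ha; omega
  have k9 := (ic_inv ha2).sum_sq
  rw [hs, iv_triv, ← sq_pr] at k9
  rw [hs, iv_triv, iv_triv, iv_one, hρ] at k8
  have k10 : ((pr M a).map fun x => (x.1 : ℤ) * x.2).sum = (M.map fun χ => iv χ 1 * iv χ a).sum := by
    simp [pr, iv_one, Function.comp_def]
  have k11 : sub 23 (pr W a) (pr (L ++ E) a) = true := sub_map _ (List.nodup_cons.1 n0).2
    fun χ h h1 => A.out rfl χ (fun e => (List.nodup_cons.1 n0).1 (e ▸ h)) h1
  simp only [a1 ha2, ← hM, k10, k11, show 1 + (M.map fun χ => iv χ 1 * iv χ a).sum =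
    253 * -iv ρ a by push_cast at k8; linarith, Int.mul_emod_right, Bool.not_true, Bool.false_or,
    bne_self_eq_false, Int.mul_ediv_cancel_left _ (show (253 : ℤ) ≠ 0 by norm_num), Bool.or_eq_true,
    bne_iff_ne, Bool.and_eq_true, beq_iff_eq, List.all_eq_true] at k7
  obtain ⟨⟨l1, l2⟩, l3⟩ := k7.resolve_left (not_not.2 (by
    zify; rw [s2_cast]; linarith))
  exact ⟨l1, iv_eq_val hs rfl l3 (by rw [hρ, show iv ρ a = 13 by omega]; rfl)⟩

theorem d23' : H45.EX.D23 G := by
  have hna : ¬ IsMulCommutative G := nonabelian_of_card_not_prime (by rw [hG]; norm_num)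
  have := Fact.mk (by norm_num : Nat.Prime 23)
  have := Fact.mk (by norm_num : Nat.Prime 11)
  have := Fact.mk (by norm_num : Nat.Prime 7)
  have := Fact.mk (by norm_num : Nat.Prime 5)
  obtain ⟨n, e, v, L, E, s, A⟩ := exists_bk hna (p := 23) (m := 443520) (by norm_num) hG
    (by norm_num)
  obtain ⟨n1, e1, v1, L1, E1, s1, B⟩ := exists_bk hna (p := 11) (m := 927360) (by norm_num) hG
    (by norm_num)
  obtain ⟨n7, e7, v7, L7, E7, s7, C⟩ := exists_bk hna (p := 7) (m := 1457280) (by norm_num) hG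
    (by norm_num)
  obtain ⟨n5, e5, v5, L5, E5, s5, D⟩ := exists_bk hna (p := 5) (m := 2040192) (by norm_num) hG
    (by norm_num)
  obtain ⟨⟨rfl, rfl, hA⟩, ⟨rfl, rfl, hB⟩, rfl, hC, hv⟩ := blocks23 hG A B C D
  obtain ⟨hd, hi⟩ := table23 hG A B C hA hB hC hv
  have o : ∀ a b : G, orderOf a = 2 → orderOf b = 2 → IsConj a b := fun a b ha hb =>
    by_contra fun h => by
      have h1 := (ic_inv (H83.mul_self_of_orderOf_two ha)).sum_mul
        (ic_inv (H83.mul_self_of_orderOf_two hb)) h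
      simp only [(hi a ha).2, (hi b hb).2, hd fun d => val23 d * val23 d] at h1
      revert h1; decide
  refine ⟨hG, o, fun z hz => (hi z hz).1, fun z hz => ?_, fun y hy => ⟨?_, C.card_nor hy⟩,
    fun U hU => ?_⟩
  · have hz2 := H83.mul_self_of_orderOf_two hz
    have h1 := prod_int hz2 hz2 (ic_inv hz2)
    simp only [(hi z hz).2, (hi z hz).1, hG,
      hd fun d => val23 d * (val23 d * val23 d * (((10200960 : ℕ) : ℤ) / d))] at h1
    replace h1 := h1.trans (show _ = 708083712 by decide +kernel)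
    rw [card_comm o hz]
    omega
  · have := C.ccp y hy
    simp only [List.mem_cons, List.not_mem_nil, or_false] at hv
    rcases hv with rfl | rfl
    exacts [Or.inl this, Or.inr this]
  · cases nonempty_fintype U
    obtain ⟨χ, hχ⟩ : ∃ χ : IrrCharacter G, dg χ = 45 := exists_dg (by
      rw [hd fun k => if k = 45 then 1 else 0]; decide)
    obtain ⟨m, hm⟩ := exists_sum_eq χ.2.isCharacter U
    rw [H43.sum_subgroup_ite le_rfl χ.1 (β := -3) (γ := 0) (fun u hu h1 => by
      have h2 := orderOf_eq_prime (hU.2 u hu) h1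
      rw [← ic_inv (H83.mul_self_of_orderOf_two h2) χ, (hi u h2).2, hχ]
      simp [val23, List.lookup]) (fun u hu h => absurd hu h), ← coe_dg, hχ] at hm
    have : (48 : ℂ) = Nat.card U * m + 3 * Nat.card U := by push_cast at hm; linear_combination hm
    have : 48 = Nat.card U * m + 3 * Nat.card U := by exact_mod_cast this
    omega

end H45.MN
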