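/- Interface for the recognition of `M₂₄` by its order (see `blueprints/MATH-ORD.md`). -/
import Cfsg.Agent.H45.MSpec2
import Cfsg.Agent.H1.LXSpec

set_option autoImplicit false

namespace H45.EX
open Subgroup Cfsg H96.CG

universe u

/-- what the character theory gives for a simple group of order `244823040` -/
structure D24 {G : Type u} [Group G] (z : G) (χ : G → ℂ) : Prop where
  card : Nat.card G = 244823040
  oz : orderOf z = 2
  cz : Nat.card (cen1 z) = 21504
  ch : IsCharacter G χ
  re : ∀ g, χ g⁻¹ = χ g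
  one : χ 1 = 23
  xz : χ z = 7
  inv : ∀ t : G, orderOf t = 2 → χ t = 7 ∨ χ t = -1
  c7 : ∀ y : G, orderOf y = 7 → Nat.card (cen1 y) = 42 ∧ Nat.card (nor (zpowers y)) = 126
  rk : ∀ U : Subgroup G, IsElementaryAbelian 2 U → Nat.card U ≤ 64

/-- local analysis for the order of `M₂₄` -/
def JobL24 : Prop := ∀ (G : Type u) [Group G] [Finite G] (z : G) (χ : G → ℂ), D24 z χ →
  H1.LX.Big z 3

end H45.EX
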