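/- Interface for the recognition of `M₂₄` by its order: the character-theoretic jobs
(see `blueprints/MATH-ORD.md`, part M24). -/
import Cfsg.Agent.H45.M23b
import Cfsg.Agent.H45.MSpec3

set_option autoImplicit false

namespace H45.M24
open Cfsg H87 H45.MO H45.MN

universe u

/-- the principal `p`-block has inertial index `e`, and `|C(P)| = p v` -/
def HB (G : Type u) [Group G] [Fintype G] (p e v : ℕ) : Prop :=
  ∃ n L E s, Bk (G := G) p n e v L E s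

/-- the Sylow `23`-normalizer -/
def JobP0 : Prop := ∀ (G : Type u) [Group G] [Fintype G] [IsSimpleGroup G],
  Nat.card G = 244823040 → ∀ e v, HB G 23 e v → e = 11 ∧ v = 1

/-- no element of order `77` -/
def JobP1 : Prop := ∀ (G : Type u) [Group G] [Fintype G] [IsSimpleGroup G],
  Nat.card G = 244823040 → HB G 23 11 1 → ∀ e v, HB G 7 e v → ¬ 11 ∣ v

/-- the Sylow `11`-normalizer, up to three cases -/
def JobP2a : Prop := ∀ (G : Type u) [Group G] [Fintype G] [IsSimpleGroup G],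
  Nat.card G = 244823040 → HB G 23 11 1 → ∀ e v, HB G 11 e v → ¬ 7 ∣ v →
    (e, v) ∈ [(10, 1), (5, 2), (5, 24), (10, 12)]

/-- a good involution centralizing a Sylow `11`-subgroup -/
def JobP2g : Prop := ∀ (G : Type u) [Group G] [Fintype G] (e v m : ℕ),
  (e, v, m) ∈ [(5, 2, 110), (5, 24, 440), (10, 12, 440)] → HB G 11 e v →
    ∃ a : G, orderOf a = 2 ∧ ∃ k, k ∣ 11 * e * v ∧ m ∣ k ∧ k ∣ cc a ∧ cc a / k % 11 = 1

/-- the columns of the principal `7`-block -/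
def JobP27 : Prop := ∀ (G : Type u) [Group G] [Fintype G] [IsSimpleGroup G],
  Nat.card G = 244823040 → HB G 23 11 1 → ∀ e v, HB G 7 e v → ¬ 11 ∣ v → ∀ a : G, orderOf a = 2 →
    cc a ∉ [24640, 73920, 295680, 887040, 3548160, 10644480]

/-- the three cases -/
def JobP2c : Prop := JobP2g.{u} → JobP27.{u} → ∀ (G : Type u) [Group G] [Fintype G]
  [IsSimpleGroup G], Nat.card G = 244823040 → HB G 23 11 1 → ∀ e v, HB G 11 e v →
    (e, v) ∉ [(5, 2), (5, 24), (10, 12)]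

variable {G : Type u} [Group G] [Fintype G]

/-- linked on the `3`-regular elements -/
def Lk (χ ψ : IrrCharacter G) : Prop := classInner (pRegularPart 3 χ.1) ψ.1 ≠ 0

/-- a `3`-block of defect one -/
structure Tr (a b c : IrrCharacter G) : Prop where
  nd : [a, b, c].Nodup
  dv : ∀ χ ∈ [a, b, c], 9 ∣ dg χ ∧ ¬ 27 ∣ dg χ
  lk : ∀ χ ∈ [a, b, c], ∀ ψ, ψ ∈ [a, b, c] ↔ Lk χ ψ
  alt : ((∀ g, ¬ 3 ∣ orderOf g → a.1 g + b.1 g = c.1 g) ∧
      ∀ g, 3 ∣ orderOf g → b.1 g = a.1 g ∧ c.1 g = -a.1 g) ∨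
    ((∀ g, ¬ 3 ∣ orderOf g → b.1 g = a.1 g ∧ c.1 g = a.1 g) ∧
      ∀ g, 3 ∣ orderOf g → a.1 g + b.1 g + c.1 g = 0)

/-- every character of `3`-defect one lies in such a block -/
def Tri (G : Type u) [Group G] [Fintype G] : Prop :=
  ∀ χ : IrrCharacter G, 9 ∣ dg χ → ¬ 27 ∣ dg χ → ∃ a b c, χ ∈ [a, b, c] ∧ Tr a b c

/-- the principal `5`-block `{1, a, b, c, d}` and the character `ρ` of degree `252` -/
structure S5 (a b c d ρ : IrrCharacter G) : Prop where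
  da : dg a = 5544
  db : dg b = 5796
  dc : dg c = 2024
  dd : dg d = 1771
  dρ : dg ρ = 252
  sing : ∀ g, 5 ∣ orderOf g → a.1 g = -1 ∧ b.1 g = 1 ∧ c.1 g = -1 ∧ d.1 g = 1
  reg : ∀ g, ¬ 5 ∣ orderOf g → 1 + b.1 g + d.1 g = a.1 g + c.1 g
  c7 : ∀ g, 7 ∣ orderOf g → c.1 g = 1
  v5 : HB G 5 4 12 ∨ HB G 5 4 192
  tri : ∃ b', dg b' = 5796 ∧ (∀ g, ¬ 3 ∣ orderOf g → ρ.1 g + a.1 g = b'.1 g) ∧
    (b' = b → ∀ χ : IrrCharacter G, dg χ ≠ 22) ∧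
    (b' ≠ b → ∃ a' ρ', a' ≠ a ∧ ρ' ≠ ρ ∧ dg a' = 5544 ∧ dg ρ' = 252)

/-- `e₇ = 6` is impossible -/
def JobP4 : Prop := ∀ (G : Type u) [Group G] [Fintype G] [IsSimpleGroup G],
  Nat.card G = 244823040 → HB G 23 11 1 → HB G 11 10 1 → Tri G →
    ∀ a b c d ρ : IrrCharacter G, S5 a b c d ρ → ∀ v ∈ [3, 24, 192], ¬ HB G 7 6 v

/-- the principal `11`-block `{1, α, β, β', ζ, ψ, ψ', l, ρ, κ, b}` and the `7`-block
`{1, c, ζ, θ, θ'}` -/
structure S11 (b c ρ α β β' ζ ψ ψ' l κ θ θ' : IrrCharacter G) : Prop where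
  nd : [one G, α, β, β', ζ, ψ, ψ', l, ρ, κ, b, c, θ, θ'].Nodup
  deg : [α, β, β', ζ, ψ, ψ', l, ρ, κ, b, c, θ, θ'].map dg =
    [23, 45, 45, 1035, 1035, 1035, 3312, 252, 483, 5796, 2024, 990, 990]
  out : ∀ χ, ¬ 11 ∣ dg χ → χ ∈ [one G, α, β, β', ζ, ψ, ψ', l, ρ, κ, b]
  n22 : ∀ χ : IrrCharacter G, dg χ ≠ 22
  b5 : ∀ g, 5 ∣ orderOf g → b.1 g = 1
  inv : ∀ t : G, t * t = 1 → iv β' t = iv β t ∧ iv c t = iv β t ^ 2 - 1 ∧
    2 * iv ζ t = iv β t ^ 2 + 45 ∧ iv θ t = 1 + iv c t - iv ζ t ∧ iv θ' t = iv θ t ∧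
    iv ψ t = iv β t + iv θ t ∧ iv ψ' t = iv ψ t
  v7 : HB G 7 3 6 ∨ HB G 7 3 48 ∨ HB G 7 3 384

/-- the final data -/
def JobP6 : Prop := ∀ (G : Type u) [Group G] [Fintype G] [IsSimpleGroup G],
  Nat.card G = 244823040 → HB G 23 11 1 → HB G 11 10 1 →
    ∀ b c ρ α β β' ζ ψ ψ' l κ θ θ' : IrrCharacter G, S11 b c ρ α β β' ζ ψ ψ' l κ θ θ' →
      ∃ z : G, H45.EX.D24 z α.1

end H45.M24
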