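/- Blocks of defect one: more tools (values, meets, rationality, class multiplication). -/
import Cfsg.Agent.H45.MSpec4
import Cfsg.Agent.S4703

set_option autoImplicit false
set_option linter.unusedSectionVars false

namespace H45.MN
open Cfsg H28 H29 H39 H87 Subgroup H45.MO
open scoped ComplexConjugate

variable {G : Type*} [Group G] [Fintype G] {p n e v q n' e' v' : ℕ}
  {L E L' E' : List (IrrCharacter G)} {s s' : IrrCharacter G → ℤ}

open Classical in
/-- the multiplicity of a non-trivial character in the projective character of the block -/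
noncomputable def co (t : ℕ) (L E : List (IrrCharacter G)) (s : IrrCharacter G → ℤ)
    (χ : IrrCharacter G) : ℤ := if χ ∈ L then t * s χ else if χ ∈ E then -s χ else 0

open Classical in
/-- the sign of a member of the block -/
noncomputable def sn (L : List (IrrCharacter G)) (s : IrrCharacter G → ℤ) (χ : IrrCharacter G) : ℤ :=
  if χ ∈ L then s χ else -s χ

theorem reg_of_prime (hp : p.Prime) (hq : q.Prime) (h : p ≠ q) {a : G} (ha : orderOf a = q) :
    ¬ p ∣ orderOf a := fun h1 => h ((Nat.prime_dvd_prime_iff_eq hp hq).1 (ha ▸ h1))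

namespace Bk
variable (A : Bk p n e v L E s)
include A

theorem raw : ∃ X Y δ ε, Br p e ((p - 1) / e) X Y δ ε ∧ (∀ χ, χ ∈ L ↔ χ ≠ one G ∧ χ ∈ X) ∧
    (∀ χ, χ ∈ E ↔ χ ∈ Y) ∧ (∀ χ ∈ X, s χ = δ χ) ∧ (∀ χ ∈ Y, s χ = ε) ∧
    (∀ F : IrrCharacter G → ℂ, ∑ χ ∈ X, F χ = F (one G) + (L.map F).sum) ∧
    ∀ F : IrrCharacter G → ℂ, ∑ χ ∈ Y, F χ = (E.map F).sum := by
  classical
  obtain ⟨_, _, _, t, X, Y, δ, ε, -, h, -, -, -, h1, h2, h3, h4⟩ := A.br
  have ht : (p - 1) / e = t := by
    rw [← h.te, Nat.add_sub_cancel, Nat.mul_div_cancel _ h.e_pos]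
  have nd := List.nodup_append.1 (List.nodup_cons.1 A.nd).2
  refine ⟨X, Y, δ, ε, ht ▸ h, h1, h2, h3, h4, fun F => ?_, fun F => ?_⟩
  · rw [← List.sum_toFinset _ nd.1, ← Finset.add_sum_erase _ _ h.one_mem]
    congr 2
    ext χ
    simp [h1]
  · rw [← List.sum_toFinset _ nd.2.1]
    congr 1
    ext χ
    simp [h2]

theorem disj {χ : IrrCharacter G} (h : χ ∈ E) : χ ∉ L := fun h1 =>
  (List.nodup_append.1 (List.nodup_cons.1 A.nd).2).2.2 χ h1 χ h rfl

theorem t_pos : 0 < (p - 1) / e := Nat.div_pos (Nat.le_sub_one_of_lt A.lt)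
  (Nat.pos_of_ne_zero (right_ne_zero_of_mul A.ne0))

theorem len : L.length + 1 = e ∧ E.length = (p - 1) / e := by
  have h1 := (A.deg (fun _ => true) fun _ _ => rfl).len
  have h2 := congrArg List.length (A.uns 1 (by simpa using A.hp.one_lt.ne') fun χ _ => ic_one χ)
  simp only [cl, MN.uns, pr, List.length_map, List.length_append, List.length_zipWith,
    List.length_replicate] at h1 h2
  omega

theorem exists_ord : ∃ g : G, orderOf g = p := by
  obtain ⟨_, _, _, _, h, -⟩ := A.raw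
  exact h.exists_order

theorem sing {χ : IrrCharacter G} (h : χ ∈ L) {g : G} (hg : p ∣ orderOf g) : χ.1 g = s χ := by
  obtain ⟨X, Y, δ, ε, h0, h1, -, h3, -⟩ := A.raw
  rw [h0.valX χ ((h1 χ).1 h).2 g hg, h3 χ ((h1 χ).1 h).2]

theorem singE {θ : IrrCharacter G} (h : θ ∈ E) {g : G} (hg : p ∣ orderOf g) :
    (E.map fun η => η.1 g).sum = -s θ := by
  obtain ⟨X, Y, δ, ε, h0, -, h2, -, h4, -, h6⟩ := A.raw
  rw [← h6, h0.valY g hg, h4 θ ((h2 θ).1 h)]

theorem regE {θ : IrrCharacter G} (h : θ ∈ E) {g : G} (hg : ¬ p ∣ orderOf g) :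
    s θ * θ.1 g = 1 + (L.map fun χ => s χ * χ.1 g).sum := by
  obtain ⟨X, Y, δ, ε, h0, h1, h2, h3, h4, h5, -⟩ := A.raw
  rw [h4 θ ((h2 θ).1 h), h0.reg θ ((h2 θ).1 h) g hg, h5, h0.δ_one]
  congr 1
  · simp
  · exact congrArg _ (List.map_congr_left fun χ hχ => by rw [h3 χ ((h1 χ).1 hχ).2])

theorem inner (ξ : G → ℂ) : sS p ξ = ((p - 1) / e : ℕ) * (classInner ξ (one G).1 +
    (L.map fun χ => s χ * classInner ξ χ.1).sum) - (E.map fun θ => s θ * classInner ξ θ.1).sum := by
  obtain ⟨X, Y, δ, ε, h0, h1, h2, h3, h4, h5, h6⟩ := A.raw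
  rw [sS_apply, h0.inner_sg, Finset.mul_sum Y, h5, h6, h0.δ_one, Int.cast_one, one_mul,
    List.map_congr_left (l := L) (g := fun χ => s χ * classInner ξ χ.1) fun χ hχ => by
      rw [h3 χ ((h1 χ).1 hχ).2],
    List.map_congr_left (l := E) (g := fun χ => s χ * classInner ξ χ.1) fun χ hχ => by
      rw [h4 χ ((h2 χ).1 hχ)]]

theorem phi (g : G) : ((p - 1) / e : ℕ) * (1 + (L.map fun χ => s χ * χ.1 g).sum) -
    (E.map fun θ => s θ * θ.1 g).sum = p * H87.sg p g := by
  obtain ⟨X, Y, δ, ε, h0, h1, h2, h3, h4, h5, h6⟩ := A.raw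
  have := congrFun h0.phi g
  simp only [Pi.sub_apply, Pi.smul_apply, Finset.sum_apply, smul_eq_mul] at this
  rw [← this, Finset.mul_sum Y, h5, h6, h0.δ_one, Int.cast_one, one_mul,
    List.map_congr_left (l := L) (f := fun χ => δ χ * χ.1 g) (g := fun χ => s χ * χ.1 g)
      fun χ hχ => by rw [h3 χ ((h1 χ).1 hχ).2],
    List.map_congr_left (l := E) (f := fun χ => ε * χ.1 g) (g := fun χ => s χ * χ.1 g)
      fun χ hχ => by rw [h4 χ ((h2 χ).1 hχ)]]

theorem sS_one : sS p (one G).1 = ((p - 1) / e : ℕ) := by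
  obtain ⟨X, Y, δ, ε, h0, -⟩ := A.raw
  exact h0.inner_one_sg

theorem sS_const {ξ : G → ℂ} {c : ℂ} (h : ∀ g, p ∣ orderOf g → ξ g = c) :
    sS p ξ = c * ((p - 1) / e : ℕ) := by
  obtain ⟨X, Y, δ, ε, h0, -⟩ := A.raw
  exact h0.inner_sg_of_const h

theorem co_eq {χ : IrrCharacter G} (h : χ ≠ one G) : sS p χ.1 = co ((p - 1) / e) L E s χ := by
  obtain ⟨X, Y, δ, ε, h0, h1, h2, h3, h4, -⟩ := A.raw
  rw [br_sS h0, sI, co]
  by_cases a : χ ∈ X
  · rw [if_pos a, if_pos ((h1 χ).2 ⟨h, a⟩), h3 χ a]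
  rw [if_neg a, if_neg fun b => a ((h1 χ).1 b).2]
  by_cases b : χ ∈ Y
  · rw [if_pos b, if_pos ((h2 χ).2 b), h4 χ b]
  · rw [if_neg b, if_neg fun c => b ((h2 χ).1 c)]

theorem mem_of_sS {χ : IrrCharacter G} (h : χ ≠ one G) (h1 : sS p χ.1 ≠ 0) : χ ∈ L ++ E := by
  by_contra h2
  rw [List.mem_append, not_or] at h2
  exact h1 (by rw [A.co_eq h, co, if_neg h2.1, if_neg h2.2, Int.cast_zero])

theorem co_ne {χ : IrrCharacter G} (h : χ ∈ L ++ E) : co ((p - 1) / e) L E s χ ≠ 0 := by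
  have h1 := A.t_pos
  have h2 : s χ ≠ 0 := by rcases A.sg χ with h | h <;> omega
  rw [co]
  split_ifs with a b
  exacts [mul_ne_zero (by omega) h2, neg_ne_zero.2 h2, absurd h (by simp [a, b])]

/-- A character constant on the singular elements lies in the block. -/
theorem mem_of_const {χ : IrrCharacter G} (h : χ ≠ one G) {c : ℂ} (hc : c ≠ 0)
    (h1 : ∀ g, p ∣ orderOf g → χ.1 g = c) : χ ∈ L ++ E := A.mem_of_sS h (by
  rw [A.sS_const h1]
  exact mul_ne_zero hc (Nat.cast_ne_zero.2 A.t_pos.ne'))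

theorem gal_mem {χ : IrrCharacter G} (h : χ ∈ L ++ E) (σ : ℂ →+* ℂ) :
    (⟨_, χ.2.gal σ⟩ : IrrCharacter G) ∈ L ++ E := by
  have h1 : sS p (fun g => σ (χ.1 g)) = σ (sS p χ.1) := by
    simp only [sS_apply, classInner, map_mul, map_inv₀, map_natCast, map_sum, conj_sg]
    congr 2
    refine Finset.sum_congr rfl fun g _ => ?_
    unfold H87.sg
    split_ifs <;> simp
  refine A.mem_of_sS (fun e => A.ne_one h (Subtype.ext (funext fun g => σ.injective ?_))) ?_
  · exact (congrFun (congrArg Subtype.val e) g).trans (map_one σ).symm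
  · rw [h1, A.co_eq (A.ne_one h), map_intCast]
    exact Int.cast_ne_zero.2 (A.co_ne h)

theorem int_of_uniq {χ : IrrCharacter G} (h : χ ∈ L ++ E)
    (h1 : ∀ ψ ∈ L ++ E, dg ψ = dg χ → ψ = χ) (g : G) : (iv χ g : ℂ) = χ.1 g :=
  coe_iv (exists_int_of_forall_fixed (χ.2.isCharacter.isIntegral g) fun σ =>
    congrFun (congrArg Subtype.val (h1 _ (A.gal_mem h σ.toRingHom)
      (charDegree_eq (by simp only [← coe_dg χ]; exact map_natCast σ _)))) g)

theorem uniq_of_cnt {χ : IrrCharacter G} (h : χ ∈ L ++ E) (h1 : cnt (dg χ) (pr (L ++ E) 1) = 1) :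
    ∀ ψ ∈ L ++ E, dg ψ = dg χ → ψ = χ := fun ψ h2 h3 => by
  rw [cnt_pr] at h1
  obtain ⟨x, hx⟩ := List.length_eq_one_iff.1 h1
  have a : ∀ η ∈ L ++ E, dg η = dg χ → η = x := fun η a b =>
    List.mem_singleton.1 (hx ▸ List.mem_filter.2 ⟨a, beq_iff_eq.2 b⟩)
  rw [a ψ h2 h3, a χ h rfl]

theorem card_eq : Nat.card G = n * e * p * v := by
  obtain ⟨_, P, V, _, _, _, _, _, hC, -, h1, h2, h3, -⟩ := A.br
  rw [card_eq_of_cpl hC, h1, h2, h3]

/-- A character of defect zero vanishes on the singular elements. -/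
theorem zero {χ : IrrCharacter G} (h : p ∣ dg χ) {g : G} (hg : p ∣ orderOf g) : χ.1 g = 0 := by
  obtain ⟨_, P, V, _, _, _, _, _, hC, -⟩ := A.br
  exact eq_zero_of_pow_factorization_dvd A.hp χ.2
    (by rwa [factorization_eq_one P hC.card, pow_one]) hg

theorem not_both (hq : q.Prime) (hpq : p ≠ q) (h : ¬ q ∣ v) {g : G} (h1 : p ∣ orderOf g) :
    ¬ q ∣ orderOf g := fun h2 => by
  have h3 := orderOf_pow_orderOf_div (orderOf_pos g).ne' h1
  have h4 := orderOf_dvd_natCard (⟨g, mem_centralizer_singleton.2 ((Commute.refl g).pow_right _)⟩ :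
    centralizer {g ^ (orderOf g / p)})
  rw [orderOf_mk, show Nat.card _ = _ from A.ccp _ h3] at h4
  exact h (((Nat.coprime_primes hq A.hp).2 hpq.symm).dvd_of_dvd_mul_left (h2.trans h4))

theorem exists_both (hq : q.Prime) (hpq : p ≠ q) (h : q ∣ v) {w : G} (hw : orderOf w = p) :
    ∃ u, orderOf u = q ∧ Commute u w ∧ orderOf (u * w) = q * p := by
  obtain ⟨u, hu, hc⟩ := exists_comm hq (A.ccp w hw ▸ h.mul_left p)
  refine ⟨u, hu, hc, ?_⟩
  rw [hc.orderOf_mul_eq_mul_orderOf_of_coprime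
    (by rw [hu, hw]; exact (Nat.coprime_primes hq A.hp).2 hpq.symm), hu, hw]

theorem meet' (B : Bk q n' e' v' L' E' s') (hpq : p ≠ q) (h : ¬ q ∣ v) :
    ((q - 1) / e' : ℕ) * (((p - 1) / e : ℕ) + (L'.map fun χ => s' χ * co ((p - 1) / e) L E s χ).sum) =
      (E'.map fun θ => s' θ * co ((p - 1) / e) L E s θ).sum := by
  have h1 := B.inner ((p : ℂ) • H87.sg p)
  have h2 : ∀ χ : G → ℂ, classInner ((p : ℂ) • H87.sg p) χ = conj (sS p χ) := fun χ => by
    rw [classInner_smul_left, sS_apply, map_mul, map_natCast, classInner_conj_symm]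
  rw [sS_apply, show classInner _ _ = 0 by
    rw [classInner, Finset.sum_eq_zero, mul_zero]
    intro g _
    by_cases a : p ∣ orderOf g
    · rw [sg_of_not (A.not_both B.hp hpq h a), map_zero, mul_zero]
    · rw [Pi.smul_apply, sg_of_not a, smul_zero, zero_mul], mul_zero, eq_comm, sub_eq_zero] at h1
  simp only [h2] at h1
  rw [A.sS_one, map_natCast, List.map_congr_left (l := L') (g := fun χ =>
    ((s' χ * co ((p - 1) / e) L E s χ : ℤ) : ℂ)) fun χ hχ => by
      rw [A.co_eq (B.ne_one (List.mem_append_left _ hχ)), map_intCast, Int.cast_mul],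
    List.map_congr_left (l := E') (g := fun χ => ((s' χ * co ((p - 1) / e) L E s χ : ℤ) : ℂ))
      fun χ hχ => by
        rw [A.co_eq (B.ne_one (List.mem_append_right _ hχ)), map_intCast, Int.cast_mul]] at h1
  refine Int.cast_injective (α := ℂ) ?_
  simpa only [Int.cast_mul, Int.cast_add, Int.cast_natCast, Int.cast_list_sum, List.map_map,
    Function.comp_def] using h1

theorem meet (B : Bk q n' e' v' L' E' s') (hpq : p ≠ q) (h : ¬ q ∣ v) :
    ∃ χ ∈ L' ++ E', χ ∈ L ++ E ∧ sn L s χ = -sn L' s' χ := by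
  by_contra! h1
  have h2 := A.meet' B hpq h
  have a := A.t_pos
  have b := B.t_pos
  have key : ∀ χ ∈ L' ++ E', 0 ≤ sn L' s' χ * co ((p - 1) / e) L E s χ := fun χ hχ => by
    have := h1 χ hχ
    simp only [sn, co, List.mem_append] at this ⊢
    generalize (p - 1) / e = t
    rcases A.sg χ with c | c <;> rcases B.sg χ with d | d <;> split_ifs <;> simp_all
  have h3 : 0 ≤ (L'.map fun χ => s' χ * co ((p - 1) / e) L E s χ).sum :=
    List.sum_nonneg (List.forall_mem_map.2 fun χ hχ => by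
      simpa only [sn, if_pos hχ] using key χ (List.mem_append_left _ hχ))
  have h4 : 0 ≤ (E'.map fun χ => -(s' χ * co ((p - 1) / e) L E s χ)).sum :=
    List.sum_nonneg (List.forall_mem_map.2 fun χ hχ => by
      simpa only [sn, if_neg (B.disj hχ), neg_mul] using key χ (List.mem_append_right _ hχ))
  rw [show (E'.map fun χ => -(s' χ * co ((p - 1) / e) L E s χ)) = (E'.map fun χ =>
    s' χ * co ((p - 1) / e) L E s χ).map (- ·) by rw [List.map_map]; rfl, ← List.sum_neg, ← h2] at h4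
  nlinarith [mul_pos (Int.natCast_pos.2 b) (Int.natCast_pos.2 a)]

theorem dg_dvd {χ : IrrCharacter G} (h : χ ∈ L ++ E) : dg χ ∣ n * e := by
  classical
  by_contra h1
  have H := A.deg (fun _ => true) fun _ _ => rfl
  have h2 : (dg χ, iv χ 1) ∈ pr (L ++ E) 1 := List.mem_map_of_mem h
  rw [← A.uns 1 (by simpa using A.hp.one_lt.ne') fun χ _ => ic_one χ, MN.uns,
    List.zipWith_self] at h2
  rcases List.mem_append.1 h2 with h2 | h2
  · obtain ⟨d, h3, h4⟩ := List.mem_map.1 h2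
    exact h1 ((Prod.mk.inj h4).1 ▸ (H.mem d h3).1)
  · exact h1 ((Prod.mk.inj (List.eq_of_mem_replicate h2)).1 ▸ H.dv)

theorem isConj_pow (he : e + 1 = p) {g : G} (hg : orderOf g = p) {m : ℕ} (hm : m.Coprime p) :
    IsConj g (g ^ m) := by
  have := Fact.mk A.hp
  have h1 := A.card_nor hg
  have hc : Nat.card (zpowers g) = p := by rw [Nat.card_zpowers, hg]
  have h2 : (normalizerMonoidHom (zpowers g)).range = ⊤ := by
    refine eq_top_of_card_eq _ ?_
    have h3 := (normalizerMonoidHom (zpowers g)).ker.index_mul_card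
    rw [index_ker, normalizerMonoidHom_ker, Nat.card_congr
      (subgroupOfEquivOfLe (centralizer_le_normalizer _)).toEquiv, H43.centralizer_zpowers',
      show Nat.card _ = _ from h1] at h3
    rw [Nat.eq_of_mul_eq_mul_right Nat.card_pos h3, IsCyclic.card_mulAut, hc,
      Nat.totient_prime A.hp, ← he]
    rfl
  let _ : CommGroup (zpowers g) := IsCyclic.commGroup
  obtain ⟨x, hx⟩ := h2.ge (mem_top (MulEquiv.ofBijective (powMonoidHom m : zpowers g →* zpowers g)
    (powCoprime (hc ▸ hm.symm)).bijective))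
  have h4 := congrArg Subtype.val (DFunLike.congr_fun hx ⟨g, mem_zpowers g⟩)
  exact isConj_iff.2 ⟨x, h4⟩

theorem ic (he : e + 1 = p) {g : G} (hg : orderOf g = p) : IC g :=
  ic_of_rat fun _ hm => A.isConj_pow he hg (hg ▸ hm)

theorem isConj (he : e + 1 = p) {g h : G} (hg : orderOf g = p) (hh : orderOf h = p) :
    IsConj g h := by
  obtain ⟨_, P, V, _, _, _, _, _, hC, -⟩ := A.br
  have key : ∀ x : G, orderOf x = p → ∃ y ∈ (P : Subgroup G), IsConj x y := fun x hx => by
    obtain ⟨Q, hQ⟩ := (IsPGroup.of_card (n := 1) (p := p) (G := zpowers x)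
      (by rw [Nat.card_zpowers, hx, pow_one])).exists_le_sylow
    obtain ⟨c, rfl⟩ := MulAction.exists_smul_eq G Q P
    exact ⟨_, smul_mem_pointwise_smul _ _ _ (hQ (mem_zpowers x)), isConj_iff.2 ⟨c, rfl⟩⟩
  obtain ⟨y, hy, h1⟩ := key g hg
  obtain ⟨z, hz, h2⟩ := key h hh
  have o : ∀ {a b : G}, IsConj a b → orderOf a = p → orderOf b = p := fun c d =>
    by_contra fun e => H43.not_isConj_of_orderOf (d ▸ Ne.symm e) c
  have h3 := o h1 hg
  rw [← zpowers_eq hC hy fun e => A.hp.one_lt.ne (by rw [← h3, e, orderOf_one]),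
    ← mem_powers_iff_mem_zpowers] at hz
  obtain ⟨m, rfl⟩ := hz
  refine h1.trans ((A.isConj_pow he h3 ?_).trans h2.symm)
  refine ((Nat.Prime.coprime_iff_not_dvd A.hp).2 fun d => A.hp.one_lt.ne ?_).symm
  rw [← o h2 hh]
  exact (orderOf_eq_one_iff.2 (orderOf_dvd_iff_pow_eq_one.1 (h3 ▸ d))).symm

theorem exists_k {a : G} (ha : ¬ p ∣ orderOf a) (h : p ∣ cc a) :
    ∃ k, k ∣ p * e * v ∧ p * orderOf a ∣ k ∧ k ∣ cc a ∧ cc a / k % p = 1 := by
  have := Fact.mk A.hp
  obtain ⟨w, hw, hc⟩ := exists_comm A.hp h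
  obtain ⟨_, P, V, _, _, _, _, _, hC, -⟩ := A.br
  obtain ⟨Q, hQ⟩ := (IsPGroup.of_card (n := 1) (p := p) (G := zpowers w)
    (by rw [Nat.card_zpowers, hw, pow_one])).exists_le_sylow
  have h3 : zpowers w = Q := eq_of_le_of_card_ge hQ (by
    rw [Nat.card_zpowers, hw, Q.card_eq_multiplicity, ← P.card_eq_multiplicity, hC.card])
  have h4 : (Q : Subgroup G) ≤ centralizer {a} := by
    rw [← h3, zpowers_le]; exact mem_centralizer_singleton.2 hc
  have h5 := card_sylow_modEq_one p (centralizer {a})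
  have h6 := (Nor (Q.subtype h4 : Subgroup (centralizer {a}))).index_mul_card
  rw [(Q.subtype h4).card_eq_index_normalizer] at h5
  have h7 : Nat.card (Nor (Q.subtype h4 : Subgroup (centralizer {a}))) =
      Nat.card (Nor (Q : Subgroup G) ⊓ centralizer {a} : Subgroup G) := by
    rw [Sylow.coe_subtype, Nor, ← subgroupOf_normalizer_eq h4, ← inf_subgroupOf_right,
      Nat.card_congr (subgroupOfEquivOfLe inf_le_right).toEquiv]
  have h8 := A.card_nor hw
  rw [A.ccp w hw, h3, mul_left_comm, ← mul_assoc] at h8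
  rw [h7] at h6
  refine ⟨_, h8 ▸ card_dvd_of_le inf_le_left, Nat.Coprime.mul_dvd_of_dvd_of_dvd
    ((Nat.Prime.coprime_iff_not_dvd A.hp).2 ha) ?_ ?_, card_dvd_of_le inf_le_right, ?_⟩
  · exact (hw.symm.trans (Nat.card_zpowers w).symm).dvd.trans
      (card_dvd_of_le (h3.le.trans (le_inf le_normalizer h4)))
  · rw [← Nat.card_zpowers]
    refine card_dvd_of_le (zpowers_le.2 ⟨centralizer_le_normalizer _ ?_,
      mem_centralizer_singleton.2 rfl⟩)
    rw [← h3, H43.centralizer_zpowers']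
    exact mem_centralizer_singleton.2 hc.symm
  · rw [cc, ← h6, Nat.mul_div_cancel _ Nat.card_pos]
    exact Eq.trans h5 (Nat.mod_eq_of_lt A.hp.one_lt)

/-- The values at a rational element of order `p` come from the centralizer. -/
theorem loc (he : e + 1 = p) {g : G} (hg : orderOf g = p) {χ : IrrCharacter G} (h : ¬ p ∣ dg χ) :
    ∃ m : ℕ, m ∣ v ∧ m * m ≤ v ∧ iv χ g ∣ e * m := by
  classical
  obtain ⟨_, P, V, _, _, _, _, _, hC, -, h1, h2, -⟩ := A.br
  obtain ⟨φ, σ, k, hφ, hσ, -, h3, h4⟩ := exists_local P hC.card χ.2 h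
  have hP := le_centralizer_prime hC.card
  have hZ : (P : Subgroup G).subgroupOf (Cen (P : Subgroup G)) ≤ center _ := fun z hz =>
    incl_mem_center hP ⟨z, hz⟩
  have hi : ((P : Subgroup G).subgroupOf (Cen (P : Subgroup G))).index = v := by
    have := ((P : Subgroup G).subgroupOf (Cen (P : Subgroup G))).index_mul_card
    rw [Nat.card_congr (subgroupOfEquivOfLe hP).toEquiv, hC.card, hC.card_cen, h1, mul_comm p] at this
    exact Nat.eq_of_mul_eq_mul_right A.hp.pos this
  have hv : ∀ z : (P : Subgroup G), z ≠ 1 → k * (σ * iv χ g : ℂ) = locS (P : Subgroup G) φ (z : G) :=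
    fun z hz => by
    have := H87.orderOf_eq_of_mem A.hp hC.card z.2 (by simpa using hz)
    rw [← h3 z (hP z.2) this.symm.dvd, iv_conj (A.isConj he hg this), A.ic he this]
  have : ((P : Subgroup G).subgroupOf (Cen (P : Subgroup G))).Normal := ⟨fun a ha b => by
    rwa [mem_center_iff.1 (hZ ha) b, mul_inv_cancel_right]⟩
  refine ⟨charDegree φ, hi ▸ hφ.charDegree_dvd_index _ fun a ha b _ =>
    (mem_center_iff.1 (hZ ha) b).symm, ?_, ?_⟩
  · rw [← hi, ← pow_two]
    exact hφ.charDegree_sq_le_index (hZ.trans hφ.center_le_charCenter)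
  have : Nontrivial (P : Subgroup G) := Finite.one_lt_card_iff_nontrivial.1
    (A.hp.one_lt.trans_eq hC.card.symm)
  rcases h4 with h4 | ⟨-, z, hz, h4⟩
  · obtain ⟨z, hz⟩ := exists_ne (1 : (P : Subgroup G))
    have h5 := hv z hz
    rw [show locS (P : Subgroup G) φ (z : G) = _ from locS_of_const φ (c := ⟨z, hP z.2⟩) (a := φ 1) fun n hn => by
      have := (mem_normalizer_iff''.1 hn _).1 z.2
      rw [← h4 ⟨_, hP this⟩ this]
      exact Subtype.val_injective.extend_apply φ 0 ⟨_, hP this⟩, h2,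
      ← hφ.cast_charDegree] at h5
    exact ⟨k * σ, Int.cast_injective (α := ℂ) (by push_cast; linear_combination -h5)⟩
  · obtain ⟨ν, hν⟩ := exists_hom_of_central (incl_mem_center hP) hφ
    have h5 := congrFun (cPart_locS_of_ne hP hν (μ := 1) fun n hn e => h4 ?_) 1
    · simp only [cPart, MonoidHom.one_apply, Units.val_one, inv_one, mul_one, Pi.zero_apply,
        mul_eq_zero, inv_eq_zero, Nat.cast_eq_zero, Nat.card_pos.ne', false_or, coe_inclusion] at h5
      rw [← Finset.add_sum_erase _ _ (Finset.mem_univ 1), Finset.sum_congr rfl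
        (g := fun _ => k * (σ * iv χ g : ℂ)) fun z hz => (hv z (Finset.mem_erase.1 hz).1).symm, Finset.sum_const,
        Finset.card_erase_of_mem (Finset.mem_univ _), Finset.card_univ, ← Nat.card_eq_fintype_card,
        hC.card, show p - 1 = e by omega, OneMemClass.coe_one, locS_one, h2,
        ← hφ.cast_charDegree, nsmul_eq_mul] at h5
      exact ⟨-(e * k * σ), Int.cast_injective (α := ℂ) (by push_cast; linear_combination h5)⟩
    · have h6 := DFunLike.congr_fun e ⟨n * z * n⁻¹, (mem_normalizer_iff.1 hn _).1 hz⟩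
      have h7 := hν ⟨z, hz⟩ 1
      rw [show (⟨z, hz⟩ : (P : Subgroup G)) = cjN n hn ⟨n * z * n⁻¹,
        (mem_normalizer_iff.1 hn _).1 hz⟩ from Subtype.ext (by simp [cjN, mul_assoc])] at h7
      simp only [MonoidHom.comp_apply, MonoidHom.one_apply] at h6
      rw [h6, mul_one, Units.val_one, one_mul] at h7
      rw [← h7]
      exact congrArg φ (Subtype.ext (by simp [cjN, mul_assoc]))

theorem regZ {θ : IrrCharacter G} (h : θ ∈ E) {a : G} (ha : ¬ p ∣ orderOf a)
    (hi : ∀ χ ∈ L ++ E, (iv χ a : ℂ) = χ.1 a) : 1 + (cl s L a).sum = s θ * iv θ a := by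
  refine Int.cast_injective (α := ℂ) ?_
  rw [Int.cast_mul, hi θ (List.mem_append_right _ h), A.regE h ha, cl, Int.cast_add,
    Int.cast_list_sum, List.map_map, Int.cast_one]
  exact congrArg _ (congrArg _ (List.map_congr_left fun χ hχ => by
    simp [hi χ (List.mem_append_left _ hχ)]))

theorem exists_mem_E : ∃ θ, θ ∈ E := List.exists_mem_of_length_pos (A.len.2 ▸ A.t_pos)

/-- Class multiplication at a self-centralizing element of order `p`. -/
theorem cm (hv : v = 1) {a : G} (hi : IC a) (h1 : a ≠ 1) (ha : ¬ p ∣ orderOf a) :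
    ∃ k : ℕ, ((p * k * (cc a * cc a) : ℕ) : ℤ) = fm (Nat.card G) (cl s L 1) (cl s L a) := by
  classical
  have := Fact.mk A.hp
  obtain ⟨x, hx⟩ := A.exists_ord
  obtain ⟨θ, hθ⟩ := A.exists_mem_E
  let f : Function.End {z : G × G // IsConj a z.1 ∧ IsConj a z.2 ∧ z.1 * z.2 = x} := fun z =>
    ⟨(x * z.1.1 * x⁻¹, x * z.1.2 * x⁻¹), z.2.1.trans (isConj_iff.2 ⟨x, rfl⟩),
      z.2.2.1.trans (isConj_iff.2 ⟨x, rfl⟩), by simp [mul_assoc, ← mul_assoc z.1.1, z.2.2.2]⟩
  have hf : ∀ m z, ((f ^ m) z).1 = (x ^ m * z.1.1 * (x ^ m)⁻¹, x ^ m * z.1.2 * (x ^ m)⁻¹) :=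
    fun m z => by
      induction m with
      | zero => simp [Function.End.one_def]
      | succ m ih =>
        rw [pow_succ']
        change (x * ((f ^ m) z).1.1 * x⁻¹, x * ((f ^ m) z).1.2 * x⁻¹) = _
        simp only [ih, pow_succ', mul_inv_rev, mul_assoc]
  have h2 := Equiv.Perm.card_fixedPoints_modEq (f := f) (p := p) (n := 1) (by
    funext z
    refine Subtype.ext ?_
    rw [hf, pow_one, ← hx, pow_orderOf_eq_one]
    simp [Function.End.one_def])
  rw [Fintype.card_eq_zero_iff (α := f.fixedPoints).2 ⟨fun ⟨z, hz⟩ => by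
    have h3 := orderOf_dvd_natCard (⟨z.1.1, mem_centralizer_singleton.2
      (mul_inv_eq_iff_eq_mul.1 (congrArg (·.1.1) hz)).symm⟩ : centralizer {x})
    rw [orderOf_mk, show Nat.card _ = _ from A.ccp x hx, hv, mul_one, Nat.dvd_prime A.hp] at h3
    have h4 : orderOf a = orderOf z.1.1 := by_contra fun e => H43.not_isConj_of_orderOf e z.2.1
    rcases h3 with h3 | h3
    exacts [h1 (orderOf_eq_one_iff.1 (h4.trans h3)), ha (h4.trans h3).symm.dvd]⟩,
    ← Nat.card_eq_fintype_card] at h2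
  obtain ⟨k, hk⟩ := Nat.modEq_zero_iff_dvd.1 h2
  refine ⟨k, Int.cast_injective (α := ℂ) ?_⟩
  have h3 := H43.prodCount_eq a a x
  have o : ¬ p ∣ orderOf (1 : G) := by simpa using A.hp.one_lt.ne'
  rw [H43.prodCount, hk, sum_list A.nd, Finset.sum_eq_zero fun χ hχ => by
      simp only [Finset.mem_compl, List.mem_toFinset, List.mem_cons, not_or] at hχ
      rw [A.zero (by_contra fun h => hχ.2 (A.out hv χ hχ.1 h)) hx.symm.dvd, map_zero, mul_zero],
    List.map_cons, List.sum_cons, List.map_append, List.sum_append,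
    List.map_congr_left (l := E) (g := fun η => θ.1 a * θ.1 a / θ.1 1 * conj (η.1 x))
      fun η hη => by rw [A.uni η hη θ hθ a ha, A.uni η hη θ hθ 1 o],
    List.sum_map_mul_left, show (E.map fun η => conj (η.1 x)).sum = conj (E.map fun η => η.1 x).sum
      by rw [map_list_sum, List.map_map]; rfl, A.singE hθ hx.symm.dvd, add_zero, mul_add, mul_add, ← List.sum_map_mul_left,
    List.map_congr_left (l := L) (g := fun χ => ((s χ * iv χ a * (s χ * iv χ a) *
      (Nat.card G / (s χ * iv χ 1)) : ℤ) : ℂ)) fun χ hχ => by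
        rw [iv_one, ← term_cast χ (A.sg χ) (hi χ) (hi χ), A.sing hχ hx.symm.dvd, map_intCast,
          mul_comm (s χ : ℂ)]] at h3
  rw [fm, A.regZ hθ ha fun χ _ => hi χ, A.regZ hθ o fun χ _ => ic_one χ, cl, cl, List.zipWith_map,
    List.zipWith_self, iv_one, Int.cast_sub, ← term_cast θ (A.sg θ) (hi θ) (hi θ), Int.cast_add,
    Int.cast_list_sum, List.map_map]
  simp only [map_neg, map_intCast, div_one, mul_one, map_one] at h3
  push_cast at h3 ⊢
  simp only [Function.comp_def]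
  push_cast
  linear_combination h3

section sym
variable (he : e + 1 = p)
include he

theorem E_eq : ∃ θ, E = [θ] := List.length_eq_one_iff.1 (by
  rw [A.len.2, ← he, Nat.add_sub_cancel,
    Nat.div_self (Nat.pos_of_ne_zero (right_ne_zero_of_mul A.ne0))])

theorem sym_len : (L ++ E).length = e := by
  obtain ⟨θ, rfl⟩ := A.E_eq he
  simpa using A.len.1

theorem sym_sum {M : Type*} [AddCommMonoid M] (F : ℤ → IrrCharacter G → M) {θ : IrrCharacter G}
    (h : θ ∈ E) : ((L ++ E).map fun χ => F (sn L s χ) χ).sum =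
      (L.map fun χ => F (s χ) χ).sum + F (-s θ) θ := by
  have h1 := A.disj h
  obtain ⟨η, rfl⟩ := A.E_eq he
  obtain rfl := List.mem_singleton.1 h
  rw [List.map_append, List.sum_append, List.map_congr_left (l := L) (g := fun χ => F (s χ) χ)
    fun χ hχ => by rw [sn, if_pos hχ]]
  simp [sn, h1]

theorem sym_sing {χ : IrrCharacter G} (h : χ ∈ L ++ E) {g : G} (hg : p ∣ orderOf g) :
    χ.1 g = sn L s χ := by
  rcases List.mem_append.1 h with h | h
  · rw [sn, if_pos h, A.sing h hg]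
  · have h1 := A.singE h hg
    rw [sn, if_neg (A.disj h), Int.cast_neg, ← h1]
    obtain ⟨η, rfl⟩ := A.E_eq he
    obtain rfl := List.mem_singleton.1 h
    simp

theorem sym_reg {g : G} (hg : ¬ p ∣ orderOf g) :
    1 + ((L ++ E).map fun χ => sn L s χ * χ.1 g).sum = 0 := by
  obtain ⟨θ, h⟩ := A.exists_mem_E
  rw [A.sym_sum he (fun σ χ => σ * χ.1 g) h, ← add_assoc, ← A.regE h hg]
  simp

theorem sym_regZ {g : G} (hg : ¬ p ∣ orderOf g) (hi : IC g) :
    1 + ((L ++ E).map fun χ => sn L s χ * iv χ g).sum = 0 := by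
  obtain ⟨θ, h⟩ := A.exists_mem_E
  rw [A.sym_sum he (fun σ χ => σ * iv χ g) h, ← add_assoc, neg_mul, ← A.regZ h hg fun χ _ => hi χ]
  exact add_neg_cancel _

theorem sym_mod {χ : IrrCharacter G} (h : χ ∈ L ++ E) : (p : ℤ) ∣ sn L s χ * dg χ - 1 := by
  obtain ⟨g, hg⟩ := A.exists_ord
  have h1 := iv_cong A.hp (χ := χ) (hg ▸ pow_orderOf_eq_one g) (Commute.one_right g)
    (by rw [mul_one]; exact A.ic he hg χ) (ic_one χ)
  rw [mul_one, iv_one, iv_eq (A.sym_sing he h hg.symm.dvd)] at h1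
  have h2 : sn L s χ = 1 ∨ sn L s χ = -1 := by
    rw [sn]; rcases A.sg χ with e | e <;> split_ifs <;> simp [e]
  rcases h2 with e | e <;> rw [e] at h1 ⊢
  · simpa using h1.neg_right
  · simpa [sub_eq_add_neg, add_comm] using h1

theorem sym_fm {g : G} (hg : ¬ p ∣ orderOf g) (hi : IC g) : fm (Nat.card G) (cl s L 1) (cl s L g) =
    Nat.card G + ((L ++ E).map fun χ => iv χ g ^ 2 * (Nat.card G / (sn L s χ * dg χ))).sum := by
  obtain ⟨θ, h⟩ := A.exists_mem_E
  rw [A.sym_sum he (fun σ χ => iv χ g ^ 2 * (Nat.card G / (σ * dg χ))) h, fm,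
    A.regZ h hg fun χ _ => hi χ, A.regZ h (by simpa using A.hp.one_lt.ne') fun χ _ => ic_one χ,
    cl, cl, List.zipWith_map, List.zipWith_self, sign_mul_self (A.sg θ), neg_mul, Int.ediv_neg,
    iv_one]
  simp only [fun χ => sign_mul_self (A.sg χ), iv_one]
  ring

end sym
end Bk

theorem sn_sign (A : Bk p n e v L E s) (χ : IrrCharacter G) : sn L s χ = 1 ∨ sn L s χ = -1 := by
  rw [sn]; rcases A.sg χ with e | e <;> split_ifs <;> simp [e]

/-- the residues modulo `11` -/
def r11 (d : ℕ) : Bool := [0, 1, 10].contains (d % 11)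

theorem Bk.r11 (A : Bk 11 n 10 1 L E s) (ψ : IrrCharacter G) : r11 (dg ψ) = true := by
  have : dg ψ % 11 = 0 ∨ dg ψ % 11 = 1 ∨ dg ψ % 11 = 10 := by
    by_cases h : ψ = one G
    · simp [h, dg_one]
    by_cases h1 : 11 ∣ dg ψ
    · omega
    have := A.md ψ (A.out rfl ψ h h1)
    rcases A.sg ψ with e | e <;> rw [e] at this <;> omega
  simpa [MN.r11] using this

theorem cc_one : cc (1 : G) = Nat.card G := by
  rw [cc, centralizer_eq_top_iff_subset.2 (by simp), card_top]

theorem nodup_out (A : Bk p n e v L E s) {W : List (IrrCharacter G)} (hW : (one G :: W).Nodup)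
    (h : ∀ χ ∈ W, p ∣ dg χ) : (one G :: (L ++ E ++ W)).Nodup := by
  have := nodup_dv A.nd hW fun _ => A.ndv
  rwa [List.filter_eq_self.2 fun χ hχ => beq_iff_eq.2 (Nat.mod_eq_zero_of_dvd (h χ hχ))] at this

/-- the degrees, with the characters `W` of defect zero held in reserve -/
theorem Bk.degR (A : Bk p n e v L E s) (hp : p ≠ 2) {W : List (IrrCharacter G)}
    (hW : (one G :: W).Nodup) (h : ∀ χ ∈ W, p ∣ dg χ) (flt : ℕ → Bool)
    (hf : ∀ χ ∈ L ++ E, flt (dg χ) = true) :
    Dg (Nat.card G - sq (pr W 1)) p n e flt (cl s L 1) := by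
  have h1 := sq_le (nodup_out A hW h) ic_one
  rw [pr_append, sq_append, A.sq_eq hp (one_mul 1), cc_one] at h1
  exact { A.deg flt hf with sum := by omega }

end H45.MN

namespace H45.M24
open Cfsg H28 H29 H39 H87 Subgroup H45.MO H45.MN
open scoped ComplexConjugate

variable {G : Type*} [Group G] [Fintype G]

theorem nonab [IsSimpleGroup G] (hG : Nat.card G = 244823040) : ¬ IsMulCommutative G :=
  nonabelian_of_card_not_prime (by rw [hG]; norm_num)

theorem col24 [IsSimpleGroup G] (hG : Nat.card G = 244823040) {p n e v : ℕ}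
    {L E : List (IrrCharacter G)} {s : IrrCharacter G → ℤ} (A : Bk p n e v L E s) {a : G}
    (ha : orderOf a = 2) : Cl 244823040 [5, 7, 11, 23] p e v (H45.MN.cl s L 1) (cc a) (H45.MN.cl s L a) :=
  hG ▸ A.col _ (by rw [hG]; simp; norm_num) a ha

theorem dg21 [IsSimpleGroup G] (hG : Nat.card G = 244823040) {χ : IrrCharacter G}
    (h : χ ≠ one G) : 20 < dg χ := by
  have := Fact.mk (by norm_num : Nat.Prime 23)
  have hZ : center G = ⊥ := (IsSimpleGroup.eq_bot_or_eq_top_of_normal _ inferInstance).resolve_right fun e =>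
    nonab hG ⟨⟨fun a b => mem_center_iff.1 (e.ge (mem_top b)) a⟩⟩
  obtain ⟨P⟩ : Nonempty (Sylow 23 G) := inferInstance
  obtain ⟨y, hy, hP⟩ := H43.exists_gen_sylow (m := 10644480) hG (by norm_num) P
  have hc : Nat.card P = 23 := by rw [← hP, Nat.card_zpowers, hy]
  by_contra! hd
  rcases H2.PR.cases (by norm_num) hc (fun hn => by
      rcases IsSimpleGroup.eq_bot_or_eq_top_of_normal _ hn with e | e <;> rw [e] at hc
      · simp at hc
      · rw [card_top, hG] at hc; omega) χ.2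
    (χ.2.charKer_eq_bot_of_simple fun e => h (Subtype.ext e)) (by change dg χ + 1 < 23; omega) rfl
    with ⟨h1, -⟩ | ⟨t, -, h1, -, h2 | ⟨-, -, h2⟩⟩
  · obtain ⟨e⟩ := psl_of_center_bot hZ h1
    have h2 := (Nat.card_le_card_of_surjective _ (QuotientGroup.mk'_surjective
      (center (Matrix.SpecialLinearGroup (Fin 2) (ZMod 23))))).trans
      (Nat.card_le_card_of_injective _ Subtype.val_injective)
    rw [← Nat.card_congr e.toEquiv, hG] at h2
    simp [Matrix, Nat.card_fun] at h2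
  · change dg χ + _ = 23 at h1
    omega
  · simp [hZ] at h2

theorem S5.inner {a b c d ρ : IrrCharacter G} (S : S5 a b c d ρ) {ξ : G → ℂ}
    (h : ∀ g, 5 ∣ orderOf g → ξ g = 0) : classInner ξ (one G).1 + classInner ξ b.1 +
      classInner ξ d.1 = classInner ξ a.1 + classInner ξ c.1 := by
  simp only [← classInner_add_right]
  rw [classInner, classInner]
  refine congrArg _ (Finset.sum_congr rfl fun g _ => ?_)
  by_cases h1 : 5 ∣ orderOf g
  · rw [h g h1, zero_mul, zero_mul]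
  · simp only [Pi.add_apply, ← S.reg g h1]

theorem S5.mul45 {a b c d ρ : IrrCharacter G} (S : S5 a b c d ρ) {β : IrrCharacter G}
    (h : dg β = 45) (g : G) : β.1 g * conj (β.1 g) = 1 + c.1 g := by
  classical
  obtain ⟨v, n, L, E, s, A⟩ : ∃ v, HB G 5 4 v := S.v5.elim (⟨_, ·⟩) (⟨_, ·⟩)
  have hξ : IsCharacter G (β.1 * fun g => conj (β.1 g)) := β.2.isCharacter.mul β.2.isCharacter.conj
  have h1 := S.inner (ξ := β.1 * fun g => conj (β.1 g)) fun g hg => by
    simp [A.zero (χ := β) (by omega) hg]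
  have h2 := degree_mul_conj β β
  have h3 : mlt (β.1 * fun g => conj (β.1 g)) (one G) = 1 :=
    mlt_eq (by rw [← classInner_eq_mul_one, β.2.classInner_self, Nat.cast_one])
  change (β.1 * fun g => conj (β.1 g)) g = _
  rw [h] at h2
  generalize (β.1 * fun g => conj (β.1 g)) = ξ at *
  rw [← coe_mlt hξ, ← coe_mlt hξ, ← coe_mlt hξ, ← coe_mlt hξ, ← coe_mlt hξ] at h1
  have h4 : mlt ξ (one G) + mlt ξ b + mlt ξ d = mlt ξ a + mlt ξ c := by exact_mod_cast h1
  have n1 : one G ≠ c := fun e => by have := S.dc; rw [← e, dg_one] at this; omega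
  have h5 := sum_mlt_le hξ {a}
  have h6 := sum_mlt_le hξ {one G, c}
  rw [Finset.sum_singleton, S.da] at h5
  have h7 := eq_sum_of_le hξ (s := {one G, c})
  rw [Finset.sum_pair n1, S.dc, dg_one] at h6 h7
  rw [h7 (by omega), Finset.sum_pair n1, h3, show mlt ξ c = 1 by omega]
  simp

end H45.M24
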