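/- Interface for the recognition of `M₂₄` by its order, second part
(see `blueprints/MATH-ORD.md`, part M24). -/
import Cfsg.Agent.H45.MK

set_option autoImplicit false

namespace H45.M24
open Cfsg H87 H45.MO H45.MN
open scoped ComplexConjugate

universe u

/-- the `3`-blocks of defect one -/
def JobTri : Prop := ∀ (G : Type u) [Group G] [Fintype G], Nat.card G = 244823040 → Tri G

variable {G : Type u} [Group G] [Fintype G]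

/-- the principal `5`-block `{1, a, b, c, d}` -/
structure S5a (a b c d : IrrCharacter G) : Prop where
  da : dg a = 5544
  db : dg b = 5796
  dc : dg c = 2024
  dd : dg d = 1771
  sing : ∀ g, 5 ∣ orderOf g → a.1 g = -1 ∧ b.1 g = 1 ∧ c.1 g = -1 ∧ d.1 g = 1
  reg : ∀ g, ¬ 5 ∣ orderOf g → 1 + b.1 g + d.1 g = a.1 g + c.1 g
  c7 : ∀ g, 7 ∣ orderOf g → c.1 g = 1

/-- the principal `7`-block `{1, c, ζ, θ, θ'}` for `e₇ = 3` -/
structure S7 (c ζ θ θ' : IrrCharacter G) : Prop where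
  bk : ∃ n v L s, v ∈ [6, 48, 384] ∧ Bk 7 n 3 v L [θ, θ'] s ∧ ∀ χ, χ ∈ L ↔ χ = c ∨ χ = ζ
  dζ : dg ζ = 1035
  dθ : dg θ = 990
  dθ' : dg θ' = 990
  sing : ∀ g, 7 ∣ orderOf g → ζ.1 g = -1 ∧ θ.1 g + θ'.1 g = -1
  reg : ∀ g, ¬ 7 ∣ orderOf g → θ.1 g = 1 + c.1 g - ζ.1 g ∧ θ'.1 g = θ.1 g

/-- the blocks for `5` and `7` -/
def JobP3a : Prop := ∀ (G : Type u) [Group G] [Fintype G] [IsSimpleGroup G],
  Nat.card G = 244823040 → HB G 23 11 1 → HB G 11 10 1 → ∃ a b c d : IrrCharacter G,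
    S5a a b c d ∧ (∃ v ∈ [2, 12, 32, 192], HB G 5 4 v) ∧
      ((∃ ζ θ θ', S7 c ζ θ θ') ∨ ∃ v ∈ [3, 24, 192], HB G 7 6 v)

/-- a character of degree `22` has the value `2` at the elements of order `5` -/
def JobF22 : Prop := ∀ (G : Type u) [Group G] [Fintype G], Nat.card G = 244823040 →
  HB G 11 10 1 → ∀ v, HB G 5 4 v → ∀ χ : IrrCharacter G, dg χ = 22 →
    ∀ f, orderOf f = 5 → χ.1 f = 2

/-- no degree `22` if `|C(f)| = 60` -/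
def JobL12 : Prop := ∀ (G : Type u) [Group G] [Fintype G], HB G 5 4 12 →
  ∀ ρ χ : IrrCharacter G, sS 5 ρ.1 = 0 → sS 5 (fun g => χ.1 g * conj (χ.1 g)) = 1 →
    (∀ g, 5 ∣ orderOf g → ρ.1 g = if 3 ∣ orderOf g then -1 else 2) →
    ¬ ∀ f, orderOf f = 5 → χ.1 f = 2

/-- no degree `22` if `|C(f)| = 960` -/
def JobL192 : Prop := ∀ (G : Type u) [Group G] [Fintype G] [IsSimpleGroup G],
  Nat.card G = 244823040 → HB G 23 11 1 → HB G 11 10 1 → Tri G → HB G 5 4 192 →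
    ∀ a b c d ρ : IrrCharacter G, S5a a b c d → dg ρ = 252 → (∀ f, orderOf f = 5 → ρ.1 f = 2) →
      (∀ χ : IrrCharacter G, dg χ = 22 → ∀ f, orderOf f = 5 → χ.1 f = 2) →
      ((∃ θ : IrrCharacter G, dg θ = 990) ∨ ∃ v ∈ [3, 24, 192], HB G 7 6 v) →
      ∀ χ : IrrCharacter G, dg χ ≠ 22

/-- the `3`-blocks `{β, θ, ψ}`, `{β', θ', ψ'}` and the symmetric square `σ` of `β` -/
structure S45 (ζ θ β β' ψ ψ' σ : IrrCharacter G) : Prop where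
  deg : [β, β', ψ, ψ', σ].map dg = [45, 45, 1035, 1035, 1035]
  nd : [β, β', ζ, ψ, ψ'].Nodup
  nσ : σ ≠ ψ ∧ σ ≠ ψ'
  nl : ∀ χ ∈ [β, β', ψ, ψ'], ¬ Lk χ ζ
  inv : ∀ t : G, t * t = 1 → iv β' t = iv β t ∧ iv ψ t = iv β t + iv θ t ∧ iv ψ' t = iv ψ t ∧
    2 * iv σ t = iv β t ^ 2 + 45

/-- the characters of degree `45` -/
def JobP5a : Prop := ∀ (G : Type u) [Group G] [Fintype G] [IsSimpleGroup G],
  Nat.card G = 244823040 → HB G 23 11 1 → HB G 11 10 1 → Tri G →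
    ∀ a b c d ρ ζ θ θ' : IrrCharacter G, S5 a b c d ρ → S7 c ζ θ θ' →
      ∃ β β' ψ ψ' σ, S45 ζ θ β β' ψ ψ' σ

/-- a wrong principal `11`-block `{1, α, β, β', ζ, ψ, ψ', l, ρ, κ, b}` -/
structure S11x (a b c d ρ α β β' ζ ψ ψ' l κ θ θ' μ : IrrCharacter G) : Prop where
  nd : [one G, α, β, β', ζ, ψ, ψ', l, ρ, κ, b, c, θ, θ', a, d, μ].Nodup
  deg : [α, β, β', ζ, ψ, ψ', l, κ, θ, θ', μ].map dg =
    [276, 45, 45, 1035, 1035, 1035, 3312, 736, 990, 990, 2277]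
  out : ∀ χ, ¬ 11 ∣ dg χ → χ ∈ [one G, α, β, β', ζ, ψ, ψ', l, ρ, κ, b]
  inv : ∀ t : G, t * t = 1 → iv β' t = iv β t ∧ iv c t = iv β t ^ 2 - 1 ∧
    2 * iv ζ t = iv β t ^ 2 + 45 ∧ iv θ t = 1 + iv c t - iv ζ t ∧ iv θ' t = iv θ t ∧
    iv ψ t = iv β t + iv θ t ∧ iv ψ' t = iv ψ t ∧ iv μ t = iv l t - iv ζ t
  r3 : ∀ g, ¬ 3 ∣ orderOf g → ρ.1 g + a.1 g = b.1 g

/-- the wrong block does not occur -/
def JobP5c : Prop := ∀ (G : Type u) [Group G] [Fintype G] [IsSimpleGroup G],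
  Nat.card G = 244823040 → HB G 23 11 1 → HB G 11 10 1 →
    ∀ a b c d ρ α β β' ζ ψ ψ' l κ θ θ' μ : IrrCharacter G, S5 a b c d ρ →
      ¬ S11x a b c d ρ α β β' ζ ψ ψ' l κ θ θ' μ

end H45.M24
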