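/- `M₂₄` by its order: the degrees in a `3`-block of defect one. -/
import Cfsg.Agent.H45.MSpec5

set_option autoImplicit false

namespace H45.M24
open Cfsg H28 H29 H39 H87 H45.MO H45.MN

universe u

variable {G : Type u} [Group G] [Fintype G] {n n1 : ℕ} {L E L1 E1 : List (IrrCharacter G)}
  {s s1 : IrrCharacter G → ℤ}

def d9 : List ℕ :=
  [45, 252, 495, 990, 1035, 2277, 2772, 3312, 4554, 5544, 5796, 6336, 9108, 11385, 12672]

def trs : List (ℕ × ℕ × ℕ) :=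
  [(45, 990, 1035), (252, 5544, 5796), (495, 495, 990), (495, 2277, 2772), (990, 4554, 5544),
    (1035, 2277, 3312), (2277, 2277, 4554), (2277, 9108, 11385), (2772, 2772, 5544),
    (2772, 6336, 9108), (3312, 5796, 9108), (4554, 4554, 9108), (6336, 6336, 12672)]

theorem d9_spec : ((List.range 1739).all fun k => !(244823040 % (9 * k) == 0 && k % 3 != 0 &&
    Nat.blt 2 k && r11 (9 * k) && [0, 1, 11, 12, 22].contains (9 * k % 23)) ||
      d9.contains (9 * k)) = true := by decide +kernel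

theorem trs_spec : ∀ x ∈ d9, ∀ y ∈ d9, x ≤ y → x + y ∈ d9 → (x, y, x + y) ∈ trs := by
  decide +kernel

/-- `x + y = z` on the `3`-regular elements -/
structure T1 (x y z : IrrCharacter G) : Prop where
  nd : x ≠ y
  deg : (dg x, dg y, dg z) ∈ trs
  lk : ∀ χ ∈ [x, y, z], ∀ ψ, ψ ∈ [x, y, z] ↔ Lk χ ψ
  reg : ∀ g, ¬ 3 ∣ orderOf g → x.1 g + y.1 g = z.1 g
  sing : ∀ g, 3 ∣ orderOf g → y.1 g = x.1 g ∧ z.1 g = -x.1 g

/-- `x = y = z` on the `3`-regular elements -/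
structure T2 (x y z : IrrCharacter G) : Prop where
  nd : [x, y, z].Nodup
  dy : dg y = dg x
  dz : dg z = dg x
  lk : ∀ χ ∈ [x, y, z], ∀ ψ, ψ ∈ [x, y, z] ↔ Lk χ ψ
  reg : ∀ g, ¬ 3 ∣ orderOf g → y.1 g = x.1 g ∧ z.1 g = x.1 g
  sing : ∀ g, 3 ∣ orderOf g → x.1 g + y.1 g + z.1 g = 0

theorem T2.of_perm {x y z x' y' z' : IrrCharacter G} (R : Tr x y z)
    (p : [x', y', z'].Perm [x, y, z])
    (h1 : ∀ g, ¬ 3 ∣ orderOf g → y'.1 g = x'.1 g ∧ z'.1 g = x'.1 g)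
    (h2 : ∀ g, 3 ∣ orderOf g → x'.1 g + y'.1 g + z'.1 g = 0) : T2 x' y' z' := by
  have h := h1 1 (by simp)
  simp only [← coe_dg, Nat.cast_inj] at h
  exact ⟨p.nodup_iff.2 R.nd, h.1, h.2, fun χ hχ ψ => p.mem_iff.trans (R.lk χ (p.mem_iff.1 hχ) ψ),
    h1, h2⟩

variable [IsSimpleGroup G] (hG : Nat.card G = 244823040) (A : Bk 23 n 11 1 L E s)
  (B : Bk 11 n1 10 1 L1 E1 s1)
include hG A B

theorem mem_d9 {χ : IrrCharacter G} (h : 9 ∣ dg χ) (h' : ¬ 27 ∣ dg χ) : dg χ ∈ d9 := by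
  obtain ⟨k, hk⟩ := h
  have k3 := dg_sq_le χ
  have k4 := dg21 hG (χ := χ) fun e => by rw [e, dg_one] at hk; omega
  rw [hG] at k3
  have := or_not (List.all_eq_true.1 d9_spec k (List.mem_range.2 (by nlinarith))) (by
    simp only [← hk, Bool.and_eq_true, B.r11 χ, A.r23 χ, and_true, Nat.blt_eq, beq_iff_eq,
      bne_iff_ne]
    exact ⟨⟨Nat.mod_eq_zero_of_dvd (hG ▸ dg_dvd χ), by omega⟩, by omega⟩)
  simpa [hk] using this

theorem tri_cases (T : Tri G) {χ : IrrCharacter G} (h : 9 ∣ dg χ) (h' : ¬ 27 ∣ dg χ) :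
    (∃ x y z, χ ∈ [x, y, z] ∧ T1 x y z) ∨ ∃ y z, T2 χ y z := by
  obtain ⟨x, y, z, h1, R⟩ := T χ h h'
  have m : ∀ ψ ∈ [x, y, z], dg ψ ∈ d9 := fun ψ h => mem_d9 hG A B (R.dv ψ h).1 (R.dv ψ h).2
  have p := List.Perm.swap x y [z]
  rcases R.alt with ⟨h2, h3⟩ | ⟨h2, h3⟩
  · have h4 := h2 1 (by simp)
    simp only [← coe_dg, ← Nat.cast_add, Nat.cast_inj] at h4
    have nd : x ≠ y := fun e => by simpa [e] using R.nd
    left
    rcases le_total (dg x) (dg y) with k | k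
    · exact ⟨x, y, z, h1, nd, h4 ▸ trs_spec _ (m x (by simp)) _ (m y (by simp)) k
        (h4 ▸ m z (by simp)), R.lk, h2, h3⟩
    · rw [add_comm] at h4
      exact ⟨y, x, z, p.mem_iff.2 h1, nd.symm, h4 ▸ trs_spec _ (m y (by simp)) _ (m x (by simp)) k
        (h4 ▸ m z (by simp)), fun χ hχ ψ => p.mem_iff.trans (R.lk χ (p.mem_iff.1 hχ) ψ),
        fun g hg => by rw [add_comm, h2 g hg], fun g hg => by simp [h3 g hg]⟩
  · right
    simp only [List.mem_cons, List.not_mem_nil, or_false] at h1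
    rcases h1 with rfl | rfl | rfl
    · exact ⟨y, z, .of_perm R .rfl h2 h3⟩
    · exact ⟨x, z, .of_perm R p (fun g hg => by simp [h2 g hg]) fun g hg => by
        linear_combination h3 g hg⟩
    · exact ⟨x, y, .of_perm R (List.perm_append_comm (l₁ := [χ]) (l₂ := [x, y]))
        (fun g hg => by simp [h2 g hg]) fun g hg => by linear_combination h3 g hg⟩

end H45.M24
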