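/- `M₂₄` by its order: the `3`-blocks of the characters of degrees `5544` and `5796`. -/
import Cfsg.Agent.H45.M24T
import Cfsg.Agent.H77.M24P4

set_option autoImplicit false
set_option maxRecDepth 100000

namespace H45.M24
open Cfsg H28 H29 H39 H87 H45.MO H45.MN
open scoped ComplexConjugate

universe u

variable {G : Type u} [Group G] [Fintype G] {n n1 n5 v : ℕ}
  {L E L1 E1 L5 E5 : List (IrrCharacter G)} {s s1 s5 : IrrCharacter G → ℤ}
  {a b c d x y z : IrrCharacter G}

theorem s5544 : degs 136809175 23 967680 11 (fun d => Nat.blt 20 d && r11 d)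
    (fun D => Nat.blt (D.count 5544) 3) = true := by decide +kernel

theorem S5a.inner (S : S5a a b c d) (ξ : G → ℂ) : sS 5 ξ = classInner ξ (one G).1 -
    classInner ξ a.1 + classInner ξ b.1 - classInner ξ c.1 + classInner ξ d.1 := by
  simp only [← classInner_add_right, ← classInner_sub_right]
  rw [show (one G).1 - a.1 + b.1 - c.1 + d.1 = ((5 : ℕ) : ℂ) • sg 5 from funext fun g => ?_,
    classInner_smul_right, sS_apply, map_natCast]
  simp only [Pi.add_apply, Pi.sub_apply, Pi.smul_apply, sg, one_apply]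
  split_ifs with h
  · simp only [S.sing g h]
    norm_num
  · rw [smul_zero]
    linear_combination S.reg g h

open Classical in
theorem S5a.irr (S : S5a a b c d) {χ : IrrCharacter G} (h : 9 ∣ dg χ) :
    sS 5 χ.1 = (if χ = b then 1 else 0) - if χ = a then 1 else 0 := by
  have := S.dc
  have := S.dd
  have := dg_one (G := G)
  rw [S.inner, classInner_irr, classInner_irr, classInner_irr, classInner_irr, classInner_irr,
    if_neg (c := χ = one G) (by rintro rfl; omega), if_neg (c := χ = c) (by rintro rfl; omega),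
    if_neg (c := χ = d) (by rintro rfl; omega)]
  ring

theorem S5a.va (S : S5a a b c d) : sS 5 a.1 = -1 := by
  rw [S.irr (by rw [S.da]; norm_num), if_pos rfl, if_neg, zero_sub]
  rintro rfl
  exact absurd (S.da.symm.trans S.db) (by norm_num)

theorem S5a.vb (S : S5a a b c d) : sS 5 b.1 = 1 := by
  rw [S.irr (by rw [S.db]; norm_num), if_pos rfl, if_neg, sub_zero]
  rintro rfl
  exact absurd (S.da.symm.trans S.db) (by norm_num)

theorem S5a.v0 (S : S5a a b c d) {χ : IrrCharacter G} (h : 9 ∣ dg χ) (h1 : χ ≠ a) (h2 : χ ≠ b) :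
    sS 5 χ.1 = 0 := by rw [S.irr h, if_neg h1, if_neg h2, sub_zero]

theorem sS_two (F : Bk 5 n5 4 v L5 E5 s5) {ξ : G → ℂ} {p q : ℂ}
    (h1 : ∀ g, 5 ∣ orderOf g → 3 ∣ orderOf g → ξ g = p)
    (h2 : ∀ g, 5 ∣ orderOf g → ¬ 3 ∣ orderOf g → ξ g = q) :
    sS 5 ξ = q + (p - q) * sS 5 (sg 3 : G → ℂ) := by
  have := F.sS_const (ξ := ξ - (p - q) • sg 3) (c := q) fun g hg => by
    simp only [Pi.sub_apply, Pi.smul_apply, sg]
    split_ifs with h
    · simp [h1 g hg h]
    · simp [h2 g hg h]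
  rw [map_sub, map_smul, smul_eq_mul] at this
  norm_num at this
  linear_combination this

theorem sS_sg (F : Bk 5 n5 4 v L5 E5 s5) (h : ¬ 3 ∣ v) : sS 5 (sg 3 : G → ℂ) = 0 := by
  rw [F.sS_const (ξ := sg 3) (c := 0) fun g hg =>
    if_neg (F.not_both (by norm_num) (by norm_num) h hg), zero_mul]

theorem T1.sS (R : T1 x y z) (F : Bk 5 n5 4 v L5 E5 s5) {k : ℂ}
    (h : ∀ g, 5 ∣ orderOf g → 3 ∣ orderOf g → x.1 g = k) :
    sS 5 x.1 + sS 5 y.1 - sS 5 z.1 = 3 * k * sS 5 (sg 3 : G → ℂ) := by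
  rw [← map_add, ← map_sub, sS_two F (p := 3 * k) (q := 0)
    (fun g h1 h2 => by simp only [Pi.sub_apply, Pi.add_apply, R.sing g h2, h g h1 h2]; ring)
    fun g _ h2 => by simp only [Pi.sub_apply, Pi.add_apply, R.reg g h2, sub_self]]
  ring

theorem T2.sS (R : T2 x y z) (F : Bk 5 n5 4 v L5 E5 s5) {k : ℂ}
    (h : ∀ g, 5 ∣ orderOf g → x.1 g = k) :
    sS 5 x.1 + sS 5 y.1 + sS 5 z.1 = 3 * k * (1 - sS 5 (sg 3 : G → ℂ)) := by
  rw [← map_add, ← map_add, sS_two F (ξ := x.1 + y.1 + z.1) (p := 0) (q := 3 * k)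
    (fun g _ h2 => R.sing g h2)
    fun g h1 h2 => by simp only [Pi.add_apply, R.reg g h2, h g h1]; ring]
  ring

theorem T1.c5544 (R : T1 x y z) (h : a ∈ [x, y, z]) (da : dg a = 5544) :
    (a = y ∧ dg x = 252 ∧ dg z = 5796) ∨ (a = z ∧ dg x = 990 ∧ dg y = 4554) ∨
      (a = z ∧ dg x = 2772 ∧ dg y = 2772) := by
  have := R.deg
  simp only [trs, List.mem_cons, List.not_mem_nil, or_false, Prod.mk.injEq] at h this
  rcases h with rfl | rfl | rfl
  · omega
  · exact .inl ⟨rfl, by omega⟩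
  · simp only [true_and]
    exact .inr (by omega)

theorem T1.c5796 (R : T1 x y z) (h : b ∈ [x, y, z]) (db : dg b = 5796) :
    (b = z ∧ dg x = 252 ∧ dg y = 5544) ∨ (b = y ∧ dg x = 3312 ∧ dg z = 9108) := by
  have := R.deg
  simp only [trs, List.mem_cons, List.not_mem_nil, or_false, Prod.mk.injEq] at h this
  rcases h with rfl | rfl | rfl
  · omega
  · exact .inr ⟨rfl, by omega⟩
  · exact .inl ⟨rfl, by omega⟩

theorem mem_E (A : Bk 23 n 11 1 L E s) {χ : IrrCharacter G} (h : dg χ % 23 = 12) : χ ∈ E :=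
  A.mem_E (by omega) (by omega) fun h1 => by
    obtain ⟨d, h2, h3⟩ := List.mem_map.1 h1
    have := ((A.deg (fun _ => true) fun _ _ => rfl).mem d h2).2.1
    omega

theorem loc_spec : ∀ v ∈ [12, 192], ∀ m ∈ List.range 14, ∀ m' ∈ List.range 14, ∀ k ∈ List.range 8,
    m ∣ v → m' ∣ v → 15 * (k : ℤ) - 53 ∣ 4 * m → ¬ 15 * (k : ℤ) - 52 ∣ 4 * m' := by decide +kernel

variable [IsSimpleGroup G] (hG : Nat.card G = 244823040) (A : Bk 23 n 11 1 L E s)
  (B : Bk 11 n1 10 1 L1 E1 s1) (T : Tri G) (S : S5a a b c d) (F : Bk 5 n5 4 v L5 E5 s5)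
include hG A B T S F

open Classical in
theorem tri_a : (∃ ρ b', T1 ρ a b' ∧ dg ρ = 252 ∧ dg b' = 5796 ∧
      3 * sS 5 (sg 3 : G → ℂ) = 1 + if b' = b then 1 else 0) ∨
    ∃ y z, T2 a y z ∧ 3 * sS 5 (sg 3 : G → ℂ) = 2 := by
  have da := S.da
  have db := S.db
  have ne : ∀ {χ ψ : IrrCharacter G}, dg χ ≠ dg ψ → χ ≠ ψ := fun h e => h (e ▸ rfl)
  obtain ⟨f, hf⟩ := F.exists_ord
  rcases tri_cases hG A B T (χ := a) (by omega) (by omega) with ⟨x, y, z, h, R⟩ | ⟨y, z, R⟩
  · rcases R.c5544 h da with ⟨rfl, h1, h2⟩ | ⟨rfl, h1, h2⟩ | ⟨rfl, h1, h2⟩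
    · refine .inl ⟨x, z, R, h1, h2, ?_⟩
      have := R.sS F (k := -1) fun g k1 k2 => by rw [← (R.sing g k2).1, (S.sing g k1).1]
      rw [S.v0 (by omega) (ne (by omega)) (ne (by omega)), S.va, S.irr (by omega),
        if_neg (c := z = a) (ne (by omega))] at this
      linear_combination this
    · have h3 : ¬ 3 ∣ v := fun h3 => by
        obtain ⟨u, -, -, h4⟩ := F.exists_both (by norm_num) (by norm_num) h3 hf
        have := (R.sing (u * f) (by rw [h4]; norm_num)).2
        rw [(S.sing _ (by rw [h4]; norm_num)).1, F.zero (χ := x) (by omega) (by rw [h4]; norm_num)] at this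
        norm_num at this
      have := R.sS F (k := 0) fun g k1 _ => F.zero (by omega) k1
      rw [S.v0 (by omega) (ne (by omega)) (ne (by omega)), S.v0 (by omega) (ne (by omega))
        (ne (by omega)), S.va] at this
      norm_num at this
    · have h3 := R.reg f (by rw [hf]; norm_num)
      rw [A.uni y (mem_E A (by omega)) x (mem_E A (by omega)) f (by rw [hf]; norm_num),
        (S.sing f hf.symm.dvd).1, ← F.ic rfl hf x] at h3
      have : iv x f + iv x f = -1 := by exact_mod_cast h3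
      omega
  · refine .inr ⟨y, z, R, ?_⟩
    have k := R.sS F fun g hg => (S.sing g hg).1
    have nd := R.nd
    have := R.dy
    have := R.dz
    simp only [List.nodup_cons, List.mem_cons, not_or] at nd
    rw [S.va, S.v0 (by omega) (Ne.symm nd.1.1) (ne (by omega)),
      S.v0 (by omega) (Ne.symm nd.1.2.1) (ne (by omega))] at k
    linear_combination -k

open Classical in
theorem tri_b (hv : v ∈ [12, 192]) : (∃ ρ a', T1 ρ a' b ∧ dg ρ = 252 ∧ dg a' = 5544 ∧
      3 * sS 5 (sg 3 : G → ℂ) = 1 + if a' = a then 1 else 0) ∨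
    ∃ y z, T2 b y z ∧ 3 * sS 5 (sg 3 : G → ℂ) = 2 := by
  have da := S.da
  have db := S.db
  have ne : ∀ {χ ψ : IrrCharacter G}, dg χ ≠ dg ψ → χ ≠ ψ := fun h e => h (e ▸ rfl)
  obtain ⟨f, hf⟩ := F.exists_ord
  rcases tri_cases hG A B T (χ := b) (by omega) (by omega) with ⟨x, y, z, h, R⟩ | ⟨y, z, R⟩
  · rcases R.c5796 h db with ⟨rfl, h1, h2⟩ | ⟨rfl, h1, h2⟩
    · refine .inl ⟨x, y, R, h1, h2, ?_⟩
      have := R.sS F (k := -1) fun g k1 k2 => by
        linear_combination (R.sing g k2).2 - (S.sing g k1).2.1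
      rw [S.v0 (by omega) (ne (by omega)) (ne (by omega)), S.vb, S.irr (by omega),
        if_neg (c := y = b) (ne (by omega))] at this
      linear_combination this
    · exfalso
      have hv' : 3 ∣ v ∧ v ≤ 192 ∧ v ≠ 0 := by
        simp only [List.mem_cons, List.not_mem_nil, or_false] at hv; omega
      obtain ⟨u, h3, h4, h5⟩ := F.exists_both (by norm_num) (by norm_num) hv'.1 hf
      have i := F.ic rfl hf
      have k1 : x.1 (u * f) = (1 : ℤ) := by
        rw [← (R.sing _ (by rw [h5]; norm_num)).1, (S.sing _ (by rw [h5]; norm_num)).2.1, Int.cast_one]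
      have k2 := iv_cong (p := 3) (χ := x) (by norm_num) (h3 ▸ pow_orderOf_eq_one u) h4
        (coe_iv ⟨_, k1⟩) (i x)
      have k3 := iv_cong (p := 5) (χ := x) (y := 1) (by norm_num) (hf ▸ pow_orderOf_eq_one f)
        (Commute.one_right f) (by rw [mul_one]; exact i x) (ic_one x)
      have k4 := R.reg f (by rw [hf]; norm_num)
      rw [(S.sing f hf.symm.dvd).2.1, ← i x, ← i z] at k4
      have k4 : iv x f + 1 = iv z f := by exact_mod_cast k4
      rw [iv_eq k1] at k2
      rw [mul_one, iv_one, h1] at k3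
      obtain ⟨m, m1, m2, m3⟩ := F.loc rfl hf (χ := x) (by omega)
      obtain ⟨m', m1', m2', m3'⟩ := F.loc rfl hf (χ := z) (by omega)
      have m4 : m < 14 := by nlinarith
      have m5 : m ≠ 0 := by rintro rfl; simp at m1; omega
      have m6 := Int.natAbs_le_of_dvd_ne_zero m3 (by omega)
      refine loc_spec v hv m (List.mem_range.2 m4) m' (List.mem_range.2 (by nlinarith))
        ((iv x f + 53) / 15).toNat (List.mem_range.2 (by omega)) m1 m1' ?_ ?_
      · rwa [show 15 * (((iv x f + 53) / 15).toNat : ℤ) - 53 = iv x f by omega]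
      · rwa [show 15 * (((iv x f + 53) / 15).toNat : ℤ) - 52 = iv z f by omega]
  · refine .inr ⟨y, z, R, ?_⟩
    have k := R.sS F fun g hg => (S.sing g hg).2.1
    have nd := R.nd
    have := R.dy
    have := R.dz
    simp only [List.nodup_cons, List.mem_cons, not_or] at nd
    rw [S.vb, S.v0 (by omega) (ne (by omega)) (Ne.symm nd.1.1),
      S.v0 (by omega) (ne (by omega)) (Ne.symm nd.1.2.1)] at k
    linear_combination k

omit T F in
theorem not_T2 {y' z' : IrrCharacter G} (R : T2 a y z) (R' : T2 b y' z') : False := by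
  obtain rfl : n = 967680 :=
    beq_iff_eq.1 (or_res (List.all_eq_true.1 H77.P4.n23 _ (hG ▸ A.mem)) (by simp))
  have da := S.da
  have db := S.db
  have dc := S.dc
  have dd := S.dd
  have := R'.dy
  have := R'.dz
  have o := dg_one (G := G)
  have ne : ∀ {χ ψ : IrrCharacter G}, dg χ ≠ dg ψ → χ ≠ ψ := fun h e => h (e ▸ rfl)
  have nd := R'.nd
  simp only [List.nodup_cons, List.mem_cons, List.not_mem_nil, or_false, not_or] at nd
  have H := A.degR (by norm_num) (W := [b, y', z', c, d]) (by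
    simp only [List.nodup_cons, List.mem_cons, List.not_mem_nil, or_false, not_or, nd, not_false_iff,
      List.nodup_nil, and_true, true_and]
    refine ⟨⟨?_, ?_, ?_, ?_, ?_⟩, ⟨?_, ?_⟩, ⟨?_, ?_⟩, ⟨?_, ?_⟩, ?_⟩ <;> exact ne (by omega))
    (by simp only [List.mem_cons, List.not_mem_nil, or_false]
        rintro _ (rfl | rfl | rfl | rfl | rfl) <;> omega) (fun d => Nat.blt 20 d && r11 d)
    fun χ h => by simpa [B.r11 χ, Nat.blt_eq] using dg21 hG (A.ne_one h)
  simp only [hG, pr, List.map_cons, List.map_nil, iv_one, *] at H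
  have h1 := degs_spec (by norm_num) (by norm_num) H s5544
  rw [Nat.blt_eq, MN.cl, List.count, List.countP_map, List.countP_eq_length_filter] at h1
  refine h1.not_ge (List.subperm_of_subset R.nd fun η hη => ?_).length_le
  rw [List.mem_filter, Function.comp, beq_iff_eq]
  refine H77.P4.mem_L A ?_ (by decide) (by decide)
  have := R.dy
  have := R.dz
  simp only [List.mem_cons, List.not_mem_nil, or_false] at hη
  rcases hη with rfl | rfl | rfl <;> omega

theorem p3b (hv : v ∈ [2, 12, 32, 192]) : ∃ ρ b', T1 ρ a b' ∧ dg ρ = 252 ∧ dg b' = 5796 ∧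
    v ∈ [12, 192] ∧ (b' ≠ b → ∃ a' ρ', a' ≠ a ∧ ρ' ≠ ρ ∧ dg a' = 5544 ∧ dg ρ' = 252) := by
  have h1 := tri_a hG A B T S F
  have hv' : v ∈ [12, 192] := by
    have : 3 ∣ v := by_contra fun h => by
      rw [sS_sg F h] at h1
      rcases h1 with ⟨_, _, -, -, -, h1⟩ | ⟨_, _, -, h1⟩
      · split_ifs at h1 <;> norm_num at h1
      · norm_num at h1
    simp only [List.mem_cons, List.not_mem_nil, or_false] at hv ⊢
    omega
  have da := S.da
  have db := S.db
  rcases h1 with ⟨ρ, b', R, h2, h3, h4⟩ | ⟨y, z, R, h4⟩ <;>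
    rcases tri_b hG A B T S F hv' with ⟨ρ', a', R', k2, k3, k4⟩ | ⟨y', z', R', k4⟩
  · refine ⟨ρ, b', R, h2, h3, hv', fun h => ⟨a', ρ', fun e => ?_, fun e => ?_, k3, k2⟩⟩
    · rw [h4, if_neg h, if_pos e] at k4
      norm_num at k4
    · have := (R.lk ρ (by simp) b).2 (e ▸ (R'.lk ρ' (by simp) b).1 (by simp))
      simp only [List.mem_cons, List.not_mem_nil, or_false] at this
      rcases this with rfl | rfl | rfl
      exacts [by omega, by omega, h rfl]
  · refine ⟨ρ, b', R, h2, h3, hv', fun h => ?_⟩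
    rw [h4, if_neg h] at k4
    norm_num at k4
  · obtain rfl : a' = a := by_contra fun h => by
      rw [h4, if_neg h] at k4
      norm_num at k4
    have := (R.lk a' (by simp) b).2 ((R'.lk a' (by simp) b).1 (by simp))
    have := R.dy
    have := R.dz
    simp only [List.mem_cons, List.not_mem_nil, or_false] at *
    rcases ‹b = _ ∨ _› with rfl | rfl | rfl <;> omega
  · exact (not_T2 hG A B S R R').elim

end H45.M24
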