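/- `M₂₄` by its order: the data `S5` and the principal `11`-block. -/
import Cfsg.Agent.H45.M24a

set_option autoImplicit false
set_option maxRecDepth 100000

namespace H45.M24
open Cfsg H28 H29 H39 H87 H45.MO H45.MN
open scoped ComplexConjugate

universe u

variable {G : Type u} [Group G] [Fintype G] {n n1 n5 v : ℕ}
  {L E L1 E1 L5 E5 : List (IrrCharacter G)} {s s1 s5 : IrrCharacter G → ℤ}
  {a b c d ρ ζ θ θ' β β' ψ ψ' σ l μ p q : IrrCharacter G}

theorem S5a.norm22 (S : S5a a b c d) {χ : IrrCharacter G} (h : dg χ = 22) :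
    sS 5 (fun g => χ.1 g * conj (χ.1 g)) = 1 := by
  have hξ : IsCharacter G (χ.1 * fun g => conj (χ.1 g)) := χ.2.isCharacter.mul χ.2.isCharacter.conj
  have h2 := degree_mul_conj χ χ
  have h3 : mlt (χ.1 * fun g => conj (χ.1 g)) (one G) = 1 :=
    mlt_eq (by rw [← classInner_eq_mul_one, χ.2.classInner_self, Nat.cast_one])
  change sS 5 (χ.1 * fun g => conj (χ.1 g)) = 1
  rw [h] at h2
  generalize (χ.1 * fun g => conj (χ.1 g)) = ξ at *
  have k : ∀ η : IrrCharacter G, 484 < dg η → mlt ξ η = 0 := fun η hη => by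
    have := sum_mlt_le hξ {η}
    rw [Finset.sum_singleton, h2] at this
    by_contra e
    have := Nat.mul_le_mul_right (dg η) (Nat.pos_of_ne_zero e)
    omega
  rw [S.inner, ← coe_mlt hξ, ← coe_mlt hξ, ← coe_mlt hξ, ← coe_mlt hξ, ← coe_mlt hξ, h3,
    k a (by rw [S.da]; norm_num), k b (by rw [S.db]; norm_num), k c (by rw [S.dc]; norm_num),
    k d (by rw [S.dd]; norm_num)]
  simp

def x11 : List ℕ := [23, 45, 230, 252, 276, 483, 540, 736, 1024, 1035, 1242, 1288, 2760, 3024,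
  3312, 3840, 4830, 5796, 7360, 8832, 12420, 12880, 15456]

def sd (d : ℕ) : ℤ := if d % 11 = 1 then d else -d

theorem x11_spec : ((List.range 15647).all fun k => !(244823040 % k == 0 && k % 11 != 0 &&
    Nat.blt 20 k && r11 k && [0, 1, 11, 12, 22].contains (k % 23)) || x11.contains k) = true := by
  decide +kernel

theorem x11_sum : ∀ x ∈ x11, sd x ≠ 782 ∧ ∀ y ∈ x11, sd x + sd y ≠ 2807 ∧
    (sd x + sd y = -460 → x * x + y * y ≤ 244823040 →
      (x, y) ∈ [(23, 483), (483, 23), (276, 736), (736, 276), (230, 230)]) := by decide +kernel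

theorem sn_eq (B : Bk 11 n1 10 1 L1 E1 s1) {χ : IrrCharacter G} (h : χ ∈ L1 ++ E1) :
    sn L1 s1 χ = if dg χ % 11 = 1 then 1 else -1 := by
  have := B.sym_mod rfl h
  rcases sn_sign B χ with e | e <;> rw [e] at this ⊢ <;> split_ifs <;> omega

theorem rest (B : Bk 11 n1 10 1 L1 E1 s1) {W : List (IrrCharacter G)} (hW : W.Nodup)
    (h : ∀ χ ∈ W, dg χ ≠ 1 ∧ ¬ 11 ∣ dg χ) : ∃ R, (W ++ R).Perm (L1 ++ E1) ∧
      W.length + R.length = 10 ∧ 1 + ((W.map dg).map sd).sum + ((R.map dg).map sd).sum = 0 := by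
  classical
  have hR := List.subperm_append_diff_self_of_count_le (List.subperm_ext_iff.1
    (List.subperm_of_subset hW fun χ hχ => B.out rfl χ (fun e => (h χ hχ).1 (e ▸ dg_one)) (h χ hχ).2))
  generalize (L1 ++ E1).diff W = R at hR
  refine ⟨R, hR, by rw [← List.length_append, hR.length_eq, B.sym_len rfl], ?_⟩
  rw [← B.sym_regZ rfl (g := 1) (by simp) ic_one, add_assoc, ← List.sum_append, ← List.map_append,
    ← List.map_append, ((hR.map _).map _).sum_eq, List.map_map]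
  refine congrArg (1 + List.sum ·) (List.map_congr_left fun χ hχ => ?_)
  rw [sn_eq B hχ, iv_one, Function.comp, sd]
  split_ifs <;> simp

variable [IsSimpleGroup G] (hG : Nat.card G = 244823040) (A : Bk 23 n 11 1 L E s)
  (B : Bk 11 n1 10 1 L1 E1 s1) (T : Tri G)
include hG A B

theorem mem_x11 {χ : IrrCharacter G} (h : χ ∈ L1 ++ E1) : dg χ ∈ x11 := by
  have k3 := dg_sq_le χ
  rw [hG] at k3
  simpa using or_not (List.all_eq_true.1 x11_spec (dg χ) (List.mem_range.2 (by nlinarith))) (by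
    simp only [Bool.and_eq_true, B.r11 χ, A.r23 χ, and_true, Nat.blt_eq, beq_iff_eq, bne_iff_ne]
    exact ⟨⟨Nat.mod_eq_zero_of_dvd (hG ▸ dg_dvd χ), fun e => B.ndv h (Nat.dvd_of_mod_eq_zero e)⟩,
      dg21 hG (B.ne_one h)⟩)

include T

theorem exists_s5 (J1 : JobF22.{u}) (J2 : JobL12.{u}) (J3 : JobL192.{u}) (S : S5a a b c d)
    (hv : v ∈ [2, 12, 32, 192]) (F : Bk 5 n5 4 v L5 E5 s5)
    (h7 : (∃ θ : IrrCharacter G, dg θ = 990) ∨ ∃ v ∈ [3, 24, 192], HB G 7 6 v) :
    ∃ ρ, S5 a b c d ρ := by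
  obtain ⟨ρ, b', R, h1, h2, h3, h4⟩ := p3b hG A B T S F hv
  simp only [List.mem_cons, List.not_mem_nil, or_false] at h3
  refine ⟨ρ, S.da, S.db, S.dc, S.dd, h1, S.sing, S.reg, S.c7,
    h3.imp (fun e => ⟨_, _, _, _, e ▸ F⟩) fun e => ⟨_, _, _, _, e ▸ F⟩, b', h2, R.reg, ?_, h4⟩
  rintro rfl χ hχ
  have k : ∀ g, 5 ∣ orderOf g → ρ.1 g = if 3 ∣ orderOf g then -1 else 2 := fun g hg => by
    split_ifs with h
    · rw [← (R.sing g h).1, (S.sing g hg).1]
    · linear_combination R.reg g h - (S.sing g hg).1 + (S.sing g hg).2.1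
  have j := J1 G hG ⟨_, _, _, _, B⟩ v ⟨_, _, _, _, F⟩
  have da := S.da
  rcases h3 with rfl | rfl
  · exact J2 G ⟨_, _, _, _, F⟩ ρ χ (S.v0 (by omega) (by rintro rfl; omega) (by rintro rfl; omega))
      (S.norm22 hχ) k (j χ hχ)
  · exact J3 G hG ⟨_, _, _, _, A⟩ ⟨_, _, _, _, B⟩ T ⟨_, _, _, _, F⟩ a b' c d ρ S h1
      (fun f hf => by rw [k f hf.symm.dvd, hf, if_neg (by norm_num)]) j h7 χ hχ

theorem tri_ζ (S : S5 a b c d ρ) (S' : S7 c ζ θ θ') (U : S45 ζ θ β β' ψ ψ' σ) :
    ∃ μ l, T1 ζ μ l ∧ dg μ = 2277 ∧ dg l = 3312 := by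
  have db := S.db
  have dρ := S.dρ
  have dζ := S'.dζ
  have deg := U.deg
  have nd := U.nd
  have nl := U.nl
  have ne : ∀ {χ ψ : IrrCharacter G}, dg χ ≠ dg ψ → χ ≠ ψ := fun h e => h (e ▸ rfl)
  simp only [List.map_cons, List.map_nil, List.cons.injEq, and_true, List.nodup_cons, List.mem_cons,
    List.not_mem_nil, or_false, not_or, not_false_iff, List.nodup_nil, forall_eq_or_imp,
    forall_eq] at deg nd nl
  obtain ⟨d1, d2, d3, d4, -⟩ := deg
  rcases tri_cases hG A B T (χ := ζ) (by omega) (by omega) with ⟨x, y, z, h, R⟩ | ⟨y, z, R⟩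
  · have k := R.deg
    have lk := (R.lk x (by simp) ζ).1 h
    simp only [trs, List.mem_cons, List.not_mem_nil, or_false, Prod.mk.injEq] at h k
    rcases h with rfl | rfl | rfl
    · exact ⟨y, z, R, by omega⟩
    · omega
    have dx : dg x = 45 := by omega
    clear k
    obtain ⟨W, h1, h2, h3⟩ := rest B (W := [x, β, β', ζ, ψ, ψ', ρ, b]) (by
      simp only [List.nodup_cons, List.mem_cons, List.not_mem_nil, or_false, not_or, nd,
        not_false_iff, List.nodup_nil, and_true, true_and]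
      refine ⟨⟨fun e => nl.1 (e ▸ lk), fun e => nl.2.1 (e ▸ lk), ?_⟩, ?_⟩ <;>
        and_intros <;> exact ne (by omega)) (by simp [*])
    obtain ⟨p, q, rfl⟩ := List.length_eq_two.1 (show W.length = 2 by simp at h2; omega)
    refine absurd ?_ ((x11_sum _ (mem_x11 hG A B (h1.subset (a := p) (by simp)))).2 _
      (mem_x11 hG A B (h1.subset (a := q) (by simp)))).1
    simp only [List.map_cons, List.map_nil, List.sum_cons, List.sum_nil, *] at h3
    norm_num [sd] at h3 ⊢
    omega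
  · have dy := R.dy
    have dz := R.dz
    have k := R.nd
    have ly := (R.lk y (by simp) ζ).1 (by simp)
    have lz := (R.lk z (by simp) ζ).1 (by simp)
    simp only [List.nodup_cons, List.mem_cons, List.not_mem_nil, or_false, not_or] at k
    obtain ⟨W, h1, h2, h3⟩ := rest B (W := [y, z, ψ, ψ', ζ, β, β', ρ, b]) (by
      simp only [List.nodup_cons, List.mem_cons, List.not_mem_nil, or_false, not_or, nd, k,
        not_false_iff, List.nodup_nil, and_true, true_and]
      refine ⟨⟨fun e => nl.2.2.1 (e ▸ ly), fun e => nl.2.2.2 (e ▸ ly), Ne.symm k.1.1, ?_⟩,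
        ⟨fun e => nl.2.2.1 (e ▸ lz), fun e => nl.2.2.2 (e ▸ lz), Ne.symm k.1.2, ?_⟩,
        ⟨Ne.symm nd.2.2.1.1, ?_⟩, ⟨Ne.symm nd.2.2.1.2, ?_⟩, ?_⟩ <;>
        and_intros <;> exact ne (by omega)) (by simp [*])
    obtain ⟨p, rfl⟩ := List.length_eq_one_iff.1 (show W.length = 1 by simp at h2; omega)
    refine absurd ?_ (x11_sum _ (mem_x11 hG A B (h1.subset (a := p) (by simp)))).1
    simp only [List.map_cons, List.map_nil, List.sum_cons, List.sum_nil, *] at h3
    norm_num [sd] at h3 ⊢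
    omega

theorem exists_s11 (J : JobP5c.{u}) (S : S5 a b c d ρ) (S' : S7 c ζ θ θ')
    (U : S45 ζ θ β β' ψ ψ' σ) : ∃ α l κ, S11 b c ρ α β β' ζ ψ ψ' l κ θ θ' := by
  obtain ⟨μ, l, R, dμ, dl⟩ := tri_ζ hG A B T S S' U
  obtain ⟨n7, v7, L7, s7, hv7, C, -⟩ := S'.bk
  obtain ⟨v, hv, n5, L5, E5, s5, F⟩ : ∃ v, 3 ∣ v ∧ HB G 5 4 v :=
    S.v5.elim (⟨_, by norm_num, ·⟩) (⟨_, by norm_num, ·⟩)
  have da := S.da
  have db := S.db
  have dc := S.dc
  have dd := S.dd
  have dρ := S.dρ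
  have dζ := S'.dζ
  have dθ := S'.dθ
  have dθ' := S'.dθ'
  have o := dg_one (G := G)
  have deg := U.deg
  have nd := U.nd
  have nθ : θ ≠ θ' := by simpa using C.nd.of_cons.of_append_right
  have ne : ∀ {χ ψ : IrrCharacter G}, dg χ ≠ dg ψ → χ ≠ ψ := fun h e => h (e ▸ rfl)
  simp only [List.map_cons, List.map_nil, List.cons.injEq, and_true, List.nodup_cons, List.mem_cons,
    List.not_mem_nil, or_false, not_or, not_false_iff, List.nodup_nil] at deg nd
  obtain ⟨d1, d2, d3, d4, d5⟩ := deg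
  obtain ⟨W, h1, h2, h3⟩ := rest B (W := [β, β', ζ, ψ, ψ', l, ρ, b]) (by
    simp only [List.nodup_cons, List.mem_cons, List.not_mem_nil, or_false, not_or, nd,
      not_false_iff, List.nodup_nil, and_true, true_and]
    and_intros <;> exact ne (by omega)) (by simp [*])
  obtain ⟨p, q, rfl⟩ := List.length_eq_two.1 (show W.length = 2 by simp at h2; omega)
  have pq : p ≠ q := by simpa using (h1.nodup_iff.2 B.nd.of_cons).of_append_right
  have mp := h1.subset (a := p) (by simp)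
  have mq := h1.subset (a := q) (by simp)
  have h4 := ((x11_sum _ (mem_x11 hG A B mp)).2 _ (mem_x11 hG A B mq)).2 (by
    simp only [List.map_cons, List.map_nil, List.sum_cons, List.sum_nil, *] at h3
    norm_num [sd] at h3 ⊢
    omega) (by
    have := sq_le (L := [p, q]) (by simpa [pq] using ⟨(B.ne_one mp).symm, (B.ne_one mq).symm⟩) ic_one
    simp only [cc_one, hG, MN.sq, pr, List.map_cons, List.map_nil, List.sum_cons, List.sum_nil, iv_one,
      s2, Int.natAbs_natCast, Nat.mul_eq] at this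
    omega)
  have out : ∀ χ, ¬ 11 ∣ dg χ → χ ∈ [one G, p, β, β', ζ, ψ, ψ', l, ρ, q, b] ∧
      χ ∈ [one G, q, β, β', ζ, ψ, ψ', l, ρ, p, b] := fun χ h => by
    by_cases e : χ = one G
    · simp [e]
    have := h1.symm.subset (B.out rfl χ e h)
    simp only [List.mem_append, List.mem_cons, List.not_mem_nil, or_false] at this ⊢
    tauto
  have h5 : dg p ≠ 1035 ∧ dg p ≠ 5796 ∧ dg q ≠ 1035 ∧ dg q ≠ 5796 := by
    simp only [List.mem_cons, List.not_mem_nil, or_false, Prod.mk.injEq] at h4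
    omega
  obtain ⟨b', db', r3, n22, -⟩ := S.tri
  obtain rfl : b' = b := by
    have := (out b' (by omega)).1
    simp only [List.mem_cons, List.not_mem_nil, or_false] at this
    rcases this with rfl | rfl | rfl | rfl | rfl | rfl | rfl | rfl | rfl | rfl | rfl <;>
      first | rfl | omega
  obtain rfl : σ = ζ := by
    have := (out σ (by omega)).1
    simp only [List.mem_cons, List.not_mem_nil, or_false, U.nσ, false_or] at this
    rcases this with rfl | rfl | rfl | rfl | rfl | rfl | rfl | rfl | rfl <;> first | rfl | omega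
  have inv : ∀ t : G, t * t = 1 → iv β' t = iv β t ∧ iv c t = iv β t ^ 2 - 1 ∧
      2 * iv σ t = iv β t ^ 2 + 45 ∧ iv θ t = 1 + iv c t - iv σ t ∧ iv θ' t = iv θ t ∧
      iv ψ t = iv β t + iv θ t ∧ iv ψ' t = iv ψ t ∧ iv μ t = iv l t - iv σ t := fun t ht => by
    obtain ⟨k1, k2, k3, k4⟩ := U.inv t ht
    have i := ic_inv ht
    have k5 := S.mul45 d1 t
    have k6 := S'.reg t (reg2 (by norm_num) (by norm_num) ht)
    have k7 := R.reg t (reg2 (by norm_num) (by norm_num) ht)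
    simp only [← i _, map_intCast] at k5 k6 k7
    norm_cast at k5 k6 k7
    exact ⟨k1, by linear_combination -k5, k4, k6.1, k6.2, k2, k3, by linear_combination k7⟩
  have fin : ∀ α κ, dg α = 23 → dg κ = 483 →
      (∀ χ, ¬ 11 ∣ dg χ → χ ∈ [one G, α, β, β', σ, ψ, ψ', l, ρ, κ, b']) →
      S11 b' c ρ α β β' σ ψ ψ' l κ θ θ' := fun α κ k1 k2 k3 => by
    refine ⟨?_, by simp [*], k3, n22 rfl, fun g hg => (S.sing g hg).2.1, fun t ht => ?_, ?_⟩
    · clear h4 h5
      simp only [List.nodup_cons, List.mem_cons, List.not_mem_nil, or_false, not_or, nd, nθ,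
        not_false_iff, List.nodup_nil, and_true, true_and]
      and_intros <;> exact ne (by omega)
    · have := inv t ht
      tauto
    · simp only [List.mem_cons, List.not_mem_nil, or_false] at hv7
      rcases hv7 with rfl | rfl | rfl
      exacts [.inl ⟨_, _, _, _, C⟩, .inr (.inl ⟨_, _, _, _, C⟩), .inr (.inr ⟨_, _, _, _, C⟩)]
  have bad : ∀ α κ, dg α = 276 → dg κ = 736 →
      ¬ ∀ χ, ¬ 11 ∣ dg χ → χ ∈ [one G, α, β, β', σ, ψ, ψ', l, ρ, κ, b'] := fun α κ k1 k2 k3 => by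
    refine J G hG ⟨_, _, _, _, A⟩ ⟨_, _, _, _, B⟩ a b' c d ρ α β β' σ ψ ψ' l κ θ θ' μ S
      ⟨?_, by simp [*], k3, inv, r3⟩
    clear h4 h5
    simp only [List.nodup_cons, List.mem_cons, List.not_mem_nil, or_false, not_or, nd, nθ,
      not_false_iff, List.nodup_nil, and_true, true_and]
    and_intros <;> exact ne (by omega)
  simp only [List.mem_cons, List.not_mem_nil, or_false, Prod.mk.injEq] at h4
  rcases h4 with k | k | k | k | ⟨k1, k2⟩
  · exact ⟨p, l, q, fin p q k.1 k.2 fun χ h => (out χ h).1⟩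
  · exact ⟨q, l, p, fin q p k.2 k.1 fun χ h => (out χ h).2⟩
  · exact (bad p q k.1 k.2 fun χ h => (out χ h).1).elim
  · exact (bad q p k.2 k.1 fun χ h => (out χ h).2).elim
  obtain ⟨f, hf⟩ := F.exists_ord
  obtain ⟨u, h3, h4, h5⟩ := F.exists_both (by norm_num) (by norm_num) hv hf
  have i := F.ic rfl hf
  have z : ∀ χ : IrrCharacter G, 5 ∣ dg χ → iv χ f = 0 := fun χ h =>
    iv_eq (by rw [F.zero h hf.symm.dvd, Int.cast_zero])
  have e1 : l.1 (u * f) = (0 : ℤ) := by
    rw [(R.sing _ (by rw [h5]; norm_num)).2, F.zero (by omega) (by rw [h5]; norm_num)]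
    simp
  have e2 := iv_cong (p := 3) (χ := l) (by norm_num) (h3 ▸ pow_orderOf_eq_one u) h4
    (coe_iv ⟨_, e1⟩) (i l)
  have e3 := r3 f (by rw [hf]; norm_num)
  rw [(S.sing f hf.symm.dvd).1, (S.sing f hf.symm.dvd).2.1, ← i] at e3
  have e4 : iv b' f = 1 := iv_eq (by rw [(S.sing f hf.symm.dvd).2.1, Int.cast_one])
  have e5 := B.sym_regZ rfl (g := f) (by rw [hf]; norm_num) i
  rw [List.map_congr_left fun χ hχ => by rw [sn_eq B hχ], ← (h1.map _).sum_eq] at e5
  simp only [List.map_append, List.map_cons, List.map_nil, List.sum_append, List.sum_cons,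
    List.sum_nil, z β (by omega), z β' (by omega), z σ (by omega), z ψ (by omega), z ψ' (by omega),
    z p (by omega), z q (by omega), dl, dρ, db, e4] at e5
  rw [iv_eq e1] at e2
  norm_cast at e3
  norm_num at e5
  omega

end H45.M24
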