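/- Tower DP3, job SB: a normal simple subgroup of order `168` and odd index. -/
import Cfsg.Agent.H48.DP3Spec
import Cfsg.Agent.H98.FStarP
import Cfsg.Agent.H44.L168a
import Cfsg.Agent.H2.CoreFree
import Cfsg.Agent.H87.Simple
import Cfsg.Agent.H5.Supersolv
import Cfsg.Agent.H46.Misc
import Cfsg.Agent.S0102
import Cfsg.Agent.S0205

set_option autoImplicit false

namespace H45.DPB

open Subgroup Cfsg H98 H97 H48.DP
open scoped commutatorElement

universe u

variable {X : Type u} [Group X] [Finite X] {K Y : Subgroup X}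

theorem kill (h2 : pCore 2 X = ⊥) (hI : H48.DP.Inv X) (hY : IsPGroup 2 Y) (h3 : Y ≤ Ce (pCore 3 X))
    (hE : layer X ≤ Ce Y) : Y = ⊥ := by
  refine eq_bot_of_centralizes_fstar h2 hY (le_centralizer_iff.1 (sup_le hE ?_))
  rw [H2.fitting_eq_iSup_pCore, iSup_le_iff]
  rintro ⟨p, hp⟩
  have := Fact.mk hp
  obtain rfl | rfl | h : p = 2 ∨ p = 3 ∨ 3 < p := by have := hp.two_le; omega
  · exact h2.le.trans bot_le
  · exact le_centralizer_iff.1 h3
  · exact le_centralizer_iff.1 (hI p hp h Y _ hY (isPGroup_pCore p X) le_normalizer_of_normal)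

theorem exists_comp (h2 : pCore 2 X = ⊥) (hI : H48.DP.Inv X) (h3 : C3 X) (hs : ¬ Group.IsSolvable X) :
    ∃ K : Subgroup X, IsComponent K := by
  by_contra hn
  obtain ⟨T, hT⟩ := exists_isSyl 2 (commutator X)
  have := h3 _ (isPGroup_pCore 3 X)
  have h0 := hT.card_eq
  rw [kill h2 hI hT.2.1 (hT.le.trans (H5.commutator_le_centralizer_of_isCyclic _))
    ((H14.layer_eq_bot_iff_not_hasComponent.2 hn).le.trans bot_le), card_bot, eq_comm,
    Nat.pow_eq_one, or_iff_right (by decide), Nat.factorization_eq_zero_iff] at h0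
  have := Cfsg.Agent.S0205.result (G := commutator X) (Nat.not_even_iff_odd.1 fun h => by
    simp [Nat.prime_two, h.two_dvd, Nat.card_pos.ne'] at h0)
  exact hs (solvable_of_ker_le_range (commutator X).subtype Abelianization.of (by simp))

theorem comp_card (h : K168 X) (hK : IsComponent K) :
    Nat.card (K ⧸ center K) = 168 ∧ IsPGroup 2 (center K) := by
  have c := h K (center K) hK.2.2 (H14.quasi_quotient_not_comm hK.2)
  have p1 : commutator K = ⊤ := hK.2.1.commutator_eq_top
  refine ⟨c, IsPGroup.of_card (Nat.eq_prime_pow_of_unique_prime_dvd Nat.card_pos.ne'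
    fun {p} hp hd => by_contra fun h2 => ?_)⟩
  have := Fact.mk hp
  refine Cfsg.Agent.S0102.result (p := p) ?_ (fun P => ?_) (QuotientGroup.mk' (center K))
    (QuotientGroup.mk'_surjective _) (QuotientGroup.ker_mk' _).le p1 (by rwa [QuotientGroup.ker_mk'])
  · rw [commutator_def, ← MonoidHom.range_eq_top.2 (QuotientGroup.mk'_surjective (center K)),
      MonoidHom.range_eq_map, ← map_commutator, ← commutator_def, p1]
  · obtain ⟨n, hn⟩ := IsPGroup.iff_card.1 P.isPGroup'
    have h1 := (P : Subgroup (K ⧸ center K)).card_subgroup_dvd_card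
    refine isCyclic_of_card_dvd_prime (p := p) ?_
    rw [hn, c] at *
    rcases n with _ | _ | n
    · simp
    · simp
    have h4 : p * p ∣ 168 := (Dvd.intro_left (p ^ n) (by ring)).trans h1
    have h5 : p ≤ 13 := by nlinarith [Nat.le_of_dvd (by norm_num) h4]
    have := hp.two_le
    interval_cases p <;> first | omega | exact absurd hp (by norm_num)

theorem exists_three (h : K168 X) (hK : IsComponent K) : ∃ x ∈ K, orderOf x = 3 := by
  obtain ⟨x, hx⟩ := exists_prime_orderOf_dvd_card' (G := K) 3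
    (.trans (by rw [(comp_card h hK).1]; norm_num) (card_quotient_dvd_card (center K)))
  exact ⟨x, x.2, (orderOf_coe x).trans hx⟩

theorem no_three (h3 : C3 X) (h : K168 X) (hK : IsComponent K) {y : X} (hy : orderOf y = 3)
    (hc : y ∈ Ce K) : False := by
  obtain ⟨x, hx, ox⟩ := exists_three h hK
  have zp : ∀ {w : X}, orderOf w = 3 → IsPGroup 3 (zpowers w) := fun hw =>
    IsPGroup.of_card (n := 1) (by rw [Nat.card_zpowers, hw]; rfl)
  have c : zpowers y ≤ Ce (zpowers x) :=
    (zpowers_le.2 hc).trans (centralizer_le (zpowers_le.2 hx))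
  have hB := (zp hy).to_sup_of_normal_right' (zp ox) (c.trans (centralizer_le_normalizer _))
  have h1 : x ∈ zpowers y := H46.eq_of_cyclic_of_card_eq (h3 _ hB) le_sup_right le_sup_left
    (by rw [Nat.card_zpowers, Nat.card_zpowers, hy, ox]) ▸ mem_zpowers x
  obtain ⟨n, hn⟩ := (comp_card h hK).2 ⟨⟨x, hx⟩, mem_center_iff.2 fun g =>
    Subtype.ext (zpowers_le.2 hc h1 g g.2)⟩
  have h4 : 3 ∣ 2 ^ n := ox ▸ orderOf_dvd_of_pow_eq_one
    (congrArg (fun a : center K => ((a : K) : X)) hn)
  exact absurd (Nat.prime_three.dvd_of_dvd_pow h4) (by decide)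

theorem comp_eq (h3 : C3 X) (h : K168 X) (hK : IsComponent K) (hY : IsComponent Y) : Y = K :=
  (H14.comp_eq_or_commute hY hK).resolve_right fun hc => by
    obtain ⟨y, hy, oy⟩ := exists_three h hY
    exact no_three h3 h hK oy (commutator_eq_bot_iff_le_centralizer.1 hc hy)

theorem cent_of_seven [IsSimpleGroup K] (hI : H48.DP.Inv X) (hK : ¬ IsMulCommutative K)
    (c : Nat.card K = 168) {A : Subgroup X}
    (hA : A ≤ K) (cA : Nat.card A = 7) (hY : IsPGroup 2 Y) (hn : Y ≤ No K) (hc : A ≤ Ce Y) :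
    K ≤ Ce Y := by
  by_contra hne
  have := Fact.mk (show Nat.Prime 7 by norm_num)
  have h1 := H2.card_modEq_card_inf_centralizer hY hn
  have h2 := card_dvd_of_le (le_inf hA hc)
  have h3 := H46.card_mul_relIndex (inf_le_left : K ⊓ Ce Y ≤ K)
  have h4 := H87.two_mul_card_dvd_factorial hK ((K ⊓ Ce Y).subgroupOf K) fun e =>
      hne ((subgroupOf_eq_top.1 e).trans inf_le_right)
  rw [c] at h1 h3 h4
  rw [cA] at h2
  change 2 * 168 ∣ Nat.factorial ((K ⊓ Ce Y).relIndex K) at h4
  have h5 : 7 ≤ (K ⊓ Ce Y).relIndex K :=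
    (this.out.dvd_factorial).1 (.trans (by norm_num) h4)
  obtain ⟨m, hm⟩ : 14 ∣ Nat.card ↥(K ⊓ Ce Y) :=
    (show Nat.Coprime 2 7 by norm_num).mul_dvd_of_dvd_of_dvd ((h1.dvd_iff dvd_rfl).1 (by norm_num)) h2
  have h6 : Nat.card ↥(K ⊓ Ce Y) = 14 := by
    rw [hm] at h3 ⊢
    have : m * (K ⊓ Ce Y).relIndex K = 12 := by linarith
    rcases m with _ | _ | m
    · simp at this
    · rfl
    · nlinarith
  have h7 := H46.card_mul_relIndex (le_inf hA hc)
  rw [cA, h6] at h7
  have h8 := (normal_subgroupOf_iff_le_normalizer (le_inf hA hc)).1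
    (normal_of_index_eq_two (show A.relIndex (K ⊓ Ce Y) = 2 by omega))
  obtain ⟨t, ht⟩ := exists_prime_orderOf_dvd_card' (G := ↥(K ⊓ Ce Y)) 2 (by rw [h6]; norm_num)
  obtain ⟨a, ha⟩ := exists_prime_orderOf_dvd_card' (G := A) 7 cA.symm.dvd
  rw [← orderOf_coe] at ht ha
  have h9 : Commute (a : X) t := hI 7 this.out (by norm_num) (zpowers (t : X)) A
    (IsPGroup.of_card (n := 1) (by rw [Nat.card_zpowers, ht]; rfl))
    (IsPGroup.of_card (n := 1) cA) ((zpowers_le.2 t.2).trans h8) (mem_zpowers _) a a.2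
  have := H44.L168.ord_cases c ⟨a * t, mul_mem (hA a.2) t.2.1⟩
  rw [orderOf_mk, h9.orderOf_mul_eq_mul_orderOf_of_coprime (by rw [ha, ht]; norm_num), ha, ht] at this
  omega

theorem jobSB : JobSB.{u} := fun X _ _ h2 hI h3 h hs => by
  obtain ⟨K, hK⟩ := exists_comp h2 hI h3 hs
  have hn : K.Normal := ⟨fun k hk g =>
    (comp_eq h3 h hK (H14.comp_map_mulEquiv hK (MulAut.conj g))).le ⟨k, hk, rfl⟩⟩
  obtain ⟨c, cz⟩ := comp_card h hK
  have hZ : center K = ⊥ := (map_eq_bot_iff_of_injective _ K.subtype_injective).1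
    (le_bot_iff.1 (h2 ▸ H2.le_pCore (cz.map K.subtype)))
  let e : K ⧸ center K ≃* K :=
    (QuotientGroup.quotientMulEquivOfEq hZ).trans QuotientGroup.quotientBot
  have := hK.2.2
  have := e.symm.isSimpleGroup
  rw [Nat.card_congr e.toEquiv] at c
  refine ⟨K, hn, this, c, Nat.not_even_iff_odd.1 fun he => ?_⟩
  have := Fact.mk (show Nat.Prime 7 by norm_num)
  obtain ⟨A, hA⟩ := exists_isSyl 7 K
  have cA : Nat.card A = 7 := by
    rw [hA.card_eq, c, show 168 = 7 * 24 from rfl, Nat.factorization_mul (by norm_num) (by norm_num),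
      Finsupp.add_apply, this.out.factorization_self,
      Nat.factorization_eq_zero_of_not_dvd (by norm_num)]
    rfl
  have f := hA.frattini le_top le_normalizer_of_normal
  rw [top_inf_eq] at f
  rw [← relIndex_top_right, ← f, relIndex_sup_right] at he
  obtain ⟨t, ht⟩ := exists_prime_orderOf_dvd_card' (G := No A) 2
    (he.two_dvd.trans (relIndex_dvd_card _ _))
  rw [← orderOf_coe] at ht
  have hY : IsPGroup 2 (zpowers (t : X)) :=
    IsPGroup.of_card (n := 1) (by rw [Nat.card_zpowers, ht]; rfl)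
  have o3 : pCore 3 X = ⊥ := by_contra fun h0 => by
    obtain ⟨y, hy⟩ := exists_prime_orderOf_dvd_card' (G := pCore 3 X) 3
      ((isPGroup_pCore 3 X).card_eq_or_dvd.resolve_left fun h1 => h0 (card_eq_one.1 h1))
    rcases H14.comp_le_or_of_normal hK (pCore 3 X) with k | k
    · obtain ⟨n, hn⟩ := IsPGroup.iff_card.1 ((isPGroup_pCore 3 X).to_le k)
      exact absurd (Nat.prime_two.dvd_of_dvd_pow (hn ▸ c ▸ (by norm_num : 2 ∣ 168))) (by decide)
    · exact no_three h3 h hK ((orderOf_coe y).trans hy)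
        (le_centralizer_iff.1 (commutator_eq_bot_iff_le_centralizer.1 k) y.2)
  have := kill h2 hI hY (by simp [o3]) (H14.layer_le fun L hL => comp_eq h3 h hK hL ▸
    cent_of_seven hI (fun hc => H14.comp_not_le_centralizer hK (le_centralizer K)) c hA.le cA hY
      le_normalizer_of_normal (le_centralizer_iff.1 (hI 7 this.out (by norm_num) _ A hY hA.isPGroup
        (zpowers_le.2 t.2))))
  rw [zpowers_eq_bot.1 this, orderOf_one] at ht
  omega

end H45.DPB
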