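import Cfsg.Agent.H98.DP0CSpec
/-! DP0-C: transfer of the bad configuration to the section `H / O₂(H)`. -/
set_option autoImplicit false
namespace H45.DPT
open Subgroup Cfsg H98 H48.DP H57.DPC H48.DP2 H98.DP0C
universe u

theorem lift {H X : Type u} [Group H] [Finite H] [Group X] {π : H →* X} (hk : IsPGroup 2 π.ker) {a b : H}
    (a3 : a ^ 3 = 1) (b3 : b ^ 3 = 1) (e : π a = π b) : ∃ o, π o = 1 ∧ o * a * o⁻¹ = b := by
  classical
  have : Fact (Nat.Prime 3) := ⟨Nat.prime_three⟩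
  have : Fact (Nat.Prime 2) := ⟨Nat.prime_two⟩
  have := Fintype.ofFinite π.ker
  let σ : Equiv.Perm π.ker :=
    { toFun := fun n => ⟨b * n * a⁻¹, by
        rw [MonoidHom.mem_ker, map_mul, map_mul, map_inv, n.2, e]; simp⟩
      invFun := fun n => ⟨b⁻¹ * n * a, by
        rw [MonoidHom.mem_ker, map_mul, map_mul, map_inv, n.2, e]; simp⟩
      left_inv := fun n => Subtype.ext (by simp [mul_assoc])
      right_inv := fun n => Subtype.ext (by simp [mul_assoc]) }
  obtain ⟨k, hn⟩ := hk.exists_card_eq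
  obtain ⟨o, ho⟩ := Equiv.Perm.exists_fixed_point_of_prime (p := 3) (n := 1) (σ := σ) (by
    rw [← Nat.card_eq_fintype_card, hn]
    exact fun h => absurd (Nat.prime_three.dvd_of_dvd_pow h) (by decide)) (Equiv.ext fun n => Subtype.ext (by
      change b * (b * (b * n * a⁻¹) * a⁻¹) * a⁻¹ = n
      calc _ = b ^ 3 * n * (a ^ 3)⁻¹ := by simp only [pow_succ, pow_zero]; group
        _ = _ := by rw [a3, b3]; group))
  have h : b * o * a⁻¹ = o := congrArg Subtype.val ho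
  exact ⟨o, o.2, by rw [← h]; nth_rewrite 2 [h]; group⟩

theorem zp3 {G : Type u} [Group G] {a e : G} (h : orderOf a = 3) (he : e ∈ zpowers a) : e ^ 3 = 1 :=
  orderOf_dvd_iff_pow_eq_one.1 (h ▸ orderOf_dvd_of_mem_zpowers he)

theorem jobTrf : JobTrf.{u} := by
  intro G X _ _ _ _ M Q H π y z w hy hz h pj sec
  have hk : IsPGroup 2 π.ker := pj.ker ▸ isPGroup_subgroupOf (isPGroup_pCoreOf H) H
  have : Fact (Nat.Prime 3) := ⟨Nat.prime_three⟩
  have : Fact (Nat.Prime 2) := ⟨Nat.prime_two⟩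
  have y3 : orderOf (⟨y, hy⟩ : H) = 3 := (orderOf_mk y hy).trans h.y3
  have z3 : orderOf (⟨z, hz⟩ : H) = 3 := (orderOf_mk z hz).trans h.z3
  have o3 : ∀ a : H, orderOf a = 3 → orderOf (π a) = 3 := fun a a3 =>
    orderOf_eq_prime (by rw [← map_pow, zp3 a3 (mem_zpowers a), map_one]) fun e => by
      obtain ⟨o, -, k⟩ := lift hk (one_pow 3) (zp3 a3 (mem_zpowers a)) ((map_one π).trans e.symm)
      rw [← k] at a3; simp at a3
  have gd := Bd.good h
  have cj3 : ∀ g : H, (g * ⟨z, hz⟩ * g⁻¹) ^ 3 = 1 := fun g => by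
    rw [conj_pow, zp3 z3 (mem_zpowers _)]; simp
  refine { sec with
    y3 := o3 _ y3, z3 := o3 _ z3, yz := ?_, ny := ?_, iz := fun T t1 t2 t3 => ?_, nf := fun g hg => ?_ }
  · rw [← map_mul, ← map_mul]; exact congrArg π (Subtype.ext (Bd.comm h).1)
  · rintro ⟨k, e⟩
    obtain ⟨o, -, e'⟩ := lift hk (zp3 z3 (zpow_mem_zpowers _ k)) (zp3 y3 (mem_zpowers _))
      ((map_zpow π _ k).trans e)
    have := good_cj (good_zpow gd (zpow_mem_zpowers z k)) o
    rw [show (o : G) * z ^ k * (o : G)⁻¹ = y from congrArg Subtype.val e'] at this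
    exact h.bad this
  · have up : ∀ x ∈ C1 (π ⟨z, hz⟩), ∃ g : H, (g : G) ∈ C1 z ∧ π g = x := fun x hx => by
      obtain ⟨g, rfl⟩ := pj.surj x
      obtain ⟨o, o1, e⟩ := lift hk (cj3 g) (zp3 z3 (mem_zpowers _)) (by
        rw [map_mul, map_mul, mem_centralizer_singleton_iff.1 hx, map_inv, mul_inv_cancel_right])
      refine ⟨o * g, mem_centralizer_singleton_iff.2 ?_, by rw [map_mul, o1, one_mul]⟩
      have e' : (o : G) * (g * z * (g : G)⁻¹) * (o : G)⁻¹ = z := congrArg Subtype.val e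
      calc (o : G) * g * z = o * (g * z * (g : G)⁻¹) * (o : G)⁻¹ * (o * g) := by group
        _ = _ := by rw [e']; rfl
    have nr : ∀ (a : G) (ha : a ∈ H), π ⟨a, ha⟩ ∈ No T → a ∈ C1 z →
        a ∈ No ((T.comap π).map H.subtype ⊓ C1 z) := fun a ha h1 h2 =>
      mem_normalizer_fintype (by
        rintro _ ⟨⟨t, ht, rfl⟩, h3⟩
        refine ⟨⟨⟨a, ha⟩ * t * ⟨a, ha⟩⁻¹, ?_, rfl⟩,
          (C1 z).mul_mem ((C1 z).mul_mem h2 h3) ((C1 z).inv_mem h2)⟩
        show π _ ∈ T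
        rw [map_mul, map_mul, map_inv]
        exact (mem_normalizer_iff.1 h1 _).1 ht)
    have tQ := h.iso _ (inf_le_right.trans (Bd.cz h))
      (((t2.comap_of_ker_isPGroup π hk).map _).to_le inf_le_left)
      (nr y hy t3 (mem_centralizer_singleton_iff.2 (Bd.comm h).1))
      (nr z hz (mem_normalizer_fintype fun t ht => by
        rwa [← mem_centralizer_singleton_iff.1 (t1 ht), mul_inv_cancel_right])
        (mem_centralizer_singleton_iff.2 rfl))
    have q2 : IsPGroup 2 Q := h.o2 ▸ isPGroup_pCoreOf M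
    refine le_trans (fun t ht => ?_) (le_pCoreOf (A := bar π (Q ⊓ C1 z))
      ((isPGroup_subgroupOf (q2.to_le inf_le_left) H).map π) ?_ fun x hx => ?_)
    · obtain ⟨g, g1, rfl⟩ := up t (t1 ht)
      exact ⟨g, ⟨tQ ⟨⟨g, ht, rfl⟩, g1⟩, g1⟩, rfl⟩
    · rintro _ ⟨g, hg, rfl⟩
      rw [mem_centralizer_singleton_iff, ← map_mul, ← map_mul]
      exact congrArg π (Subtype.ext (mem_centralizer_singleton_iff.1 hg.2))
    · obtain ⟨g, g1, rfl⟩ := up x hx
      refine mem_normalizer_fintype ?_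
      rintro _ ⟨d, hd, rfl⟩
      refine ⟨g * d * g⁻¹, ⟨(mem_normalizer_iff.1 (h.no ▸ Bd.cz h g1 : (g : G) ∈ No Q) _).1 hd.1,
        (C1 z).mul_mem ((C1 z).mul_mem g1 hd.2) ((C1 z).inv_mem g1)⟩, by simp⟩
  · obtain ⟨g, rfl⟩ := pj.surj g
    rw [← MonoidHom.map_zpowers, ← MonoidHom.map_zpowers, ← Subgroup.map_sup] at hg
    obtain ⟨e, he, k⟩ := hg
    have he' : (e : G) ∈ zpowers y ⊔ zpowers z := by
      have := mem_map_of_mem H.subtype he
      rwa [Subgroup.map_sup, MonoidHom.map_zpowers, MonoidHom.map_zpowers] at this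
    have e3 : e ^ 3 = 1 := Subtype.ext ((nf3 h.y3 h.z3 (Bd.comm h).1 he').elim (zp3 h.z3)
      fun ⟨i, _, hi⟩ => zp3 (Bd.ord h i) hi)
    obtain ⟨o, -, e'⟩ := lift hk (cj3 g) e3 (by rw [k]; simp)
    have := good_cj (good_cj gd g) o
    rw [show (o : G) * (g * z * (g : G)⁻¹) * (o : G)⁻¹ = e from congrArg Subtype.val e'] at this
    obtain ⟨n, hn⟩ := Bd.good_mem h he' this
    rw [← k, show e = ⟨z, hz⟩ ^ n from Subtype.ext hn.symm, map_zpow]
    exact zpow_mem_zpowers _ n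

end H45.DPT
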