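import Cfsg.Agent.H48.DNASpec
import Cfsg.Agent.H2.PrimeCore

/-! # S3275, chapter alpha, step S8. -/

set_option autoImplicit false

namespace H45.NAS8

open Subgroup Cfsg H98 H48.DP H57.DPC H48.DP2
open scoped commutatorElement

universe u

variable {G : Type u} [Group G]

theorem o2_le_th [Finite G] (y : G) : O2 (C1 y) ≤ th y :=
  map_mono (H2.pCore_le_pPrimeCore_of_coprime (by norm_num))

theorem comm_mem_C1 {y t p : G} (ht : t ∈ No (zpowers y)) (hp : p ∈ C1 y) : ⁅t, p⁆ ∈ C1 y := by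
  have h1 : t⁻¹ * y * t ∈ zpowers y := conj_mem_of_mem_normalizer' ht (mem_zpowers y)
  have hc : Commute p y := mem_centralizer_singleton_iff.1 hp
  have h2 : Commute p (t⁻¹ * y * t) := by
    obtain ⟨k, hk⟩ := mem_zpowers_iff.1 h1
    rw [← hk]
    exact hc.zpow_right k
  have h3 : t * p * t⁻¹ ∈ C1 y := by
    refine mem_centralizer_singleton_iff.2 ?_
    calc t * p * t⁻¹ * y = t * (p * (t⁻¹ * y * t)) * t⁻¹ := by group
      _ = t * ((t⁻¹ * y * t) * p) * t⁻¹ := by rw [h2.eq]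
      _ = y * (t * p * t⁻¹) := by group
  rw [commutatorElement_def]
  exact (C1 y).mul_mem h3 ((C1 y).inv_mem hp)

theorem lt_conj {P : Subgroup G} {y z r l : G} (h : Lt P y z r) (hl : l ∈ Ce P) :
    Lt P (l * y * l⁻¹) z (l * r * l⁻¹) := by
  have hlp : ∀ p ∈ P, p * l = l * p := fun p hp => mem_centralizer_iff.1 hl p hp
  have zP : z ∈ P := by
    have : zpowers z ≤ P := by
      rw [← h.der]
      exact commutator_le.2 fun a ha b hb => by
        rw [commutatorElement_def]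
        exact P.mul_mem (P.mul_mem (P.mul_mem ha hb) (P.inv_mem ha)) (P.inv_mem hb)
    exact this (mem_zpowers z)
  refine ⟨?_, h.z3, ?_, h.card, h.ex, h.der, h.zc, ?_, ?_, ?_⟩
  · rw [← h.y3]
    exact (MulAut.conj l).orderOf_eq y
  · intro p hp
    have h1 : p * y = y * p := mem_centralizer_singleton_iff.1 (h.Py hp)
    have h2 := hlp p hp
    have h3 : l⁻¹ * p = p * l⁻¹ := by
      calc l⁻¹ * p = l⁻¹ * (p * l) * l⁻¹ := by group
        _ = p * l⁻¹ := by rw [h2]; group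
    refine mem_centralizer_singleton_iff.2 ?_
    calc p * (l * y * l⁻¹) = (p * l) * y * l⁻¹ := by group
      _ = l * (p * y) * l⁻¹ := by rw [h2]; group
      _ = l * y * (p * l⁻¹) := by rw [h1]; group
      _ = l * y * l⁻¹ * p := by rw [← h3]; group
  · intro hy
    apply h.yP
    have h2 := hlp _ hy
    have : l * y * l⁻¹ = y := by
      have h4 : l * y = l * (l * y * l⁻¹) := by rw [← h2]; group
      exact (mul_left_cancel h4).symm
    rwa [this] at hy
  · have := h.ry.eq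
    change l * r * l⁻¹ * (l * y * l⁻¹) = l * y * l⁻¹ * (l * r * l⁻¹)
    calc l * r * l⁻¹ * (l * y * l⁻¹) = l * (r * y) * l⁻¹ := by group
      _ = _ := by rw [this]; group
  · have h2 := hlp z zP
    have h3 : l⁻¹ * z * l = z := by
      calc l⁻¹ * z * l = l⁻¹ * (z * l) := by group
        _ = z := by rw [h2]; group
    have h4 : l * z⁻¹ * l⁻¹ = z⁻¹ := by
      calc l * z⁻¹ * l⁻¹ = z⁻¹ * (z * l) * z⁻¹ * l⁻¹ := by group
        _ = z⁻¹ := by rw [h2]; group
    calc l * r * l⁻¹ * z * (l * r * l⁻¹)⁻¹ = l * (r * (l⁻¹ * z * l) * r⁻¹) * l⁻¹ := by group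
      _ = z⁻¹ := by rw [h3, h.rz, h4]

theorem job : JS8.{u} := by
  intro g1 cp qx pu G _ _ M Q X P D V y z r l t s h hc hQ hu
  have hth : ∀ p ∈ C1 y, ⁅t, p⁆ ∈ Q → ⁅t, p⁆ ∈ th y := fun p hp hq =>
    o2_le_th y (by rw [h.dy]; exact ⟨hq, comm_mem_C1 hu.tN hp⟩)
  obtain ⟨g, hgy, hgM, hgt⟩ := h.ft t hu.tN hu.t2
    (fun p hp => hth p (h.lt.Py hp) (hu.tP p hp))
    (hth r (mem_centralizer_singleton_iff.2 h.lt.ry.eq) hu.tr)
  have hgtX : ⁅t, g⁆ ∈ X := by
    rw [h.dy] at hgt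
    exact hQ hgt.1
  have hgD : g ∈ No D := by
    refine mem_normalizer_of_cj_le ?_
    rw [hu.eq, cj_sup, cj_eq_self (hc hgy)]
    refine sup_le le_sup_left ?_
    rw [cj, MonoidHom.map_zpowers, zpowers_le]
    have e : (MulAut.conj g).toMonoidHom t = ⁅t, g⁆⁻¹ * t := by
      simp only [MulEquiv.toMonoidHom_eq_coe, MonoidHom.coe_coe, MulAut.conj_apply,
        commutatorElement_def]
      group
    rw [e]
    exact (X ⊔ zpowers t).mul_mem (mem_sup_left (X.inv_mem hgtX)) (mem_sup_right (mem_zpowers t))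
  have lt2 := lt_conj h.lt hu.lP
  have y2M : l * y * l⁻¹ ∈ M := M.mul_mem (M.mul_mem hu.lM h.yM) (M.inv_mem hu.lM)
  obtain ⟨C, hC0, hC2, hDC, hyC⟩ := pu G D V Q (l * y * l⁻¹) s hu.D2 hu.VD hu.idx hu.QV h.cq
    lt2.y3 hu.yV hu.DV hu.sD hu.sV hu.sy hu.nab
  obtain ⟨⟨B, hB, hBP, -, -⟩, hH⟩ := g1 G M Q P _ z _ h.toUa lt2 h.PM y2M
  have hPC : P ≤ No C := hu.PD.trans hDC
  obtain ⟨X5, h52, h5N, h5Q, -, h5T⟩ := qx G M Q B (No C) C h.toUa hB
    (hBP.trans (sup_le h.PM (zpowers_le.2 y2M))) (hBP.trans (sup_le hPC (zpowers_le.2 hyC)))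
    hC2 hC0 le_rfl
  rcases hH (No X5) h5T (hPC.trans h5N) (h5N hyC) with hM | hal
  · exact hgM (hM (h5N (hDC hgD)))
  obtain ⟨g', hg5, hgy2, hg'M⟩ := (cp G M (No X5) P _ z _ lt2 hal (hPC.trans h5N)).2 (h5N hyC)
    (h5N (hDC hu.rD))
  apply hg'M
  have hfin := hu.fin X5 h52 h5Q (le_normalizer.trans (hDC.trans h5N)) (h5N hyC)
  have hgX : g' ∈ No (cj l X) := by
    refine (cj_normalizer l X).le (mem_cj.2 (hc (mem_centralizer_singleton_iff.2 ?_)))
    have e : g' * (l * y * l⁻¹) = l * y * l⁻¹ * g' := mem_centralizer_singleton_iff.1 hgy2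
    calc l⁻¹ * g' * l * y = l⁻¹ * (g' * (l * y * l⁻¹)) * l := by group
      _ = y * (l⁻¹ * g' * l) := by rw [e]; group
  rw [← h.no, ← hfin]
  exact le_normalizer_inf (H := zpowers g') (zpowers_le.2 hg5) (zpowers_le.2 hgX) (mem_zpowers g')

end H45.NAS8
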