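/- A sieve for the orders of simple groups dividing `443520` or `244823040`: the searches. -/
import Cfsg.Agent.H45.MN2

set_option autoImplicit false
set_option maxRecDepth 100000

namespace H45.DG
open H45.MN

/-- evaluate a boolean first -/
def fB (b : Bool) (k : Bool → Bool) : Bool := Bool.casesOn b (k false) (k true)

theorem fB_eq (b : Bool) (k : Bool → Bool) : fB b k = k b := by cases b <;> rfl

/-- no prime power `≠ 1` dividing `v` is `1` modulo `f` -/
def nm (f v : ℕ) : Bool := v % f != 0 && (dvs v).all fun m => m == 1 || m % f != 1 ||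
  [(2, 3), (2, 5), (2, 7), (3, 5), (3, 7), (5, 7)].any fun x : ℕ × ℕ => m % (x.1 * x.2) == 0

/-- lower bounds for the degrees when the Sylow subgroup is not self-centralizing -/
def fv (p f v : ℕ) (b : Bool) (d : ℕ) : Bool :=
  v == 1 || (Nat.blt (2 * p) d && (!b || d % f != 0 || Nat.blt (2 * p * f) d))

/-- the residues of the degrees in the principal block -/
def rs (p e d : ℕ) : Bool :=
  (d + p - 1) % p == 0 || (d + 1) % p == 0 || (d + p - e) % p == 0 || (d + e) % p == 0

/-- all admissible degrees are even -/
def par (p n e : ℕ) (flt : ℕ → Bool) : Bool :=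
  (dvs (n * e)).all fun d => d % 2 == 0 || d == 1 || !rs p e d || !flt d

/-- lower bounds for rational characters -/
def rat (p v t : ℕ) (D : List ℤ) : Bool := D.all fun d => cnt d.natAbs (uns D D t) != 1 ||
  [2, 3, 5, 7, 11].all fun r => r == p || v % r != 0 || Nat.ble (p * (r - 1)) d.natAbs

/-- the case `x` does not occur -/
noncomputable def kl (N p f o : ℕ) (flt : ℕ → Bool) (x : ℕ × ℕ × ℕ) : Bool :=
  fN x.1 fun n => fN x.2.1 fun e => fN x.2.2 fun v => fB (e % f == 0 && nm f v) fun b =>
    par p n e (fun d => fv p f v b d && flt d) ||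
    degs N p n e (fun d => fv p f v b d && flt d) fun D => !rat p v ((p - 1) / e) D ||
      (v % 2 == 0 && (cset N p e v).all fun c => c % o == 0 ||
        colsF N [5, 7, 11, 23] p e v D c (fun _ _ => true) 0 fun _ => false)

/-- no case occurs except those skipped -/
noncomputable def kill (N p f o : ℕ) (flt skip : ℕ → Bool) : Bool :=
  (cas N p).all fun x => skip x.2.2 || kl N p f o flt x

/-- the second prime for `p = 11` -/
noncomputable def l11 (N _e : ℕ) (flt : ℕ → Bool) : Bool :=
  N % 7 == 0 && kill N 7 0 11 flt fun v => v % 11 == 0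

/-- the second primes for `p = 23` -/
noncomputable def l23 (N e : ℕ) (flt : ℕ → Bool) : Bool :=
  (N % 11 == 0 && fB (N % 7 == 0 && kill N 7 0 23 flt fun v => v % 23 == 0 || v % 11 != 0)
    fun k => kill N 11 5 23 flt fun v =>
      v % 23 == 0 || (e == 22 && v % 2 == 1) || (k && v % 7 == 0)) ||
  (N % 5 == 0 && kill N 5 0 23 flt fun v => v % 23 == 0)

/-- the order `N` does not occur -/
noncomputable def chk (p f : ℕ) (l : ℕ → ℕ → (ℕ → Bool) → Bool) (N : ℕ) : Bool :=
  (cas N p).all fun x => fN x.1 fun n => fN x.2.1 fun e => fN x.2.2 fun v =>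
    if v = 1 then
      (Nat.ble 10 e && Nat.ble 600 n &&
        l N e fun d => Nat.ble (p - 2) d && (d % p == 0 || rs p e d)) ||
      degs N p n e (Nat.ble (p - 2)) fun D =>
        l N e fun d => d % p == 0 || (uns D D ((p - 1) / e)).any fun y => y.1 == d
    else kl N p f 0 (Nat.ble (p - 2)) x

theorem c22 : ((dvs 40320).all fun m => fN (11 * m) fun N =>
    95040 % N == 0 || N == 443520 || chk 11 5 l11 N) = true := by decide +kernel

theorem c24 : ((dvs 10644480).all fun m => fN (23 * m) fun N =>
    N == 6072 || N == 10200960 || N == 244823040 || chk 23 11 l23 N) = true := by decide +kernel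

end H45.DG
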