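import Cfsg.Agent.H40.E7TSpec
import Cfsg.Agent.H30.E7Sz
import Cfsg.Agent.H71.Env
import Cfsg.Agent.H81.Cover
import Cfsg.Agent.H63.AdMat
import Cfsg.Agent.H63.RSG2
import Cfsg.Agent.H65.CommG2

/-! Tower E7T, job CG8: the configuration `9² : 3` in `G₂(8)`. -/

set_option autoImplicit false
set_option maxRecDepth 100000

namespace H45.G8

open H71 H81 H73 H30.E7 H40.E7T Cfsg.Lie

universe u

noncomputable local instance rsG2' : H63.RS chevG2 := H63.rsG2
local instance tabG2' : H65.Tab chevG2 := H65.tabG2

theorem cfg_map {G H : Type*} [Group G] [Group H] (f : G →* H) (hf : Function.Injective f)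
    (h : CfgG8 G) : CfgG8 H := by
  obtain ⟨a, b, s, k, h1, h2, h3, h4, h5, h6, h7, h8⟩ := h
  refine ⟨f a, f b, f s, f k, h1.map f, ?_, ?_, ?_, ?_, ?_, ?_, ?_⟩
  · rw [← map_pow, h2, map_one]
  · rw [← map_pow, h3, map_one]
  · rw [← map_inv, ← map_mul, ← map_mul, h4]
  · rw [← map_inv, ← map_mul, ← map_mul, h5, map_inv, map_mul]
  · rw [← map_inv, ← map_mul, orderOf_injective f hf, h6]
  · rw [← map_inv, ← map_mul, ← map_pow]; exact h7.map f
  · rw [← map_inv, ← map_pow, ← map_mul, ← map_mul, h8]

/-- coordinates -/
def co (x : F8) (j : Fin 3) : ZMod 2 := ![x.1, x.2.1, x.2.2] j

/-- the regular representation -/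
def rep (x : F8) : Matrix (Fin 3) (Fin 3) (ZMod 2) := Matrix.of fun i j => co (e8 (2 ^ i.val) * x) j

/-- the regular representation as a homomorphism -/
def rho : F8 →+* Matrix (Fin 3) (Fin 3) (ZMod 2) where
  toFun := rep
  map_one' := by decide +kernel
  map_zero' := by decide +kernel
  map_mul' := by decide +kernel
  map_add' := by decide +kernel

/-- numbering of the rows -/
def e42 : Fin 42 ≃ chevG2.Idx × Fin 3 :=
  (finProdFinEquiv (m := 14) (n := 3)).symm.trans
    (Equiv.prodCongr (finSumFinEquiv (m := 2) (n := 12)).symm (Equiv.refl _))

section blocks

variable {n : Type*} [Fintype n] [DecidableEq n] {m : ℕ} (e : Fin m ≃ n × Fin 3)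

/-- block matrices -/
noncomputable def blk : Matrix n n F8 →+* Matrix (Fin m) (Fin m) (ZMod 2) :=
  (((Matrix.reindexAlgEquiv ℕ (ZMod 2) e.symm).toRingEquiv.toRingHom).comp
    (Matrix.compRingEquiv n (Fin 3) (ZMod 2)).toRingHom).comp rho.mapMatrix

theorem blk_apply (A : Matrix n n F8) (i j : Fin m) :
    blk e A i j = rho (A (e i).1 (e j).1) (e i).2 (e j).2 := rfl

theorem blk_inj : Function.Injective (blk e) := by
  intro A B h
  ext w z
  apply rho.injective
  ext k l
  have := congrFun (congrFun h (e.symm (w, k))) (e.symm (z, l))
  simpa [blk_apply] using this

/-- the faithful representation of the general linear group -/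
noncomputable def iota : GL n F8 →* Matrix (Fin m) (Fin m) (ZMod 2) :=
  (blk e).toMonoidHom.comp (Units.coeHom _)

theorem iota_apply (g : GL n F8) (i j : Fin m) :
    iota e g i j = rep ((g : Matrix n n F8) (e i).1 (e j).1) (e i).2 (e j).2 := rfl

theorem iota_inj : Function.Injective (iota e) := (blk_inj e).comp Units.val_injective

end blocks

/-- the faithful representation over the prime field -/
noncomputable def ι : chevG2.group F8 →* Matrix (Fin 42) (Fin 42) (ZMod 2) :=
  (iota e42).comp (Subgroup.subtype _)

theorem ι_inj : Function.Injective ι := (iota_inj e42).comp Subtype.val_injective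

theorem ι_apply (g : chevG2.group F8) (i j : Fin 42) : ι g i j =
    rep (((g : GL chevG2.Idx F8) : Matrix _ _ F8) (e42 i).1 (e42 j).1) (e42 i).2 (e42 j).2 :=
  iota_apply e42 _ i j

/-- packed matrices -/
noncomputable def C : Cd (Matrix (Fin 42) (Fin 42) (ZMod 2)) :=
  cd2 42 0x40000000001000000000040000000001000000000040000000001000000000040000000001000000000040000000001000000000040000000001000000000040000000001000000000040000000001000000000040000000001000000000040000000001000000000040000000001000000000040000000001000000000040000000001000000000040000000001000000000040000000001000000000040000000001000000000040000000001000000000040000000001000000000040000000001000000000040000000001000000000040000000001 4398046511103 0x800000000010000000000200000000004000000000080000000001000000000020000000000400000000008000000000100000000002000000000040000000000800000000010000000000200000000004000000000080000000001000000000020000000000400000000008000000000100000000002000000000040000000000800000000010000000000200000000004000000000080000000001000000000020000000000400000000008000000000100000000002000000000040000000000800000000010000000000200000000004000000000080000000001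
    (by decide +kernel)

/-- roots of the letters -/
def rt (k : ℕ) : ℕ := nthD [11, 0, 11, 2, 3] 12 k

/-- parameters of the letters -/
def pa (k : ℕ) : F8 := e8 (nthD [3, 4, 2, 1, 1] 0 k)

/-- the root elements -/
noncomputable def xg (k : ℕ) : chevG2.group F8 := H63.xG chevG2 F8 (rt k) (pa k)

theorem xg_val (k : ℕ) : ((xg k : GL chevG2.Idx F8) : Matrix _ _ F8) =
    chevG2.x F8 (rt k) (pa k) := H63.val_eq_xG.2 rfl

/-- codes of the root elements -/
def rc : List ℕ := [0x800000002e10000000070200000005604000e00000080030000001000600000020000e00000400030000008000600000100007000002000180000040003000000800000000010000000000200000000004000e000000800300000010006000000200000000004000000000080000000001000000000020000000000400000000008000000000100000000002000000000040000000000800000000010000000000200000000004000000000080000000001000000000020000000000400000000008000000000100000000002000000001c40000000060800000000c1,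
  0x800000000010000000000200000000004000000000080000000001000000000020000000000400000000008000000000100000000002000000000040000000000800000000010000000000200000000004000000000080000000001000000180020000003000400000100008000000000100000000002000000000040000030000800000600010000020000200000180004000003000080000100001000000180020000003000400000100008028000000130e000000026300000000600000000008000000000100000000002300000000046000000000a0000000001,
  0x8000000066100000000e02000000044040006000000800200000010004000000200006000004000200000080004000001000030000020001000000400020000008000000000100000000002000000000040006000000800200000010004000000200000000004000000000080000000001000000000020000000000400000000008000000000100000000002000000000040000000000800000000010000000000200000000004000000000080000000001000000000020000000000400000000008000000000100000000002000000000c4000000004080000000081,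
  0x800000000010000000000200000000004000000000080000000001000000000020000000000400000000008000000020100000000402000000008040000000100800000002010000000040200000000004000000000080000000001000000000020000000000400000000008000020000100000400002000008000040000100000800002000010000040000200000800004004010000080080200001001804004020010080080400201001008004020020100080400402001008008040020000000800400000010008000000200000000004000000000080000000001,
  0x800000000010000000000200000000004000000000080000000001000000000820000000010400000000208000000000100000000002000000000040000000800800000010010000000200200000000004000000000080000000001000000820820000010410400000208208000000004100000000082000000001040000004000800900080010012001000200240004004000000080080000001001000000000020000000000400000000008000004104100000082082000001041040004000000800080000010001000000200100000004002000000080040000001]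

theorem rc_ok : ∀ k < 5, ∀ i j : Fin 42,
    rep (chevG2.x F8 (rt k) (pa k) (e42 i).1 (e42 j).1) (e42 i).2 (e42 j).2 =
      b2z (Nat.testBit (nthD rc C.one k) (42 * i + j)) := by decide +kernel

theorem ι_xg (k : ℕ) : ι (xg k) = C.dec (nthD rc C.one k) := by
  by_cases hk : k < 5
  · ext i j
    rw [ι_apply, xg_val]
    exact rc_ok k hk i j
  · have h1 : xg k = 1 := by
      refine Subtype.ext (Units.ext ?_)
      rw [xg_val, rt, nthD_eq, List.getD_eq_default _ _ (by simp; omega)]
      exact dif_neg (show ¬ 12 < 12 by omega)
    rw [h1, map_one, nthD_eq, List.getD_eq_default _ _ (by simp [rc]; omega), C.dec_one]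

/-- words of the elements `a b s k` and `a b⁻¹` -/
def W : List (List ℕ) := [[0, 1, 2], [3, 4, 0, 1, 2, 0, 1, 2, 0, 1, 2, 4, 3, 0, 1, 2, 3, 4, 2, 1, 0, 2, 1, 0, 2, 1, 0, 4, 3], [3, 4, 0, 1, 2, 0, 1, 2, 0, 1, 2, 4, 3], [3, 4], [0, 1, 2, 3, 4, 0, 1, 2, 0, 1, 2, 0, 1, 2, 4, 3, 2, 1, 0, 3, 4, 2, 1, 0, 2, 1, 0, 2, 1, 0, 4, 3]]

/-- their codes -/
def cs : List ℕ := [0x6000000054200000001c8400000006a05000c000001c0018000006000800000028000c00000e000180000300008000001400060000070000c0000180004000000800000000010000000000200000000005000c000001c00180000060008001800180000030008000001000100000000001000000000020000000000400000300006000006000200000200004000001800030000030001000001000020000001800180000030008000001000100280000001b8e00000003c300000001180000000008000000000100000000002100000001ec200000006ea80000000f1,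
  0xa00000006e380000000f0c00000004603881811a0011115037800234722fc001390d0d60002d4421f40005f0a898800224522de0006d1e8ff0005fc6e36600000a06000e000380c0030000c04000601744a274001670b8588007581c0ba00111178ce0002347c1c40006f1988880000300c0008000604000a000200800380b51303380017c262ac00166060e58001b4762440017f1a0488007d83409a001670a0eb000758143160018b1487600300000000c8600000004a200000000b8000000000800000000010000000000238038040044c00c050050980181c01c1,
  0x920904904112412092082248241241064820800000490410000009208200000004904104800092082090001241041224020120100480402402009008048040900924904112012492082240249241060100100800402002010008040040200124924104802492482090049249041224920124904492402492089248049241920024004812400480090248009001224100120800482002410009040048200100800804002010010080040200201020920904904412412092088248241241800804004110010080082200201001064820120124490402402489208048049,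
  0x800000000010000000000200000000004000000000080000000001000000000820000000010400000000208000000020100000000402000000008040000000900800000012010000000240200000000004000000000080000000001000000820820000010410400000208208000020004100000400082000008001040000104000800902080010012041000200260904004004412080080088241001001804104020010082080400201041008024124124124482482482489049049049824000000810480000010209000000200100000004002000000080040000001,
  0x800000004810000000090200000001201c87232e001591a8670007943e256001bf170fe8003d87636e0011b1a06f0002ec143b200074148d28005687a1ae000006060002000200c0028000404000e07a42e294001bd070f48003dc5637a000721c00000056460000001e50c0000000030140038000607000c000201800181bf140000003d8700000011b180000002ec10000000741400000056870000001e9080000006f410000000f71400000200000000004000000000080000000000000000008000000000100000000002200081c0014400a060002880380c0029]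

/-- the elements -/
noncomputable def el (l : ℕ) : chevG2.group F8 := evw xg (nthD W [] l)

theorem ι_el (l : ℕ) : ι (el l) = C.dec (nthD cs C.one l) := by
  by_cases hl : l < 5
  · have h : mw C.mul (nthD rc C.one) (nthD W [] l) (Nat.beq (nthD cs C.one l)) C.one = true := by
      revert l
      decide +kernel
    rw [← mw_one C h, el, evw, map_list_prod, List.map_map]
    congr 2
    exact funext ι_xg
  · rw [el, nthD_eq, nthD_eq, List.getD_eq_default _ _ (by simp [W]; omega),
      List.getD_eq_default _ _ (by simp [cs]; omega), evw_nil, map_one, C.dec_one]

theorem ι_evw (w : List ℕ) : ι (evw el w) = (w.map fun l => C.dec (nthD cs C.one l)).prod := by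
  rw [evw, map_list_prod, List.map_map]
  congr 2
  exact funext ι_el

theorem rel (w w' : List ℕ) (h : mw C.mul (nthD cs C.one) w
    (fun x => mw C.mul (nthD cs C.one) w' (Nat.beq x) C.one) C.one = true) :
    evw el w = evw el w' := by
  obtain ⟨x, h1, h2⟩ := mw_sound C w _ h
  rw [C.dec_one, one_mul] at h2
  exact ι_inj (by rw [ι_evw, ι_evw, mw_one C h1, h2])

theorem nrel (w : List ℕ) (k : ℕ) (h : mw C.mul (nthD cs C.one) w
    (fun x => !Nat.beq (C.ent x k) (C.ent C.one k)) C.one = true) : evw el w ≠ 1 := fun e => by
  obtain ⟨x, h1, h2⟩ := mw_sound C w _ h
  rw [C.dec_one, one_mul, ← ι_evw, e, map_one, ← C.dec_one] at h2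
  rw [C.ent_eq _ _ k h2] at h1
  simp at h1

theorem cfg : CfgG8 (chevG2.group F8) := by
  have : Fact (Nat.Prime 3) := ⟨Nat.prime_three⟩
  have hh : el 0 * (el 1)⁻¹ = el 4 := by
    rw [mul_inv_eq_iff_eq_mul]
    simpa [evw] using rel [0] [4, 1] (by decide +kernel)
  refine ⟨el 0, el 1, el 2, el 3, ?_, ?_, ?_, ?_, ?_, ?_, ?_, ?_⟩
  · simpa [evw, commute_iff_eq] using rel [0, 1] [1, 0] (by decide +kernel)
  · simpa [evw, pow_succ, mul_assoc] using rel [0, 0, 0, 0, 0, 0, 0, 0, 0] [] (by decide +kernel)
  · simpa [evw, pow_succ, mul_assoc] using rel [2, 2, 2] [] (by decide +kernel)
  · rw [mul_inv_eq_iff_eq_mul]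
    simpa [evw] using rel [2, 0] [1, 2] (by decide +kernel)
  · rw [mul_inv_eq_iff_eq_mul, eq_inv_mul_iff_mul_eq]
    simpa [evw, mul_assoc] using rel [0, 1, 2, 1] [2] (by decide +kernel)
  · rw [hh]
    refine orderOf_eq_prime_pow (p := 3) (n := 1) ?_ ?_
    · simpa [evw, pow_succ, mul_assoc] using nrel [4, 4, 4] 3 (by decide +kernel)
    · simpa [evw, pow_succ, mul_assoc] using rel [4, 4, 4, 4, 4, 4, 4, 4, 4] [] (by decide +kernel)
  · rw [hh]
    simpa [evw, pow_succ, mul_assoc, commute_iff_eq] using
      rel [3, 4, 4, 4] [4, 4, 4, 3] (by decide +kernel)
  · rw [mul_inv_eq_iff_eq_mul]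
    simpa [evw, pow_succ, mul_assoc] using rel [3, 0, 0, 0] [2, 3] (by decide +kernel)

theorem jobCG8 : JobCG8.{u} := fun F _ _ h =>
  have σ : F8 ≃+* F := FiniteField.ringEquivOfCardEq (card_F8.trans h.symm)
  cfg_map (H63.mapG chevG2 (σ : F8 →+* F)) (H63.mapG_injective _) cfg

end H45.G8
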