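import Cfsg.Agent.H14.FESpec
import Cfsg.Agent.S1137
/-! FE tower: involutions of 2-subgroups are central when there is a strongly embedded subgroup. -/
set_option autoImplicit false
namespace H45.FES
open Cfsg Subgroup H14 H98 H14.GC H14.FE
open scoped commutatorElement
universe u

theorem jobSE2 : JobSE2.{u} := by
  rintro se1 X _ _ M hM ⟨s, -, t, -, hs, ht, st, c⟩ U - hU x hx y hy x2
  have : Fact (Nat.Prime 2) := ⟨Nat.prime_two⟩
  obtain ⟨P, p1, -, -, p4⟩ := se1 _ _ (H99.se_quot hM ⟨s, t, hs.1, ht.1, st, hs.2, ht.2, c⟩)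
    (H2.pPrimeCore_quotient_pPrimeCore 2 X)
  have key : ∀ a ∈ P, ∀ b ∈ P, a * a = 1 → a * b = b * a := fun a ha b hb a2 => by
    rcases p4 with e | e
    · rw [← inv_eq_of_mul_eq_one_right (e _ (mul_mem ha hb)), mul_inv_rev,
        inv_eq_of_mul_eq_one_right a2, inv_eq_of_mul_eq_one_right (e b hb)]
    by_cases a1 : a = 1
    · rw [a1, one_mul, mul_one]
    exact congrArg Subtype.val (mem_center_iff.1 (((Cfsg.Agent.S1137.result e).1 ⟨a, ha⟩).1
      ⟨fun k => a1 (congrArg Subtype.val k), Subtype.ext a2⟩).1 ⟨b, hb⟩).symm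
  obtain ⟨g, -, hg⟩ := p1.exists_cj_le (hU.map (QuotientGroup.mk' (pPrimeCore 2 X))) le_top
  have k := key _ (hg (conj_mem_cj (mem_map_of_mem _ hx))) _ (hg (conj_mem_cj (mem_map_of_mem _ hy)))
    (by rw [conj_mul, ← map_mul, x2, map_one]; group)
  rw [conj_mul, conj_mul, mul_left_inj, mul_right_inj] at k
  have m : ⁅x, y⁆ ∈ pPrimeCore 2 X := (QuotientGroup.eq_one_iff _).1 (by
    rw [← QuotientGroup.mk'_apply, map_commutatorElement]; exact commutatorElement_eq_one_iff_mul_comm.2 k)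
  have mU : ⁅x, y⁆ ∈ U := mul_mem (mul_mem (mul_mem hx hy) (inv_mem hx)) (inv_mem hy)
  obtain ⟨n, hn⟩ := hU ⟨_, mU⟩
  exact commutatorElement_eq_one_iff_mul_comm.1 (orderOf_eq_one_iff.1 (Nat.eq_one_of_dvd_coprimes
    ((Nat.prime_two.coprime_iff_not_dvd.2 (H2.not_dvd_card_pPrimeCore 2 X)).pow_left n)
    (orderOf_dvd_of_pow_eq_one (congrArg Subtype.val hn)) (orderOf_dvd_natCard _ m)))

end H45.FES
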