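import Cfsg.Agent.H63.KgvSpec

/-! # Tower KGV, step NL. -/

set_option autoImplicit false

namespace H45.KgvNL

open Finset Cfsg H63.Kgv

universe u

theorem job : JNL.{u} := by
  intro gc eg st i0 i1 i2 or p _ M K _ _ θ a Hf hs E _ _ hE
  have hp : p.Prime := Fact.out
  generalize hn : Nat.card E = n
  induction n using Nat.strong_induction_on generalizing E with
  | _ n ih =>
  intro nil
  have cop : ∀ D : ℕ, (p ^ D).Coprime (Nat.card E) := fun D => by
    refine Nat.Coprime.pow_left D (Nat.Coprime.coprime_dvd_right hE ?_)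
    have h1 : 1 ≤ p ^ M := Nat.one_le_pow _ _ hp.pos
    refine (Nat.Prime.coprime_iff_not_dvd hp).2 fun h => ?_
    have h2 : p ∣ p ^ M := dvd_pow_self p hs.pos.ne'
    have h3 := (Nat.dvd_sub_iff_right h1 h2).1 h
    exact hp.one_lt.ne' (Nat.dvd_one.1 h3)
  have irr : ∀ (d : ℕ) (χ : E → ℂ), d ∣ M → IsIrrCharacter E χ → (∀ y, χ (y ^ p ^ d) = χ y) →
      Good p E (gam θ Hf d χ) := by
    intro d χ hd hχ hq
    by_cases h1 : χ 1 = 1
    · exact i0 p M K θ a Hf hs E hE d χ hd hχ h1 hq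
    obtain ⟨H, hH, r, x, φ, id, k⟩ := st E χ (p ^ d) nil hχ h1 (cop d) hq
    rcases k with ⟨k1, k2⟩ | ⟨rfl, k1, k2, k3, k4⟩
    · letI : Fintype H := Fintype.ofFinite H
      have lt : Nat.card H < n := by
        rw [← hn, ← H.card_mul_index, id.idx]
        exact (Nat.lt_mul_iff_one_lt_right Nat.card_pos).2 id.pr.one_lt
      exact i1 p M K θ a Hf hs E hE H r d x χ φ id hd k1 hq
        (ih _ lt H ((Subgroup.card_subgroup_dvd_card H).trans hE) rfl inferInstance d φ hd id.ch k2)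
    · exact i2 p M K θ a Hf hs E hE H d x χ φ id hd hq k1 k2 k3 k4
  have zero : ∀ d : ℕ, Good p E (gam θ Hf d (0 : E → ℂ)) := fun d => by
    refine (gc p E).1 _ _ ((gc p E).2.2.2.2.2.1 1) fun t _ y => ?_
    have e : em θ (0 : E → ℂ) y = 0 := (eg K θ E hs.inj).1 _ y 0 fun j => by simp
    simp [gam, e]
  have main : ∀ (k d : ℕ) (χ : E → ℂ), χ 1 = k → d ∣ M → IsCharacter E χ →
      (∀ y, χ (y ^ p ^ d) = χ y) → Good p E (gam θ Hf d χ) := by
    intro k
    induction k using Nat.strong_induction_on with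
    | _ k ihk =>
    intro d χ hk hd hχ hq
    by_cases h0 : χ = 0
    · rw [h0]; exact zero d
    obtain ⟨e, k1, k', χ₀, χ', c1, c2, c3, c4, c5, c6, c7, c8, c9⟩ :=
      or p M K θ a Hf hs E hE d χ hd hχ hq h0
    have ek : k1 = k := Nat.cast_injective (R := ℂ) (c6.symm.trans hk)
    exact (gc p E).1 _ _ ((gc p E).2.2.1 _ _ (irr _ χ₀ c1 c2 c3)
      (ihk k' (ek ▸ c8) d χ' c7 hd c4 c5)) c9
  intro d χ hd hχ hq
  by_cases h0 : χ = 0
  · rw [h0]; exact zero d
  obtain ⟨-, k, -, -, -, -, -, -, -, -, c6, -⟩ := or p M K θ a Hf hs E hE d χ hd hχ hq h0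
  exact main k d χ c6 hd hχ hq

end H45.KgvNL
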