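import Cfsg.Agent.H63.KgvSpec

/-! # Tower KGV, step VL. -/

set_option autoImplicit false

namespace H45.KgvVL

open Finset Cfsg H63.Kgv

universe u

theorem prod_orbits {α : Type} [Fintype α] (σ : Equiv.Perm α) (A B : α → ℂ)
    (hA : ∀ u, A (σ u) = A u) (hB : ∀ u, B (σ u) = B u)
    (h : ∀ u, A u ^ Function.minimalPeriod σ u = B u ^ Function.minimalPeriod σ u) :
    ∏ u, A u = ∏ u, B u := by
  classical
  have inv : ∀ (A : α → ℂ), (∀ u, A (σ u) = A u) → ∀ (u v : α),
      v ∈ MulAction.orbit (Subgroup.zpowers σ) u → A v = A u := by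
    rintro A hA u _ ⟨⟨g, hg⟩, rfl⟩
    obtain ⟨k, rfl⟩ := (mem_powers_iff_mem_zpowers.2 hg : g ∈ Submonoid.powers σ)
    change A ((σ ^ k) u) = A u
    clear hg
    induction k with
    | zero => rfl
    | succ k ih => rw [pow_succ', Equiv.Perm.mul_apply, hA, ih]
  let π : α → Quotient (MulAction.orbitRel (Subgroup.zpowers σ) α) := Quotient.mk _
  rw [← prod_fiberwise (s := univ) π A, ← prod_fiberwise (s := univ) π B]
  refine prod_congr rfl fun c _ => ?_
  obtain ⟨u, rfl⟩ := Quotient.exists_rep c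
  have e : ∀ v, v ∈ univ.filter (fun v => π v = Quotient.mk _ u) ↔
      v ∈ MulAction.orbit (Subgroup.zpowers σ) u := fun v => by
    rw [mem_filter, and_iff_right (mem_univ _)]
    exact Quotient.eq.trans MulAction.orbitRel_apply
  have c : (univ.filter (fun v => π v = Quotient.mk _ u)).card = Function.minimalPeriod σ u := by
    have := MulAction.minimalPeriod_eq_card σ u
    rw [show (fun x => σ • x) = σ from rfl] at this
    rw [this]
    exact (Fintype.card_of_finset' _ e).symm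
  rw [prod_congr rfl fun v hv => inv A hA u v ((e v).1 hv),
    prod_congr rfl fun v hv => inv B hB u v ((e v).1 hv), prod_const, prod_const, c, h]

theorem fiber {K : Type} [Field K] [Fintype Kˣ] [DecidableEq Kˣ] {r : ℕ} {ω : Kˣ} (hr : r.Prime)
    (hω : orderOf ω = r) (w : Kˣ) :
    univ.filter (fun v : Kˣ => v ^ r = w ^ r) = (range r).image (fun i => w * ω ^ i) ∧
      Set.InjOn (fun i => w * ω ^ i) (range r : Set ℕ) := by
  haveI : NeZero r := ⟨hr.ne_zero⟩
  have hp : IsPrimitiveRoot ω r := hω ▸ IsPrimitiveRoot.orderOf ω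
  refine ⟨?_, fun i hi j hj e => hp.pow_inj (mem_range.1 (mem_coe.1 hi)) (mem_range.1 (mem_coe.1 hj))
    (mul_left_cancel e)⟩
  ext v
  rw [mem_filter, and_iff_right (mem_univ _), mem_image]
  constructor
  · intro e
    obtain ⟨i, hi, k⟩ := hp.eq_pow_of_mem_rootsOfUnity (ξ := w⁻¹ * v)
      (by rw [mem_rootsOfUnity, mul_pow, inv_pow, e, inv_mul_cancel])
    exact ⟨i, mem_range.2 hi, by rw [k, mul_inv_cancel_left]⟩
  · rintro ⟨i, -, rfl⟩
    rw [mul_pow, ← pow_mul, mul_comm i r, pow_mul, hp.pow_eq_one, one_pow, mul_one]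

theorem supp {α : Type} [Fintype α] (m : α → ℕ) (z : α → ℂ) (hz : ∀ u, ‖z u‖ = 1)
    (h : ∑ u, (m u : ℂ) * z u = ∑ u, (m u : ℂ)) (u : α) (hu : m u ≠ 0) : z u = 1 := by
  have h1 : ∑ u, (m u : ℝ) * (1 - (z u).re) = 0 := by
    have := congrArg Complex.re h
    simp only [Complex.re_sum, Complex.mul_re, Complex.natCast_re, Complex.natCast_im, zero_mul,
      sub_zero] at this
    simp only [mul_sub, mul_one, sum_sub_distrib, this, sub_self]
  have h2 := (sum_eq_zero_iff_of_nonneg fun u _ => mul_nonneg (Nat.cast_nonneg (m u))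
    (sub_nonneg.2 ((Complex.re_le_norm (z u)).trans (hz u).le))).1 h1 u (mem_univ u)
  have h3 : (z u).re = 1 := by
    rcases mul_eq_zero.1 h2 with k | k
    · exact absurd (Nat.cast_eq_zero.1 k) hu
    · linarith
  have h4 : (z u).im = 0 := by
    have := Complex.sq_norm (z u)
    rw [hz u, Complex.normSq_apply, h3] at this
    nlinarith
  exact Complex.ext h3 h4

theorem job : JVL.{u} := by
  classical
  intro eg p _ M K _ _ θ a Hf hs E _ _ hE H _ r d x χ φ ω id hd hrd hω hq
  have hp : p.Prime := Fact.out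
  letI : Fintype H := Fintype.ofFinite H
  have hr := id.pr
  have yq : ∀ y : E, y ^ (Fintype.card K - 1) = 1 := fun y => by
    obtain ⟨c, hc⟩ := hE
    rw [hs.card, hc, pow_mul, pow_card_eq_one', one_pow]
  have cK : Fintype.card Kˣ = p ^ M - 1 := by rw [Fintype.card_units, hs.card]
  have uq : ∀ u : Kˣ, u ^ (p ^ M - 1) = 1 := fun u => by rw [← cK, pow_card_eq_one]
  have h1M : 1 < p ^ M := Nat.one_lt_pow hs.pos.ne' hp.one_lt
  have uM : ∀ u : Kˣ, u ^ p ^ M = u := fun u => by
    rw [← Nat.sub_add_cancel h1M.le, pow_succ, uq, one_mul]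
  have egφ : ∀ h : H, Eg θ φ h (em θ φ h) := fun h =>
    (eg K θ H hs.inj).2 φ h id.ch (Subtype.ext (yq h))
  have cl : ∀ g h : H, φ (h * g * h⁻¹) = φ g := by
    obtain ⟨n, ρ, rfl⟩ := id.ch
    exact fun g h => ρ.char_conj g h
  have tot : ∀ h : H, φ 1 = ∑ u, (em θ φ h u : ℂ) := fun h => by simpa using egφ h 0
  refine ⟨∑ u, em θ φ 1 u, by rw [tot 1, Nat.cast_sum], fun t ht => ⟨fun h => ?_, ?_⟩⟩
  · have e : em θ χ (h : E) = fun u => ∑ j ∈ range r, em θ φ (MulAut.conjNormal (x ^ j) h) u := by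
      refine (eg K θ E hs.inj).1 χ h _ fun k => ?_
      rw [← Subgroup.coe_pow, id.on]
      simp only [map_pow (MulAut.conjNormal _) h k, egφ _ k, Nat.cast_sum, sum_mul]
      exact sum_comm
    simp only [gam, e, mul_sum, ← prod_pow_eq_pow_sum]
    exact prod_comm
  intro y h hy hyr
  set m := em θ φ h with hm
  have nn : ∑ u, em θ φ 1 u = ∑ u, m u :=
    Nat.cast_injective (R := ℂ) (by rw [Nat.cast_sum, Nat.cast_sum, ← tot 1, ← tot h])
  have cq : Nat.card (E ⧸ H) = r := id.idx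
  haveI : Fact r.Prime := ⟨hr⟩
  have y1 : (y : E ⧸ H) ≠ 1 := fun e => hy ((QuotientGroup.eq_one_iff y).1 e)
  have oy : orderOf (y : E ⧸ H) = r :=
    orderOf_eq_prime (by rw [← cq, pow_card_eq_one']) y1
  have off : ∀ k, ¬ r ∣ k → χ (y ^ k) = 0 := fun k hk => id.off _ fun e => hk (by
    rw [← oy, orderOf_dvd_iff_pow_eq_one, ← QuotientGroup.mk_pow]
    exact (QuotientGroup.eq_one_iff _).2 e)
  have on : ∀ k, χ (y ^ (r * k)) = r * φ (h ^ k) := fun k => by
    rw [pow_mul, ← hyr, ← Subgroup.coe_pow, id.on, sum_congr rfl (g := fun _ => φ (h ^ k)),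
      sum_const, card_range, nsmul_eq_mul]
    intro j _
    obtain ⟨i, hi⟩ : ((x ^ j : E) : E ⧸ H) ∈ Submonoid.powers (y : E ⧸ H) :=
      mem_powers_of_prime_card cq y1
    have hi' : x ^ j * (y ^ i)⁻¹ ∈ H := by
      rw [← QuotientGroup.eq_one_iff, QuotientGroup.mk_mul, QuotientGroup.mk_inv,
        QuotientGroup.mk_pow H y, ← hi, mul_inv_cancel]
    rw [← cl (h ^ k) ⟨_, hi'⟩]
    congr 1
    apply Subtype.ext
    simp only [MulAut.conjNormal_apply, Subgroup.coe_mul, Subgroup.coe_pow, Subgroup.coe_inv, hyr]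
    group
  have r0 : (r : ℂ) ≠ 0 := Nat.cast_ne_zero.2 hr.ne_zero
  have rM : r ∣ p ^ M - 1 := hrd.trans (Nat.pow_sub_one_dvd_pow_sub_one p hd)
  obtain ⟨N, hN⟩ := rM
  have root : ∀ u, m u ≠ 0 → ∃ w : Kˣ, w ^ r = u := fun u hu => by
    have e1 : h ^ N = 1 := Subtype.ext (by
      rw [Subgroup.coe_pow, hyr, ← pow_mul, ← hN, ← hs.card, yq]; rfl)
    have e2 := egφ h N
    rw [e1, tot h] at e2
    have e3 := supp m (fun u => (θ u : ℂ) ^ N) (fun u => by
      rw [norm_pow, Complex.norm_eq_one_of_pow_eq_one (n := p ^ M - 1) (by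
        rw [← Units.val_pow_eq_pow_val, ← map_pow, uq, map_one, Units.val_one]) (by omega), one_pow])
      e2.symm u hu
    have e4 : u ^ N = 1 := hs.inj (Units.ext (by rw [map_pow, map_one]; simpa using e3))
    obtain ⟨g, hg⟩ := IsCyclic.exists_monoid_generator (α := Kˣ)
    obtain ⟨s, rfl⟩ := hg u
    have og : orderOf g = r * N := by
      rw [← hN, ← cK, ← Nat.card_eq_fintype_card]
      exact orderOf_eq_card_of_forall_mem_powers hg
    have e5 : r * N ∣ s * N := by rw [← og, orderOf_dvd_iff_pow_eq_one, pow_mul]; exact e4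
    obtain ⟨s', rfl⟩ := Nat.dvd_of_mul_dvd_mul_right (by
      rcases N with _ | N
      · omega
      · exact Nat.succ_pos N) e5
    exact ⟨g ^ s', by rw [← pow_mul, mul_comm]⟩
  have emχ : em θ χ y = fun w => m (w ^ r) := by
    refine (eg K θ E hs.inj).1 χ y _ fun k => ?_
    by_cases hk : r ∣ k
    · obtain ⟨k, rfl⟩ := hk
      rw [on, egφ h k, ← sum_fiberwise (s := univ) (fun w : Kˣ => w ^ r)
        (fun w => (m (w ^ r) : ℂ) * (θ w : ℂ) ^ (r * k)), mul_sum]
      refine sum_congr rfl fun u _ => ?_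
      rw [sum_congr rfl (g := fun _ => (m u : ℂ) * (θ u : ℂ) ^ k) fun w hw => by
        rw [← (mem_filter.1 hw).2, pow_mul, map_pow, Units.val_pow_eq_pow_val]]
      by_cases hu : m u = 0
      · simp [← hm, hu]
      obtain ⟨w, rfl⟩ := root u hu
      rw [sum_const, (fiber hr hω w).1, card_image_of_injOn (fiber hr hω w).2, card_range,
        nsmul_eq_mul]
    · rw [off k hk]
      have e1 := Equiv.sum_comp (Equiv.mulRight ω) fun w => (m (w ^ r) : ℂ) * (θ w : ℂ) ^ k
      have ωr : ω ^ r = 1 := hω ▸ pow_orderOf_eq_one ω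
      simp only [Equiv.coe_mulRight, mul_pow, ωr, mul_one, map_mul, Units.val_mul, ← mul_assoc,
        ← sum_mul] at e1
      have e2 : (θ ω : ℂ) ^ k ≠ 1 := fun e => hk (by
        rw [← hω, orderOf_dvd_iff_pow_eq_one]
        exact hs.inj (Units.ext (by rw [map_pow, map_one]; simpa using e)))
      exact ((mul_right_eq_self₀.1 e1).resolve_left e2).symm
  have cop : (Nat.card Kˣ).Coprime (p ^ d) := by
    rw [Nat.card_eq_fintype_card, cK]
    refine Nat.Coprime.pow_right d (Nat.Coprime.symm ((Nat.Prime.coprime_iff_not_dvd hp).2 fun e => ?_))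
    exact hp.one_lt.ne' (Nat.dvd_one.1 ((Nat.dvd_sub_iff_right h1M.le
      (dvd_pow_self p hs.pos.ne')).1 e))
  let σ : Equiv.Perm Kˣ := powCoprime cop
  have σa : ∀ u, σ u = u ^ p ^ d := fun _ => rfl
  have mσ : ∀ u, m (σ u) = m u := by
    have e : em θ φ h = fun v => m (σ.symm v) := by
      refine (eg K θ H hs.inj).1 φ h _ fun k => ?_
      have e1 := hq (y ^ (r * k))
      rw [← pow_mul, mul_assoc, on, on] at e1
      rw [← mul_left_cancel₀ r0 e1, egφ h, ← Equiv.sum_comp σ
        (fun v => (m (σ.symm v) : ℂ) * (θ v : ℂ) ^ k)]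
      refine sum_congr rfl fun u _ => ?_
      rw [σ.symm_apply_apply, σa, map_pow, Units.val_pow_eq_pow_val, ← pow_mul, mul_comm k]
    intro u
    have := congrFun e (σ u)
    rwa [σ.symm_apply_apply] at this
  have fr : ∀ t, t ≠ 0 → ∀ (D : ℕ) (u : Kˣ), Hf t (u ^ p ^ D) = Hf t u := fun t ht D => by
    induction D with
    | zero => simp
    | succ D ih => intro u; rw [pow_succ, pow_mul, hs.frob t _ ht, ih]
  have d0 : d ≠ 0 := by rintro rfl; exact hs.pos.ne' (Nat.eq_zero_of_zero_dvd hd)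
  have rt : (r : ZMod p) * t ≠ 0 := by
    refine mul_ne_zero (fun e => ?_) ht
    have e1 := ((ZMod.natCast_eq_zero_iff r p).1 e).trans hrd
    exact hp.one_lt.ne' (Nat.dvd_one.1 ((Nat.dvd_sub_iff_right (Nat.one_le_pow _ _ hp.pos)
      (dvd_pow_self p d0)).1 e1))
  have it : ∀ (k : ℕ) (u : Kˣ), σ^[k] u = u ^ p ^ (d * k) := fun k u => by
    induction k with
    | zero => simp
    | succ k ih => rw [Function.iterate_succ_apply', ih, σa, ← pow_mul, ← pow_add, mul_add, mul_one]
  have key := prod_orbits σ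
    (fun u => (∏ w ∈ univ.filter (fun w : Kˣ => w ^ r = u), Hf t w) ^ (d * m u))
    (fun u => ((∏ i ∈ range r, Hf t (ω ^ i)) * Hf (r * t) u) ^ (d * m u))
    (fun u => by
      rw [mσ]
      congr 1
      refine (prod_equiv σ (fun w => ?_) fun w _ => ?_).symm
      · rw [mem_filter, mem_filter, and_iff_right (mem_univ _), and_iff_right (mem_univ _),
          ← σ.injective.eq_iff (a := w ^ r), σa, σa, σa, ← pow_mul, ← pow_mul, mul_comm]
      · rw [σa, fr t ht])
    (fun u => by rw [mσ, σa, fr _ rt])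
    (fun u => by
      by_cases hu : m u = 0
      · simp [hu]
      obtain ⟨w, rfl⟩ := root u hu
      obtain ⟨M', hM⟩ := hd
      have e1 : Function.minimalPeriod σ (w ^ r) ∣ M' :=
        Function.IsPeriodicPt.minimalPeriod_dvd (by
          change σ^[M'] _ = _
          rw [it, ← hM, uM])
      have e2 := hs.prod r d ω hr ⟨M', hM⟩ hrd hω t (d * Function.minimalPeriod σ (w ^ r)) w ht
        (dvd_mul_right _ _) (hM ▸ Nat.mul_dvd_mul_left d e1)
        (by rw [← it]; exact Function.iterate_minimalPeriod)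
      rw [prod_pow, prod_pow, ← mul_pow] at e2
      rw [(fiber hr hω w).1, prod_image (fiber hr hω w).2, ← pow_mul, ← pow_mul,
        mul_right_comm, pow_mul, pow_mul _ (d * _), e2])
  simp only [gam, emχ]
  rw [← prod_fiberwise (s := univ) (fun w : Kˣ => w ^ r) fun w => Hf t w ^ (d * m (w ^ r))]
  rw [prod_congr rfl (g := fun u => (∏ w ∈ univ.filter (fun w : Kˣ => w ^ r = u), Hf t w) ^ (d * m u))
    fun u _ => by
      rw [← prod_pow]
      exact prod_congr rfl fun w hw => by rw [(mem_filter.1 hw).2], key]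
  simp only [mul_pow, prod_mul_distrib]
  rw [prod_pow_eq_pow_sum, ← mul_sum, ← nn, prod_pow, ← pow_mul]

end H45.KgvVL
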