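/- Simple groups of order `95040`: the Frobenius–Schur indicators. -/
import Cfsg.Agent.H45.MO9
import Cfsg.Agent.H30.Counting

set_option autoImplicit false
set_option linter.unusedSectionVars false

namespace H45.MO
open Cfsg H28 H29 H39 H87 Subgroup
open scoped ComplexConjugate

variable {G : Type*} [Group G] [Fintype G]

/-- The data at the prime `11`. -/
structure DW (w y : G) : Prop where
  hw : orderOf w = 11
  hC : centralizer ({w} : Set G) = zpowers w
  hN : Nat.card (normalizer (zpowers w : Set G)) = 55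
  hyw : y * w * y⁻¹ = w ^ 3

/-- All the data. -/
structure DT (w y s z : G) (c120 c54 c45 c144 θ1 θ2 c99 c66 c176 a1 a2 : IrrCharacter G)
    (R : Finset (IrrCharacter G)) : Prop where
  W : DW w y
  A : D11 c120 c54 c45 c144 θ1 θ2
  B : DB y s c144 c99 c66 c176
  Z : DZ y s z c120 c54 c45 c144 θ1 c99 c66 c176
  R : DR y s z [θ2, θ1, one G, c144, c99, c66, c176, c120, c45, c54] a1 a2 R

theorem exists_DT [IsSimpleGroup G] (hG : Nat.card G = 95040) :
    ∃ (w y s z : G) (c120 c54 c45 c144 θ1 θ2 c99 c66 c176 a1 a2 : IrrCharacter G)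
      (R : Finset (IrrCharacter G)), DT w y s z c120 c54 c45 c144 θ1 θ2 c99 c66 c176 a1 a2 R := by
  obtain ⟨P, w, y, hP, hw, hV, he, hC, hN, hy, hyw⟩ := exists_w11 hG
  obtain ⟨f, θ, θ', δ, ε, A⟩ := exists_DA hG hP hw hV he hC hN
  have i5 : ¬ 5 ∣ (zpowers y).index := by
    rw [H43.index_zpowers (m := 19008) hy hG]; norm_num
  have i11 : ¬ 11 ∣ (zpowers w).index := by
    rw [H43.index_zpowers (m := 8640) hw hG]; norm_num
  let Q : Sylow 5 G := (H43.isPGroup_zpowers hy).toSylow i5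
  have hQ : zpowers y = Q := rfl
  obtain ⟨V, hV⟩ := exists_cpl (P := Q) (by rw [← hQ, Nat.card_zpowers, hy])
  have h11 : ¬ 11 ∣ Nat.card V := fun h => not_dvd_cc hw i11 hC (a := y) (by rw [hy]; norm_num) (by
    rw [cc, ← H43.centralizer_zpowers', hQ, hV.card_cen]; exact h.mul_left _)
  obtain ⟨s, hsV, hs⟩ := H43.exists_mem_orderOf 2 (even_V5 hG A.res hV h11)
  have A' := A.d11 hG hs (hy ▸ orderOf_dvd_natCard _
    (mem_centralizer_singleton.2 (hV.le hsV y (mem_zpowers y))))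
  obtain ⟨c99, c66, c176, B⟩ := exists_DB hG A' A.res hV hQ hy hsV hs
  obtain ⟨z, Z⟩ := exists_DZ hG A' B
  obtain ⟨a1, a2, R, D⟩ := exists_DR hG A' A'.d144 B Z
  exact ⟨w, y, s, z, _, _, _, _, _, _, _, _, _, a1, a2, R, ⟨hw, hC, hN, hyw⟩, A', B, Z, D⟩

/-- The complex conjugate character. -/
noncomputable def cj (χ : IrrCharacter G) : IrrCharacter G := ⟨_, χ.2.conj⟩

theorem cj_apply (χ : IrrCharacter G) (g : G) : (cj χ).1 g = conj (χ.1 g) := rfl

theorem dg_cj (χ : IrrCharacter G) : dg (cj χ) = dg χ :=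
  charDegree_congr χ.2.isCharacter.conj_apply_one

theorem cj_cj (χ : IrrCharacter G) : cj (cj χ) = χ :=
  Subtype.ext (funext fun _ => Complex.conj_conj _)

theorem cj_eq_iff {χ : IrrCharacter G} : cj χ = χ ↔ ∀ g, (χ.1 g).im = 0 := by
  rw [H30.real_iff_conj_eq, Subtype.ext_iff]; rfl

variable {w y s z : G} {c120 c54 c45 c144 θ1 θ2 c99 c66 c176 a1 a2 : IrrCharacter G}
  {R : Finset (IrrCharacter G)}

theorem D11.eq16 (A : D11 c120 c54 c45 c144 θ1 θ2) {ψ : IrrCharacter G} (h : dg ψ = 16) :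
    ψ = θ1 ∨ ψ = θ2 := by
  rcases A.cases ψ with k | k | k | k | k | k | k
  all_goals first | exact k.1 | omega

theorem D11.real16 (A : D11 c120 c54 c45 c144 θ1 θ2) {g : G} (hg : ¬ 11 ∣ orderOf g) :
    (θ1.1 g).im = 0 := by
  rw [← Complex.conj_eq_iff_im, ← cj_apply]
  rcases A.eq16 ((dg_cj θ1).trans A.d16) with h | h <;> rw [h]
  exact A.uni g hg

theorem D11.not_real (hG : Nat.card G = 95040) (A : D11 c120 c54 c45 c144 θ1 θ2) (W : DW w y)
    {ψ : IrrCharacter G} (h : dg ψ = 16) : cj ψ ≠ ψ := fun e => by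
  have h2 : ∀ χ, dg χ = 16 → cj χ = χ := fun χ hχ => by
    by_contra hn
    have a := A.eq16 h
    have b := A.eq16 hχ
    have c := A.eq16 ((dg_cj χ).trans hχ)
    have d : cj χ ≠ ψ := fun k => hn (by rw [k, ← cj_cj χ, k, e])
    have d' : χ ≠ ψ := fun k => hn (by rw [k, e])
    rcases a with a | a <;> rcases b with b | b <;> rcases c with c | c <;>
      first | exact hn (c.trans b.symm) | exact d (c.trans a.symm) | exact d' (b.trans a.symm)
  have h3 : ∀ χ : IrrCharacter G, χ.1 w⁻¹ = χ.1 w := fun χ => by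
    rw [χ.2.isCharacter.apply_inv]
    by_cases h11 : 11 ∣ dg χ
    · rw [eq_zero_of_pow_factorization_dvd (p := 11) (by norm_num) χ.2 (by
        rwa [hG, show (95040 : ℕ).factorization 11 = 1 by decide +kernel, pow_one])
        W.hw.symm.dvd, map_zero]
    · rw [← cj_apply]
      by_cases h16 : dg χ = 16
      · rw [h2 χ h16]
      have a := dg_cj χ
      rcases A.cases χ with k | k | k | k | k | k | k <;>
        rcases A.cases (cj χ) with l | l | l | l | l | l | l <;>
        first | omega | rw [l.1.trans k.1.symm]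
  have h4 := H43.col_ne (g := w) (h := w⁻¹) fun k => by
    obtain ⟨g, hg⟩ := isConj_iff.1 k
    exact not_inverts W.hw W.hN hg
  simp only [h3] at h4
  exact card_ne_zero' _ ((H43.col_self w).symm.trans h4)

theorem exists_nu (χ : IrrCharacter G) : ∃ n : ℤ, H30.fsInd χ.1 = n ∧ n ≤ 1 ∧
    (n = 0 ↔ cj χ ≠ χ) := by
  by_cases h : cj χ = χ
  · rcases H30.fsInd_of_real χ.2 (cj_eq_iff.1 h) with k | k
    · exact ⟨1, by simp [k], le_rfl, by simp [h]⟩
    · exact ⟨-1, by simp [k], by norm_num, by simp [h]⟩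
  · exact ⟨0, by simp [H30.fsInd_eq_zero_of_not_real χ.2 (mt cj_eq_iff.2 h)], by norm_num,
      by simp [h]⟩

theorem card_sqrt_ge (hG : Nat.card G = 95040) {s z : G} (hs : orderOf s = 2) (hz : orderOf z = 2)
    (cs : cc s = 240) (cz : cc z = 192) : 892 ≤ Nat.card {x : G // x * x = 1} := by
  classical
  have h1 := card_isConj_mul_card_centralizer s
  have h2 := card_isConj_mul_card_centralizer z
  rw [hG, Nat.subtype_card (Finset.univ.filter (IsConj s)) (by simp)] at h1
  rw [hG, Nat.subtype_card (Finset.univ.filter (IsConj z)) (by simp)] at h2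
  have hd : Disjoint (Finset.univ.filter (IsConj s)) (Finset.univ.filter (IsConj z)) :=
    Finset.disjoint_filter.2 fun x _ a b => not_isConj_cc (by omega) (a.trans b.symm)
  have hn : (1 : G) ∉ Finset.univ.filter (IsConj s) ∪ Finset.univ.filter (IsConj z) := by
    simp [H83.ne_one_of_orderOf_two hs, H83.ne_one_of_orderOf_two hz]
  rw [Nat.subtype_card (Finset.univ.filter fun x : G => x * x = 1) (by simp)]
  refine le_trans ?_ (Finset.card_le_card (s := insert 1 (Finset.univ.filter (IsConj s) ∪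
    Finset.univ.filter (IsConj z))) fun x hx => ?_)
  · rw [Finset.card_insert_of_notMem hn, Finset.card_union_of_disjoint hd]
    change _ * cc s = _ at h1
    change _ * cc z = _ at h2
    rw [cs] at h1
    rw [cz] at h2
    omega
  · simp only [Finset.mem_insert, Finset.mem_union, Finset.mem_filter, Finset.mem_univ,
      true_and] at hx ⊢
    rcases hx with rfl | h | h
    exacts [one_mul 1, H31.mul_self_of_isConj (H83.mul_self_of_orderOf_two hs) h,
      H31.mul_self_of_isConj (H83.mul_self_of_orderOf_two hz) h]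

namespace DT
variable (D : DT w y s z c120 c54 c45 c144 θ1 θ2 c99 c66 c176 a1 a2 R)
include D

theorem dgs : dg θ2 = 16 ∧ dg θ1 = 16 ∧ dg (one G) = 1 ∧ dg c144 = 144 ∧ dg c99 = 99 ∧
    dg c66 = 66 ∧ dg c176 = 176 ∧ dg c120 = 120 ∧ dg c45 = 45 ∧ dg c54 = 54 ∧ dg a1 = 11 ∧
      dg a2 = 11 :=
  ⟨D.A.d16', D.A.d16, dg_one, D.A.d144, D.B.d99, D.B.d66, D.B.d176, D.A.d120, D.A.d45, D.A.d54,
    D.R.d1, D.R.d2⟩

theorem fs (hG : Nat.card G = 95040) :
    (∀ χ : IrrCharacter G, dg χ ≠ 16 → cj χ = χ) ∧ ∀ x, x * x ≠ s := by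
  choose ν h1 h2 h3 using exists_nu (G := G)
  let F : IrrCharacter G → ℤ := fun χ => if dg χ = 16 then 0 else 1
  have k1 : ∀ χ, ν χ ≤ F χ := fun χ => by
    simp only [F]
    split_ifs with h
    · exact ((h3 χ).2 (D.A.not_real hG D.W h)).le
    · exact h2 χ
  have k2 : ∀ g, IC g → (Nat.card {x : G // x * x = g} : ℤ) = ∑ χ, ν χ * iv χ g := fun g hg => by
    have := H30.card_sqrt_eq_sum g
    simp only [h1, ← hg _] at this
    exact_mod_cast this
  have k3 : ∀ g c, (∀ ψ ∈ R, iv ψ g = c) → ∑ ψ ∈ R, F ψ * iv ψ g = 3 * c := fun g c h => by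
    rw [Finset.sum_congr rfl (g := fun _ => c) fun ψ hψ => by simp [F, D.R.dR ψ hψ, h ψ hψ]]
    simp [D.R.card]
  have k4 : ∑ χ, F χ * iv χ 1 = 892 := by
    rw [D.R.sumZ, k3 1 55 fun ψ hψ => by rw [iv_one, D.R.dR ψ hψ]; rfl]
    simp [F, iv_one, D.dgs]
  have k5 := card_sqrt_ge hG D.B.hs D.Z.hz D.B.cs D.Z.cz
  have k6 := k2 1 ic_one
  have k7 : ∀ χ ∈ Finset.univ, 0 ≤ (F χ - ν χ) * iv χ 1 := fun χ _ =>
    mul_nonneg (sub_nonneg.2 (k1 χ)) (by rw [iv_one]; positivity)
  have k8 : ∀ χ, ν χ = F χ := fun χ => by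
    have := (Finset.sum_eq_zero_iff_of_nonneg k7).1 (le_antisymm (by
      simp only [sub_mul, Finset.sum_sub_distrib]; omega) (Finset.sum_nonneg k7)) χ
      (Finset.mem_univ χ)
    have := (mul_eq_zero.1 this).resolve_right (by rw [iv_one]; exact_mod_cast (dg_pos χ).ne')
    omega
  refine ⟨fun χ h => by_contra fun e => ?_, fun x hx => ?_⟩
  · have := (h3 χ).2 e
    simp [k8, F, h] at this
  · have k9 := k2 s (ic_inv D.B.toDC.ss)
    simp only [k8] at k9
    rw [D.R.sumZ, k3 s (-5) D.R.sR] at k9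
    have : Nonempty {x : G // x * x = s} := ⟨⟨x, hx⟩⟩
    have := Nat.card_pos (α := {x : G // x * x = s})
    simp [F, D.dgs, D.R.v1, D.R.v2, D.Z.vs, D.B.vs, iv_triv, -Nat.card_pos] at k9
    omega

end DT

end H45.MO
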