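/- Simple groups of order `95040`: a character of degree `11` with value `3` at an element of
order `4`. -/
import Cfsg.Agent.H45.MO10

set_option autoImplicit false
set_option linter.unusedSectionVars false

namespace H45.MO
open Cfsg H28 H29 H39 H87 Subgroup
open scoped ComplexConjugate

theorem sum_four {ι : Type*} (ε : ι → ℂ) (h : ∀ i, ε i ^ 4 = 1) (s : Finset ι) :
    ∃ a b c d : ℕ, s.card = a + b + c + d ∧ ∑ i ∈ s, ε i = a - b + (c - d) * Complex.I ∧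
      ∑ i ∈ s, ε i ^ 2 = a + b - c - d ∧
      ∏ i ∈ s, ε i = (-1) ^ b * (Complex.I ^ c * (-Complex.I) ^ d) := by
  classical
  induction s using Finset.induction_on with
  | empty => exact ⟨0, 0, 0, 0, by simp⟩
  | insert x s hx ih =>
    obtain ⟨a, b, c, d, h0, h1, h2, h3⟩ := ih
    rw [Finset.sum_insert hx, Finset.sum_insert hx, Finset.prod_insert hx,
      Finset.card_insert_of_notMem hx, h0, h1, h2, h3]
    have : (ε x - 1) * (ε x + 1) * (ε x - Complex.I) * (ε x + Complex.I) = 0 := by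
      linear_combination h x - (ε x ^ 2 - 1) * Complex.I_sq
    simp only [mul_eq_zero, sub_eq_zero, add_eq_zero_iff_eq_neg] at this
    rcases this with ((e | e) | e) | e <;> rw [e]
    · exact ⟨a + 1, b, c, d, by ring, by push_cast; ring, by push_cast; ring, by ring⟩
    · exact ⟨a, b + 1, c, d, by ring, by push_cast; ring, by push_cast; ring, by ring⟩
    · exact ⟨a, b, c + 1, d, by ring, by push_cast; ring,
        by push_cast; linear_combination Complex.I_sq, by ring⟩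
    · exact ⟨a, b, c, d + 1, by ring, by push_cast; ring,
        by push_cast; linear_combination Complex.I_sq, by ring⟩

theorem arithS {a2 a1 t2 t1 o c144 c99 c66 c176 c120 c45 c54 r : ℕ}
    (e1 : 11 * a2 + 11 * a1 + 16 * t2 + 16 * t1 + o + 144 * c144 + 99 * c99 + 66 * c66 +
      176 * c176 + 120 * c120 + 45 * c45 + 54 * c54 + 55 * r = 66)
    (e2 : a2 + a1 + t2 + t1 = c54) (e3 : o + c66 + c176 = 1 + c144 + c99) :
    (r = 0 ∧ t2 = 0 ∧ t1 = 0 ∧ c144 = 0 ∧ c99 = 0 ∧ c176 = 0 ∧ c120 = 0 ∧ c45 = 0) ∧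
      ((o = 1 ∧ c66 = 0 ∧ c54 = 1 ∧ a1 + a2 = 1) ∨
        (o = 0 ∧ c66 = 1 ∧ c54 = 0 ∧ a1 = 0 ∧ a2 = 0)) := by
  obtain rfl : c144 = 0 := by omega
  obtain rfl : c99 = 0 := by omega
  obtain rfl : c176 = 0 := by omega
  obtain rfl : c120 = 0 := by omega
  obtain rfl | rfl : c54 = 0 ∨ c54 = 1 := by omega
  · obtain ⟨rfl, rfl, rfl, rfl⟩ : a2 = 0 ∧ a1 = 0 ∧ t2 = 0 ∧ t1 = 0 := by omega
    omega
  · omega

variable {G : Type*} [Group G] [Fintype G]

theorem four_val (hG : commutator G = ⊤) (χ : IrrCharacter G) {g : G} (hg : g ^ 2 * g ^ 2 = 1)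
    (hr : (χ.1 g).im = 0) : (iv χ g : ℂ) = χ.1 g ∧ ∃ a k : ℕ, iv χ g = a - 2 * k ∧
      dg χ + iv χ (g ^ 2) = 2 * a + 4 * k := by
  obtain ⟨ε, h1, h2, h3⟩ := H43.exists_eigen_det hG χ.2.isCharacter (coe_dg χ).symm g
  obtain ⟨a, b, c, d, k0, k1, k2, k3⟩ := sum_four ε (fun i => by
    obtain ⟨c, hc⟩ := orderOf_dvd_of_pow_eq_one (x := g) (n := 4) (by rwa [← pow_add] at hg)
    rw [hc, pow_mul, h1, one_pow]) Finset.univ
  have e1 := h2 1
  simp only [pow_one] at e1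
  rw [← e1] at k1
  rw [← h2, ← ic_inv hg] at k2
  have hc : c = d := by
    rw [k1] at hr
    simpa [sub_eq_zero] using hr
  subst hc
  rw [h3, ← mul_pow, mul_neg, Complex.I_mul_I, neg_neg, one_pow, mul_one, eq_comm,
    neg_one_pow_eq_one_iff_even (by norm_num)] at k3
  obtain ⟨k, rfl⟩ := k3
  have e2 : χ.1 g = ((a - 2 * k : ℤ) : ℂ) := by rw [k1]; push_cast; ring
  have e3 : iv χ (g ^ 2) = a + (k + k) - c - c := by exact_mod_cast k2
  rw [Finset.card_univ, Fintype.card_fin] at k0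
  exact ⟨coe_iv ⟨_, e2⟩, a, k, iv_eq e2, by omega⟩

variable {w y s z : G} {c120 c54 c45 c144 θ1 θ2 c99 c66 c176 a1 a2 : IrrCharacter G}
  {R : Finset (IrrCharacter G)}

namespace DT
variable [IsSimpleGroup G] (D : DT w y s z c120 c54 c45 c144 θ1 θ2 c99 c66 c176 a1 a2 R)
  (hG : Nat.card G = 95040)
include D hG

theorem conj_sq {g : G} (hg : g * y * g⁻¹ = y ^ 2) : IsConj z (g ^ 2) := by
  have C := D.B.toDC
  have z2 := H83.mul_self_of_orderOf_two D.Z.hz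
  have h1 : g ^ 2 * y * (g ^ 2)⁻¹ = y⁻¹ := by
    rw [H43.conj_pow_iter hg, eq_comm, inv_eq_iff_mul_eq_one, ← pow_succ']
    exact orderOf_dvd_iff_pow_eq_one.1 (by rw [C.hy]; norm_num)
  have h2 : Commute (g ^ 2 * z) y := by
    rw [commute_iff_eq, ← mul_inv_eq_iff_eq_mul]
    calc g ^ 2 * z * y * (g ^ 2 * z)⁻¹ = g ^ 2 * (z * y * z⁻¹) * (g ^ 2)⁻¹ := by group
      _ = (g ^ 2 * y * (g ^ 2)⁻¹)⁻¹ := by rw [D.Z.inv]; group
      _ = y := by rw [h1, inv_inv]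
  obtain ⟨k, hk | hk⟩ := C.cen _ h2
  · have := (mem_Iv.1 (mul_mem_Iv C.odd z2 (mem_Iv.2 ⟨IsConj.refl z, D.Z.inv⟩)
      (npow_mem_zpowers y k))).1
    rwa [← hk, mul_assoc, z2, mul_one] at this
  · have := (mem_Iv.1 (mul_mem_Iv C.odd C.ss (mem_Iv.2 ⟨D.Z.zs, (C.mul_s_spec z2 D.Z.inv).2⟩)
      (npow_mem_zpowers y k))).1
    rw [mul_inv_eq_iff_eq_mul.1 (C.comm_of_inv D.Z.inv), ← mul_assoc, ← hk, mul_assoc, z2,
      mul_one] at this
    obtain ⟨c, hc⟩ := isConj_iff.1 this.symm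
    exact absurd (by rw [← hc, conj_mul, pow_two]) ((D.fs hG).2 (c * g * c⁻¹))

theorem vals_ys : iv θ2 (y * s) = -1 ∧ iv θ1 (y * s) = -1 ∧ iv (one G) (y * s) = 1 ∧
    iv c144 (y * s) = -1 ∧ iv c99 (y * s) = -1 ∧ iv c66 (y * s) = 1 ∧ iv c176 (y * s) = 1 ∧
    iv c120 (y * s) = 0 ∧ iv c45 (y * s) = 0 ∧ iv c54 (y * s) = 1 := by
  have v := D.B.val (y * s) (by rw [D.B.toDC.order_ys]; norm_num)
  have u := vals_y hG D.A D.B
  have d := D.dgs
  refine ⟨?_, ?_, iv_triv _, iv_eq (by simp [v]), iv_eq (by simp [v]), iv_eq (by simp [v]),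
    iv_eq (by simp [v]), ?_, ?_, ?_⟩ <;>
    rw [D.B.out' (not_mem_of_dg (by simp [d]))] <;> simp [u]

theorem block {g : G} (h5 : ¬ 5 ∣ orderOf g) :
    a2.1 g + a1.1 g + θ2.1 g + θ1.1 g = c54.1 g := by
  have C := D.B.toDC
  obtain ⟨x, hx⟩ := D.B.rat
  obtain ⟨iy, iys⟩ := C.ic hx
  have h1 := H43.col_ne (g := g) (h := y) (H43.not_isConj_of_orderOf fun e => h5 (by
    rw [e, C.hy]))
  have h2 := H43.col_ne (g := g) (h := y * s) (H43.not_isConj_of_orderOf fun e => h5 (by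
    rw [e, C.order_ys]; norm_num))
  simp only [← iy _, ← iys _, map_intCast] at h1 h2
  rw [D.R.sumZ, Finset.sum_eq_zero fun ψ hψ => by simp [D.R.yR ψ hψ]] at h1 h2
  simp [vals_y hG D.A D.B, D.vals_ys hG, D.R.y1, D.R.y2] at h1 h2
  linear_combination (h1 - h2) / 2

theorem symSq {χ : IrrCharacter G} (hd : dg χ = 11) (hy : iv χ y = 1 ∧ iv χ (y * s) = -1)
    (hz : iv χ z = 3) : ∃ ψ, (ψ = a1 ∨ ψ = a2) ∧
      ∀ g, (χ.1 g ^ 2 + χ.1 (g * g)) / 2 = 1 + ψ.1 g + c54.1 g := by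
  have C := D.B.toDC
  obtain ⟨x, hx⟩ := D.B.rat
  obtain ⟨iy, iys⟩ := C.ic hx
  have z2 := H83.mul_self_of_orderOf_two D.Z.hz
  obtain ⟨m, -, hm⟩ := (H30.isCharacter_symSq χ.2.isCharacter).exists_nat_coeffs
  have hm' : ∀ g, (χ.1 g ^ 2 + χ.1 (g * g)) / 2 = ∑ ψ, m ψ * ψ.1 g := fun g => by
    simpa [Finset.sum_apply] using congrFun hm g
  have key : ∀ g, IC g → IC (g * g) → iv χ g ^ 2 + iv χ (g * g) = 2 * ∑ ψ, m ψ * iv ψ g :=
    fun g h1 h2 => by
      have := hm' g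
      simp only [← h1 _, ← h2 _] at this
      exact_mod_cast (div_eq_iff two_ne_zero).1 this |>.trans (mul_comm _ _)
  have c1 : IsConj y (y * y) := isConj_iff.2 ⟨x, hx.trans (pow_two y)⟩
  have c2 : y * s * (y * s) = y * y := by
    rw [mul_assoc, ← mul_assoc s, ← C.cm.eq, mul_assoc y s s, C.ss, mul_one]
  have e1 := key 1 ic_one (by rw [one_mul]; exact ic_one)
  have e2 := key y iy (iy.conj c1)
  have e3 := key (y * s) iys (by rw [c2]; exact iy.conj c1)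
  have e4 := key z (ic_inv z2) (by rw [z2]; exact ic_one)
  rw [one_mul, D.R.sumZ, Finset.sum_congr rfl (g := fun ψ => (m ψ : ℤ) * 55) fun ψ hψ => by
    rw [iv_one, D.R.dR ψ hψ]; rfl, ← Finset.sum_mul, ← Nat.cast_sum] at e1
  rw [← iv_conj c1, D.R.sumZ, Finset.sum_eq_zero fun ψ hψ => by simp [D.R.yR ψ hψ]] at e2
  rw [c2, ← iv_conj c1, D.R.sumZ, Finset.sum_eq_zero fun ψ hψ => by simp [D.R.yR ψ hψ]] at e3
  generalize hr : ∑ ψ ∈ R, m ψ = r at e1
  simp [vals_y hG D.A D.B, D.vals_ys hG, D.R.y1, D.R.y2, D.dgs, iv_one, hd, hy] at e1 e2 e3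
  obtain ⟨k, l⟩ := arithS (a2 := m a2) (a1 := m a1) (t2 := m θ2) (t1 := m θ1) (o := m (one G))
    (c144 := m c144) (c99 := m c99) (c66 := m c66) (c176 := m c176) (c120 := m c120)
    (c45 := m c45) (c54 := m c54) (r := r) (by zify; linarith) (by zify; linarith)
    (by zify; linarith)
  have r0 : ∀ ψ ∈ R, m ψ = 0 := Finset.sum_eq_zero_iff.1 (hr.trans k.1)
  rw [z2, D.R.sumZ, Finset.sum_eq_zero fun ψ hψ => by simp [r0 ψ hψ]] at e4
  replace l := l.resolve_right fun l => by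
    simp [D.Z.vz, iv_one, hd, hz, k, l] at e4
  have k' : (m a1 = 1 ∧ m a2 = 0) ∨ (m a1 = 0 ∧ m a2 = 1) := by
    have := l.2.2.2
    clear e1 e2 e3 e4
    omega
  rcases k' with k' | k'
  · refine ⟨a1, Or.inl rfl, fun g => ?_⟩
    rw [hm', D.R.sumZ, Finset.sum_eq_zero fun ψ hψ => by simp [r0 ψ hψ]]
    simp [k, k', l]
    ring
  · refine ⟨a2, Or.inr rfl, fun g => ?_⟩
    rw [hm', D.R.sumZ, Finset.sum_eq_zero fun ψ hψ => by simp [r0 ψ hψ]]
    simp [k, k', l]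
    ring

theorem exists_three {g : G} (hg : g * y * g⁻¹ = y ^ 2) : orderOf g = 4 ∧ ∃ χ : IrrCharacter G,
    dg χ = 11 ∧ iv χ y = 1 ∧ χ.1 g = 3 ∧ χ.1 (g ^ 2) = 3 := by
  have hc := commutator_eq_top (nonab hG)
  have h1 := D.conj_sq hG hg
  have h2 := H31.mul_self_of_isConj (H83.mul_self_of_orderOf_two D.Z.hz) h1
  have h4 : orderOf g = 4 := by
    refine orderOf_eq_prime_pow (p := 2) (n := 1) (fun e => ?_) (by rwa [← pow_add] at h2)
    rw [pow_one] at e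
    exact H83.ne_one_of_orderOf_two D.Z.hz (isConj_one_left.1 (e ▸ h1))
  have re : ∀ χ : IrrCharacter G, dg χ ≠ 16 → (χ.1 g).im = 0 := fun χ h =>
    cj_eq_iff.1 ((D.fs hG).1 χ h) g
  obtain ⟨i1, p1, q1, u1, v1⟩ := four_val hc a1 h2 (re _ (by rw [D.R.d1]; norm_num))
  obtain ⟨i2, p2, q2, u2, v2⟩ := four_val hc a2 h2 (re _ (by rw [D.R.d2]; norm_num))
  obtain ⟨i3, p3, q3, u3, v3⟩ := four_val hc θ1 h2 (D.A.real16 (by rw [h4]; norm_num))
  have i4 := (four_val hc c54 h2 (re _ (by rw [D.A.d54]; norm_num))).1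
  have w1 : iv a1 (g ^ 2) = 3 := (iv_conj h1 a1).symm.trans D.R.v1.1
  have w2 : iv a2 (g ^ 2) = 3 := (iv_conj h1 a2).symm.trans D.R.v2.1
  rw [w1, D.R.d1] at v1
  rw [w2, D.R.d2] at v2
  rw [← iv_conj h1, D.Z.vz.2.2.2.2.1, D.A.d16] at v3
  have b := D.block hG (g := g) (by rw [h4]; norm_num)
  rw [D.A.uni g (by rw [h4]; norm_num), ← i1, ← i2, ← i3, ← i4] at b
  have b' : iv a2 g + iv a1 g + iv θ1 g + iv θ1 g = iv c54 g := by exact_mod_cast b
  have n : iv c54 g ^ 2 ≤ 192 := by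
    have a := Finset.single_le_sum (f := fun χ : IrrCharacter G => ‖χ.1 g‖ ^ 2)
      (fun _ _ => sq_nonneg _) (Finset.mem_univ c54)
    have a' := H43.col_self g
    simp only [Complex.mul_conj, Complex.normSq_eq_norm_sq] at a'
    have a'' : ∑ χ : IrrCharacter G, ‖χ.1 g‖ ^ 2 = cc g := by exact_mod_cast a'
    have c : cc g ≤ 192 := by
      rw [← D.Z.cz, cc, cc, card_centralizer_eq_of_isConj h1]
      exact card_le_of_le fun x hx => mem_centralizer_singleton.2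
        (Commute.pow_right (mem_centralizer_singleton.1 hx) 2)
    simp only [a'', ← i4, Complex.norm_intCast, sq_abs] at a
    have : iv c54 g ^ 2 ≤ cc g := by exact_mod_cast a
    omega
  have n' : iv c54 g < 14 := by nlinarith
  have sq : ∀ χ : IrrCharacter G, dg χ = 11 → iv χ y = 1 ∧ iv χ (y * s) = -1 → iv χ z = 3 →
      (iv χ g : ℂ) = χ.1 g → iv χ g ^ 2 + 1 = 2 * iv a1 g + 2 * iv c54 g ∨
        iv χ g ^ 2 + 1 = 2 * iv a2 g + 2 * iv c54 g := fun χ a b c d => by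
    obtain ⟨ψ, hψ, e⟩ := D.symSq hG a b c
    have e := e g
    rw [← pow_two, ← ic_inv h2, ← iv_conj h1, c, ← d, ← i4] at e
    rcases hψ with rfl | rfl
    · left
      rw [← i1] at e
      have : ((iv χ g ^ 2 + 1 : ℤ) : ℂ) = (2 * iv ψ g + 2 * iv c54 g : ℤ) := by
        push_cast at e ⊢; linear_combination 2 * e
      exact_mod_cast this
    · right
      rw [← i2] at e
      have : ((iv χ g ^ 2 + 1 : ℤ) : ℂ) = (2 * iv ψ g + 2 * iv c54 g : ℤ) := by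
        push_cast at e ⊢; linear_combination 2 * e
      exact_mod_cast this
  have s1 := sq a1 D.R.d1 D.R.y1 D.R.v1.1 i1
  have s2 := sq a2 D.R.d2 D.R.y2 D.R.v2.1 i2
  have k : iv a1 g = 3 ∨ iv a2 g = 3 := by
    have t1 : iv a1 g = 7 ∨ iv a1 g = 3 ∨ iv a1 g = -1 ∨ iv a1 g = -5 := by omega
    have t2 : iv a2 g = 7 ∨ iv a2 g = 3 ∨ iv a2 g = -1 ∨ iv a2 g = -5 := by omega
    rcases t1 with t | t | t | t <;> rcases t2 with t' | t' | t' | t' <;>
      rw [t, t'] at s1 s2 <;> omega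
  refine ⟨h4, ?_⟩
  rcases k with k | k
  · exact ⟨a1, D.R.d1, D.R.y1.1, by rw [← i1, k]; simp, by rw [← ic_inv h2, w1]; simp⟩
  · exact ⟨a2, D.R.d2, D.R.y2.1, by rw [← i2, k]; simp, by rw [← ic_inv h2, w2]; simp⟩

end DT

end H45.MO
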