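/- Simple groups of order `95040` are isomorphic to `M₁₂`. -/
import Cfsg.Agent.H45.MO11
import Cfsg.Agent.H43.M11E

set_option autoImplicit false
set_option linter.unusedSectionVars false

namespace H45.MO
open Cfsg H28 H29 H39 H87 Subgroup MulAction H43 H43.P12
open scoped ComplexConjugate

namespace Q12

/-- The element of order `4`. -/
def U0 : Equiv.Perm (Fin 12) := ⟨![0, 1, 6, 9, 5, 3, 10, 2, 8, 4, 7, 11],
  ![0, 1, 7, 5, 9, 4, 2, 10, 8, 3, 6, 11], by decide, by decide⟩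
/-- The involution moving the last point. -/
def S0 : Equiv.Perm (Fin 12) := ⟨![11, 8, 3, 2, 10, 7, 9, 5, 1, 6, 4, 0],
  ![11, 8, 3, 2, 10, 7, 9, 5, 1, 6, 4, 0], by decide, by decide⟩
/-- The candidates. -/
def mk (Z : Fin 12 → Fin 12) (a b c d : Fin 12) : Fin 12 → Fin 12 :=
  ![a, c, d, Z c, Z (Z (Z (Z c))), Z (Z (Z c)), Z d, Z (Z d), Z (Z (Z (Z d))), Z (Z c),
    Z (Z (Z d)), b]

theorem certU : ∀ c d : Fin 12, (∃ i j, i ≠ j ∧ mk Z 0 11 c d i = mk Z 0 11 c d j) ∨
    (∃ k : Fin 5, ∀ x, mk Z 0 11 c d x = (Y ^ (k : ℕ) * U0) x) ∨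
    (∃ k : Fin 5, ∀ x, σ (mk Z 0 11 c d (σ⁻¹ x)) = (Y ^ (k : ℕ) * U0) x) ∨
    (∃ i j : Fin 11, ∃ x, (W^[i] ∘ mk Z 0 11 c d ∘ W^[j] ∘ mk Z 0 11 c d)^[7] x = x ∧
      (W^[i] ∘ mk Z 0 11 c d ∘ W^[j] ∘ mk Z 0 11 c d) x ≠ x) := by
  decide +kernel

theorem certS : ∀ c d : Fin 12, (∃ i j, i ≠ j ∧ mk Y 11 0 c d i = mk Y 11 0 c d j) ∨
    (∃ x, mk Y 11 0 c d (U0 x) ≠ U0 (mk Y 11 0 c d x)) ∨ (∀ x, mk Y 11 0 c d x = S0 x) ∨
    (∃ x, (W^[9] ∘ U0 ∘ mk Y 11 0 c d)^[7] x = x ∧ (W^[9] ∘ U0 ∘ mk Y 11 0 c d) x ≠ x) := by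
  decide +kernel

theorem eq_mk {U : Equiv.Perm (Fin 12)} {Z : Fin 12 → Fin 12} (h2 : ∀ i, U (Y i) = Z (U i)) :
    ⇑U = mk Z (U 0) (U 11) (U 1) (U 2) := by
  have a3 : U 3 = _ := h2 1
  have a9 : U 9 = _ := h2 3
  have a5 : U 5 = _ := h2 9
  have a4 : U 4 = _ := h2 5
  have a6 : U 6 = _ := h2 2
  have a7 : U 7 = _ := h2 6
  have a10 : U 10 = _ := h2 7
  have a8 : U 8 = _ := h2 10
  rw [a3] at a9
  rw [a9] at a5
  rw [a5] at a4
  rw [a6] at a7
  rw [a7] at a10
  rw [a10] at a8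
  funext i
  fin_cases i
  exacts [rfl, rfl, rfl, a3, a4, a5, a6, a7, a8, a9, a10, rfl]

/-- The standard copy. -/
def G1 : Subgroup (Equiv.Perm (Fin 12)) := closure {W, Y, U0, S0}

theorem no_seven {K : Subgroup (Equiv.Perm (Fin 12))} (hK : Nat.card K = 95040)
    {f : Equiv.Perm (Fin 12)} (hf : f ∈ K) {x : Fin 12} (h : f^[7] x = x) : f x = x := by
  rw [← Equiv.Perm.coe_pow] at h
  have h4 : zpowers (f ^ 7) ≤ stabilizer _ x := zpowers_le.2 h
  exact h4 (mem_zpowers_pow_iff.2 (Nat.Coprime.coprime_dvd_right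
    (hK ▸ orderOf_dvd_natCard _ hf) (show Nat.Coprime 7 95040 by norm_num)))

theorem closure_eq' {a U S : Equiv.Perm (Fin 12)} (ha : a = W ∨ a = W⁻¹) {k : ℕ}
    (hU : U = Y ^ k * U0) (hK : Nat.card (closure {a, Y, U, S}) = 95040) (h1 : S * Y = Y * S)
    (h2 : S * U = U * S) (h3 : S 11 ≠ 11) : closure {a, Y, U, S} = G1 := by
  have ha' : a ∈ closure {a, Y, U, S} := subset_closure (by simp)
  have hY' : Y ∈ closure {a, Y, U, S} := subset_closure (by simp)
  have hb' : U ∈ closure {a, Y, U, S} := subset_closure (by simp)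
  have hS' : S ∈ closure {a, Y, U, S} := subset_closure (by simp)
  have hW' : W ∈ closure {a, Y, U, S} := by
    rcases ha with rfl | rfl
    exacts [ha', inv_mem_iff.1 ha']
  have hU' : U0 ∈ closure {a, Y, U, S} := (mul_mem_cancel_left (pow_mem hY' k)).1 (hU ▸ hb')
  have h4 : ∀ i, S (Y i) = Y (S i) := fun i => congrArg (fun f : Equiv.Perm (Fin 12) => f i) h1
  have h5 : ∀ i, Y i = i → i = 0 ∨ i = 11 := by decide
  have h6 : S 11 = 0 := (h5 _ (h4 11).symm).resolve_right h3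
  have h7 : S 0 = 11 := (h5 _ (h4 0).symm).resolve_left fun e =>
    absurd (S.injective (e.trans h6.symm)) (by decide)
  have h8 := eq_mk h4
  have h9 : S * U0 = U0 * S := by
    rw [hU, ← mul_assoc, (Commute.pow_right h1 k).eq, mul_assoc, mul_assoc] at h2
    exact mul_left_cancel h2
  have := certS (S 1) (S 2)
  rw [h6, h7] at h8
  rw [← h8] at this
  obtain rfl : S = S0 := by
    rcases this with ⟨i, j, hij, h⟩ | ⟨x, h⟩ | h | ⟨x, h, h'⟩
    · exact absurd (S.injective h) hij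
    · exact absurd (congrArg (fun f : Equiv.Perm (Fin 12) => f x) h9) h
    · exact Equiv.ext h
    · exact absurd (no_seven hK (mul_mem (pow_mem hW' 9) (mul_mem hU' hS')) h) h'
  have hW : W ∈ G1 := subset_closure (by simp)
  have hY : Y ∈ G1 := subset_closure (by simp)
  refine le_antisymm ((closure_le _).2 ?_) ((closure_le _).2 ?_)
  · rintro _ (rfl | rfl | rfl | rfl)
    · rcases ha with rfl | rfl
      exacts [hW, inv_mem hW]
    · exact hY
    · exact hU ▸ mul_mem (pow_mem hY k) (subset_closure (by simp))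
    · exact subset_closure (by simp)
  · rintro _ (rfl | rfl | rfl | rfl)
    exacts [hW', hY', hU', hS']

end Q12

variable {G : Type*} [Group G] [Fintype G]

theorem isConj_pow_mul {y g : G} (hy : orderOf y = 5) (hg : g * y * g⁻¹ = y ^ 2) {j : ℕ}
    (hj : j < 4) (h0 : j ≠ 0) (i : ℕ) : IsConj (g ^ j) (y ^ i * g ^ j) := by
  have : ∀ j < 4, j ≠ 0 → ∀ i < 5, ∃ k < 5, k ≡ i + 2 ^ j * k [MOD 5] := by decide
  obtain ⟨k, -, hk⟩ := this j hj h0 (i % 5) (by omega)
  rw [← hy, ← pow_eq_pow_iff_modEq, pow_add, pow_mod_orderOf, pow_mul, ← conj_pow_iter hg,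
    conj_pow] at hk
  refine isConj_iff.2 ⟨y ^ k, ?_⟩
  rw [mul_inv_eq_iff_eq_mul]
  nth_rewrite 1 [hk]
  group

variable {w y s z g : G}

theorem DW.orderOf_eq_five (D : DW w y) (hi : ¬ 11 ∣ (zpowers w).index) {x : G}
    (hx : x ∈ normalizer (zpowers w : Set G)) (hx' : x ∉ zpowers w) : orderOf x = 5 := by
  have h1 : ((zpowers w).subgroupOf (normalizer (zpowers w : Set G))).index = 5 := by
    have := ((zpowers w).subgroupOf (normalizer (zpowers w : Set G))).card_mul_index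
    rw [Nat.card_congr (subgroupOfEquivOfLe le_normalizer).toEquiv, Nat.card_zpowers, D.hw,
      D.hN] at this
    omega
  have h2 : x ^ 5 ∈ zpowers w := by
    have := ((zpowers w).subgroupOf (normalizer (zpowers w : Set G))).pow_index_mem ⟨x, hx⟩
    rwa [h1] at this
  refine orderOf_eq_prime (by_contra fun h => hx' ?_) fun e => hx' (e ▸ one_mem _)
  have h3 : orderOf (x ^ 5) = 11 := ((Nat.dvd_prime (by norm_num)).1
    (D.hw ▸ orderOf_dvd_of_mem_zpowers h2)).resolve_left fun e => h (orderOf_eq_one_iff.1 e)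
  refine zpowers_le.2 h2 ?_
  rw [← cent_eq_of_orderOf D.hw hi D.hC h3]
  exact mem_centralizer_singleton.2 (Commute.self_pow x 5).eq

theorem DC.isConj_y (C : DC y s) (hi : ¬ 5 ∣ (zpowers y).index) (hg : g * y * g⁻¹ = y ^ 2) {u : G}
    (hu : orderOf u = 5) : IsConj y u := by
  obtain ⟨c, hc⟩ := exists_conj_mem_zpowers C.hy hi (hu ▸ pow_orderOf_eq_one u)
  obtain ⟨k, hk, e⟩ := exists_pow_of_mem_zpowers hc
  have h0 : k ≠ 0 := by
    rintro rfl
    have := H83.orderOf_conj c u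
    rw [e, pow_zero, orderOf_one] at this
    omega
  have := C.isConj_pow hg (Or.inl rfl) (k := k) (by rw [C.hy] at hk; omega)
  rw [mul_one, mul_one, ← e] at this
  exact this.trans (isConj_iff.2 ⟨c, rfl⟩).symm

theorem DC.normalizer_le (C : DC y s) (hg : g * y * g⁻¹ = y ^ 2) {K : Subgroup G} (h1 : y ∈ K)
    (h2 : g ∈ K) (h3 : s ∈ K) : normalizer (zpowers y : Set G) ≤ K := fun n hn => by
  obtain ⟨k, hk, e⟩ := exists_pow_of_mem_normalizer hn
  have h0 : k ≠ 0 := by
    rintro rfl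
    exact C.y_ne (by simpa using e)
  have : ∀ k < 5, k ≠ 0 → ∃ j < 4, 2 ^ j ≡ k [MOD 5] := by decide
  obtain ⟨j, -, hj⟩ := this k (C.hy ▸ hk) h0
  rw [← C.hy, ← pow_eq_pow_iff_modEq, ← conj_pow_iter hg, ← e] at hj
  have h4 : Commute (n⁻¹ * g ^ j) y := by
    rw [commute_iff_eq, ← mul_inv_eq_iff_eq_mul]
    calc n⁻¹ * g ^ j * y * (n⁻¹ * g ^ j)⁻¹ = n⁻¹ * (g ^ j * y * (g ^ j)⁻¹) * n := by group
      _ = y := by rw [hj]; group
  rw [← inv_mem_iff, ← mul_mem_cancel_right (pow_mem h2 j)]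
  obtain ⟨i, h | h⟩ := C.cen _ h4 <;> rw [h]
  exacts [pow_mem h1 i, mul_mem (pow_mem h1 i) h3]

theorem card_ne_660 (hy : orderOf y = 5) (hN : Nat.card (normalizer (zpowers y : Set G)) = 40)
    (hg : g * y * g⁻¹ = y ^ 2) (h4 : orderOf g = 4) {L : Subgroup G} (h1 : y ∈ L) (h2 : g ∈ L) :
    Nat.card L ≠ 660 := fun hL => by
  have hy' : orderOf (⟨y, h1⟩ : L) = 5 := by rw [orderOf_mk, hy]
  have e1 := index_modEq_one (isPGroup_zpowers hy')
    (by rw [index_zpowers (m := 132) hy' hL]; norm_num) le_rfl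
  have e2 := (normalizer (zpowers (⟨y, h1⟩ : L) : Set L)).card_mul_index
  have e3 := orderOf_dvd_natCard _ (mem_normalizer_zpowers (g := (⟨g, h2⟩ : L)) (w := ⟨y, h1⟩)
    (k := 2) (Subtype.ext hg))
  have e4 := orderOf_dvd_natCard _ (le_normalizer (mem_zpowers (⟨y, h1⟩ : L)))
  have e5 := card_dvd_of_le (H := (normalizer (zpowers (⟨y, h1⟩ : L) : Set L)).map L.subtype)
    (K := normalizer (zpowers y : Set G)) (by
      rintro _ ⟨n, hn, rfl⟩
      obtain ⟨k, -, e⟩ := exists_pow_of_mem_normalizer hn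
      exact mem_normalizer_zpowers (k := k) (congrArg Subtype.val e))
  rw [card_map_of_injective (subtype_injective _), hN] at e5
  rw [orderOf_mk, h4] at e3
  rw [hy'] at e4
  rw [hL] at e2
  unfold Nat.ModEq at e1
  have : ∀ n ∈ Nat.divisors 40, 4 ∣ n → 5 ∣ n → n = 20 ∨ n = 40 := by decide
  obtain h | h := this _ (Nat.mem_divisors.2 ⟨e5, by norm_num⟩) e3 e4
  all_goals rw [h] at e2; omega

variable {c120 c54 c45 c144 θ1 θ2 c99 c66 c176 a1 a2 : IrrCharacter G}
  {R : Finset (IrrCharacter G)}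

namespace DT
variable [IsSimpleGroup G] (D : DT w y s z c120 c54 c45 c144 θ1 θ2 c99 c66 c176 a1 a2 R)
  (hG : Nat.card G = 95040) (hg : g * y * g⁻¹ = y ^ 2)
include D hG

theorem not_dvd_w : ¬ 11 ∣ (zpowers w).index := by
  rw [index_zpowers (m := 8640) D.W.hw hG]; norm_num

theorem not_dvd_y : ¬ 5 ∣ (zpowers y).index := by
  rw [index_zpowers (m := 19008) D.B.hy hG]; norm_num

include hg

theorem exists_index_twelve : ∃ L : Subgroup G, L.index = 12 ∧
    normalizer (zpowers w : Set G) ≤ L ∧ g ∈ L := by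
  classical
  have C := D.B.toDC
  obtain ⟨h4, φ, h1, h2, h3, h3'⟩ := D.exists_three hG hg
  have h1' : φ.1 1 = 11 := by rw [← coe_dg, h1]; rfl
  have hφ : φ.1 ≠ fun _ => 1 := fun e => by rw [e] at h1'; norm_num at h1'
  have h5 : ∀ u, orderOf u = 5 → φ.1 u = 1 := fun u hu => by
    rw [← φ.2.isClassFunction.eq_of_isConj (C.isConj_y (D.not_dvd_y hG) hg hu), ← (C.ic hg).1, h2]
    simp
  have hyB : zpowers y ≤ zpowers y ⊔ zpowers g := le_sup_left
  have hyA : zpowers y ≤ normalizer (zpowers w : Set G) :=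
    zpowers_le.2 (mem_normalizer_zpowers D.W.hyw)
  have hy5 : ∀ x ∈ zpowers y, x ≠ 1 → φ.1 x = 1 := fun x hx hx1 => h5 x
    (((Nat.dvd_prime (by norm_num)).1 (C.hy ▸ orderOf_dvd_of_mem_zpowers hx)).resolve_left
      fun e => hx1 (orderOf_eq_one_iff.1 e))
  have hne := sup_ne_top_of_fix φ.2 hφ hyA hyB (a := 1) (b := 3) (c := 3) (by
      rw [sum_subgroup_ite (C := zpowers w) le_normalizer φ.1 (β := 0) (γ := 1)
        (fun x hx hx1 => H29.eq_zero_of_pow_factorization_dvd (p := 11) (by norm_num) φ.2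
          (by rw [hG, charDegree_eq (n := 11) h1']; decide +kernel)
          (((Nat.dvd_prime (p := 11) (by norm_num)).1
            (D.W.hw ▸ orderOf_dvd_of_mem_zpowers hx)).resolve_left
            (fun e => hx1 (orderOf_eq_one_iff.1 e))).symm.dvd)
        (fun x hx hx' => h5 x (D.W.orderOf_eq_five (D.not_dvd_w hG) hx hx')), h1',
        Nat.card_zpowers, D.W.hw]
      norm_num)
    (by
      rw [sum_subgroup_ite hyB φ.1 (γ := 3) hy5 (fun x hx hx' => by
        have hx2 : x ∈ ((zpowers y ⊔ zpowers g : Subgroup G) : Set G) := hx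
        rw [coe_mul_of_right_le_normalizer_left _ _ (zpowers_le.2 (mem_normalizer_zpowers hg))]
          at hx2
        obtain ⟨a, ha, b, hb, rfl⟩ := hx2
        obtain ⟨i, -, rfl⟩ := exists_pow_of_mem_zpowers ha
        obtain ⟨j, hj, rfl⟩ := exists_pow_of_mem_zpowers hb
        rw [h4] at hj
        have h0 : j ≠ 0 := by
          rintro rfl
          exact hx' (by simpa using ha)
        rw [← φ.2.isClassFunction.eq_of_isConj (isConj_pow_mul C.hy hg hj h0 i)]
        interval_cases j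
        · omega
        · rw [pow_one, h3]
        · exact h3'
        · rw [show g ^ 3 = g⁻¹ by
            rw [eq_inv_iff_mul_eq_one, ← pow_succ, ← orderOf_dvd_iff_pow_eq_one, h4],
            φ.2.isCharacter.apply_inv, h3]
          exact map_ofNat _ 3), h1', Nat.card_zpowers, C.hy]
      norm_num)
    (by
      rw [sum_subgroup_ite le_rfl φ.1 (γ := 0) hy5 (fun x hx hx' => absurd hx hx'), h1',
        Nat.card_zpowers, C.hy]
      norm_num) (by norm_num)
  have hgL : g ∈ normalizer (zpowers w : Set G) ⊔ (zpowers y ⊔ zpowers g) :=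
    mem_sup_right (mem_sup_right (mem_zpowers g))
  have e0 := card_ne_660 C.hy D.B.cN hg h4 (mem_sup_left (hyA (mem_zpowers y))) hgL
  have e3 := orderOf_dvd_natCard _ hgL
  refine ⟨_, ?_, le_sup_left, hgL⟩
  have e1 := index_modEq_one (isPGroup_zpowers D.W.hw) (D.not_dvd_w hG)
    (le_sup_left (b := zpowers y ⊔ zpowers g))
  have e2 := card_dvd_of_le (le_sup_left (a := normalizer (zpowers w : Set G))
    (b := zpowers y ⊔ zpowers g))
  generalize normalizer (zpowers w : Set G) ⊔ (zpowers y ⊔ zpowers g) = L at *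
  have e4 := L.card_mul_index
  rw [ne_eq, ← index_eq_one] at hne
  rw [D.W.hN] at e2
  rw [h4] at e3
  obtain ⟨c, hc⟩ : 220 ∣ Nat.card L := by omega
  rw [hG] at e4
  have : ∀ n ∈ Nat.divisors 432, n % 11 = 1 → n ≠ 1 → n = 12 ∨ n = 144 := by decide +kernel
  refine (this _ (Nat.mem_divisors.2 ⟨⟨c, by rw [hc] at e4; linarith⟩, by norm_num⟩) e1
    hne).resolve_right fun e => e0 ?_
  rw [e] at e4
  omega

theorem closure_eq_top : closure ({w, y, g, s} : Set G) = ⊤ := by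
  have hw : w ∈ closure ({w, y, g, s} : Set G) := subset_closure (by simp)
  have hy : y ∈ closure ({w, y, g, s} : Set G) := subset_closure (by simp)
  have h1 := le_of_normalizer_card D.W.hw D.B.hy (by norm_num) D.W.hN
    (le_normalizer (mem_zpowers w)) (mem_normalizer_zpowers D.W.hyw) hw hy
  have h2 := D.B.toDC.normalizer_le hg hy (subset_closure (by simp)) (subset_closure (by simp))
  have e1 := index_modEq_one (isPGroup_zpowers D.W.hw) (D.not_dvd_w hG) h1
  have e2 := index_modEq_one (isPGroup_zpowers D.B.hy) (D.not_dvd_y hG) h2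
  have e3 := card_dvd_of_le h1
  have e4 := card_dvd_of_le h2
  have e6 := (closure ({w, y, g, s} : Set G)).card_mul_index
  rw [D.W.hN] at e3
  rw [D.B.cN] at e4
  obtain ⟨c, hc⟩ : 440 ∣ Nat.card (closure ({w, y, g, s} : Set G)) := by omega
  rw [hc, hG] at e6
  have : ∀ n ∈ Nat.divisors 216, n % 11 = 1 → n % 5 = 1 → n = 1 := by decide +kernel
  exact index_eq_one.1 (this _ (Nat.mem_divisors.2 ⟨⟨c, by linarith⟩, by norm_num⟩) e1 e2)

theorem exists_hom : ∃ f : G →* Equiv.Perm (Fin 12), Function.Injective f ∧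
    f w = P12.W ∧ f y = Y ∧ f g 11 = 11 ∧ f s 11 ≠ 11 := by
  classical
  obtain ⟨L, hL, hle, hgL⟩ := D.exists_index_twelve hG hg
  have hw : ∀ b : G ⧸ L, w • b = b → b = ((1 : G) : G ⧸ L) := fun b hb =>
    eq_of_fixed_of_normalizer_le (isPGroup_zpowers D.W.hw) (D.not_dvd_w hG) hle
      fun u hu => (zpowers_le (H := stabilizer G b)).2 hb hu
  have hst : ∀ g : G, g • ((1 : G) : G ⧸ L) = ((1 : G) : G ⧸ L) ↔ g ∈ L := fun g => by
    rw [← mem_stabilizer_iff, stabilizer_quotient]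
  have hwL := (hst w).2 (hle (le_normalizer (mem_zpowers w)))
  have hyL := (hst y).2 (hle (mem_normalizer_zpowers D.W.hyw))
  obtain ⟨a, ha, ha1⟩ : ∃ a : G ⧸ L, y • a = a ∧ a ≠ ((1 : G) : G ⧸ L) := by
    by_contra! h
    have h1 := H45.card_fixedBy_modEq (α := G ⧸ L) D.B.hy
    have h2 : Nat.card (fixedBy (G ⧸ L) y) = 1 :=
      Nat.card_eq_one_iff_exists.2 ⟨⟨_, hyL⟩, fun b => Subtype.ext (h b b.2)⟩
    rw [h2, ← index_eq_card, hL] at h1
    exact absurd h1 (by decide)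
  have hwa : w • a ≠ a := fun e => ha1 (hw a e)
  let e0 : Fin 12 → G ⧸ L := fun i => if i = 11 then ((1 : G) : G ⧸ L) else w ^ (i : ℕ) • a
  have hne : ∀ i : ℕ, w ^ i • a ≠ ((1 : G) : G ⧸ L) := fun i e => ha1 (by
    have : w ^ i • ((1 : G) : G ⧸ L) = ((1 : G) : G ⧸ L) :=
      pow_mem (mem_stabilizer_iff.2 hwL) i
    exact smul_left_cancel _ (e.trans this.symm))
  have hinj : Function.Injective e0 := fun i j h => by
    by_cases hi : i = 11 <;> by_cases hj : j = 11 <;> simp only [e0, hi, hj, if_true, if_false] at h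
    · rw [hi, hj]
    · exact absurd h.symm (hne _)
    · exact absurd h (hne _)
    · exact Fin.ext (pow_smul_inj (by norm_num) D.W.hw hwa (by omega) (by omega) h)
  let e : Fin 12 ≃ G ⧸ L := Equiv.ofBijective e0 ((Nat.bijective_iff_injective_and_card e0).2
    ⟨hinj, by rw [← index_eq_card, hL]; simp⟩)
  have he : ∀ (g : G) (s : Equiv.Perm (Fin 12)), (∀ i, g • e0 i = e0 (s i)) →
      e.symm.permCongrHom (toPermHom G (G ⧸ L) g) = s := fun g s h => Equiv.ext fun i =>
    e.symm_apply_eq.2 (h i)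
  have hp : ∀ i j : ℕ, i ≡ j [MOD 11] → w ^ i • a = w ^ j • a := fun i j h => by
    rw [← D.W.hw, ← pow_eq_pow_iff_modEq] at h
    rw [h]
  refine ⟨e.symm.permCongrHom.toMonoidHom.comp (toPermHom G (G ⧸ L)),
    e.symm.permCongrHom.injective.comp (H87.toPermHom_injective _ w a hwa), he w P12.W fun i => ?_,
    he y Y fun i => ?_, e.symm_apply_eq.2 ((hst g).2 hgL), fun h => ?_⟩
  · by_cases hi : i = 11
    · subst hi; exact hwL
    · have : ∀ i : Fin 12, i ≠ 11 → P12.W i ≠ 11 ∧ i + 1 ≡ P12.W i [MOD 11] := by decide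
      simp only [e0, hi, (this i hi).1, if_false]
      rw [← mul_smul, ← pow_succ']
      exact hp _ _ (this i hi).2
  · by_cases hi : i = 11
    · subst hi; exact hyL
    · have : ∀ i : Fin 12, i ≠ 11 → Y i ≠ 11 ∧ 3 * i ≡ Y i [MOD 11] := by decide
      simp only [e0, hi, (this i hi).1, if_false]
      rw [← hp _ _ (this i hi).2, pow_mul, ← D.W.hyw, conj_pow, mul_smul, mul_smul, ← mul_smul,
        inv_smul_eq_iff.2 ha.symm, mul_smul]
  · have h1 : s • e0 11 = e0 11 := e.symm_apply_eq.1 h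
    have h2 : closure ({w, y, g, s} : Set G) ≤ L := (closure_le _).2 (by
      rintro _ (rfl | rfl | rfl | rfl)
      exacts [(hst _).1 hwL, (hst _).1 hyL, hgL, (hst _).1 h1])
    rw [D.closure_eq_top hG hg, top_le_iff, ← index_eq_one] at h2
    omega

open Q12 in
theorem exists_hom' : ∃ f : G →* Equiv.Perm (Fin 12), Function.Injective f ∧ f.range = G1 := by
  obtain ⟨f, hf, hw, hy, hv, hs⟩ := D.exists_hom hG hg
  have hr : ∀ f : G →* Equiv.Perm (Fin 12), f.range = closure {f w, f y, f g, f s} := fun f => by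
    rw [MonoidHom.range_eq_map, ← D.closure_eq_top hG hg, MonoidHom.map_closure]
    simp [Set.image_insert_eq]
  have hc : ∀ f : G →* Equiv.Perm (Fin 12), Function.Injective f → Nat.card f.range = 95040 :=
    fun f hf => (Nat.card_congr (MonoidHom.ofInjective hf).toEquiv).symm.trans hG
  have key : ∀ f : G →* Equiv.Perm (Fin 12), Function.Injective f → (f w = P12.W ∨ f w = P12.W⁻¹) →
      f y = Y → ∀ k, f g = Y ^ k * U0 → f s 11 ≠ 11 → f.range = G1 := fun f hf h1 h2 k h3 h4 => by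
    have := hc f hf
    rw [hr, h2] at this ⊢
    refine closure_eq' h1 h3 this ?_ ?_ h4
    · rw [← h2, ← map_mul, ← map_mul, D.B.cm.eq]
    · rw [← map_mul, ← map_mul, mul_inv_eq_iff_eq_mul.1
        (D.B.toDC.conj_s (mem_normalizer_zpowers hg))]
  have h0 : ∀ i, f g (Y i) = P12.Z (f g i) := fun i => congrArg (fun f : Equiv.Perm (Fin 12) => f i)
    (show f g * Y = Y ^ 2 * f g by
      rw [← hy, ← map_pow, ← map_mul, ← map_mul, ← hg, inv_mul_cancel_right])
  have h3 : ∀ i, P12.Z i = i → i = 0 ∨ i = 11 := by decide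
  have h4 : f g 0 = 0 := (h3 _ (h0 0).symm).resolve_right fun e =>
    absurd ((f g).injective (e.trans hv.symm)) (by decide)
  have h1 := eq_mk h0
  rw [h4, hv] at h1
  have := certU (f g 1) (f g 2)
  rw [← h1] at this
  rcases this with ⟨i, j, hij, h⟩ | ⟨k, h⟩ | ⟨k, h⟩ | ⟨i, j, x, h2, h3⟩
  · exact absurd ((f g).injective h) hij
  · exact ⟨f, hf, key f hf (Or.inl hw) hy k (Equiv.ext h) hs⟩
  · refine ⟨(MulAut.conj σ).toMonoidHom.comp f, (MulAut.conj σ).injective.comp hf,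
      key _ ((MulAut.conj σ).injective.comp hf) (Or.inr ?_) ?_ k (Equiv.ext h) fun e => hs ?_⟩
    · simp only [MonoidHom.comp_apply, MulEquiv.coe_toMonoidHom, MulAut.conj_apply, hw]
      decide
    · simp only [MonoidHom.comp_apply, MulEquiv.coe_toMonoidHom, MulAut.conj_apply, hy]
      decide
    · exact σ.injective e
  · have e : P12.W^[i] ∘ f g ∘ P12.W^[j] ∘ f g = ⇑(f (w ^ (i : ℕ) * (g * (w ^ (j : ℕ) * g)))) := by
      simp only [map_mul, map_pow, hw, Equiv.Perm.coe_mul, Equiv.Perm.coe_pow]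
    rw [e] at h2 h3
    exact absurd (no_seven (hc f hf) ⟨_, rfl⟩ h2) h3

end DT

/-- Simple groups of order `95040` are all isomorphic to one group. -/
theorem equiv_G1 {G : Type*} [Group G] [Finite G] [IsSimpleGroup G] (hG : Nat.card G = 95040) :
    Nonempty (G ≃* Q12.G1) := by
  have := Fintype.ofFinite G
  obtain ⟨w, y, s, z, c120, c54, c45, c144, θ1, θ2, c99, c66, c176, a1, a2, R, D⟩ := exists_DT hG
  obtain ⟨g, hg⟩ := D.B.rat
  obtain ⟨f, hf, h⟩ := D.exists_hom' hG hg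
  exact ⟨(MonoidHom.ofInjective hf).trans (MulEquiv.subgroupCongr h)⟩

/-- A simple group of order `95040` is `M₁₂`. -/
theorem m12_of_order {G : Type*} [Group G] [Finite G] [IsSimpleGroup G] (hG : Nat.card G = 95040) :
    Spor.IsoM12 G := by
  have := H72.simple_M12
  obtain ⟨e⟩ := equiv_G1 hG
  obtain ⟨e'⟩ := equiv_G1 H72.card_M12
  exact ⟨e.trans e'.symm⟩

end H45.MO
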