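import Cfsg.Agent.H23.NDSpec

/-! S4780 tower: the complement to `N'`. -/

set_option autoImplicit false

namespace H45.ND

open H23.ND

universe u

theorem jobAb1 : JobAb1.{u} := by
  intro G _ _ p N P hN hp f hM hP hPN ⟨x, hxP, hx⟩
  have hxN := hPN hxP
  have hMn : (⁅N, N⁆ : Subgroup G).Normal := inferInstance
  have cm : ∀ a ∈ N, ∀ b ∈ N, a * b * a⁻¹ * b⁻¹ ∈ ⁅N, N⁆ := fun a ha b hb =>
    Subgroup.commutator_mem_commutator ha hb
  have hMN : ⁅N, N⁆ ≤ N := Subgroup.commutator_le_left N N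
  have h1 : ∀ y ∈ ⁅N, N⁆, x * y = y * x → y = 1 := by
    intro y hy e
    obtain ⟨a, -, ea⟩ := f.cl x hxN hx y hy
    obtain ⟨k, hk⟩ := hP ⟨x, hxP⟩
    have hk' : x ^ p ^ k = 1 := congrArg Subtype.val hk
    have h2 : y ^ p ^ k = 1 := by
      have := congrArg (· ^ p ^ k) ea
      simp only [conj_pow, hk', Commute.mul_pow e, one_mul, mul_one, mul_inv_cancel] at this
      exact this.symm
    have h3 : y ^ Nat.card ↥⁅N, N⁆ = 1 :=
      congrArg Subtype.val (pow_card_eq_one' (x := (⟨y, hy⟩ : ↥⁅N, N⁆)))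
    exact orderOf_eq_one_iff.1 (Nat.eq_one_of_dvd_coprimes
      (((Nat.Prime.coprime_iff_not_dvd hp).2 hM).pow_left k) (orderOf_dvd_of_pow_eq_one h2)
      (orderOf_dvd_of_pow_eq_one h3))
  have h2 : ∀ n ∈ N, ∃ m ∈ ⁅N, N⁆, m⁻¹ * n ∈ C0 N x := by
    intro n hn
    let φ : ↥⁅N, N⁆ → ↥⁅N, N⁆ := fun m => ⟨x⁻¹ * m * x * (m : G)⁻¹,
      mul_mem (hMn.conj_mem' _ m.2 x) (inv_mem m.2)⟩
    have hi : Function.Injective φ := fun a b e => by
      have e' : x⁻¹ * a * x * (a : G)⁻¹ = x⁻¹ * b * x * (b : G)⁻¹ := congrArg Subtype.val e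
      have := h1 ((b : G)⁻¹ * a) (mul_mem (inv_mem b.2) a.2) (by
        calc x * ((b : G)⁻¹ * a) = (b : G)⁻¹ * x * (x⁻¹ * b * x * (b : G)⁻¹) * a := by group
          _ = _ := by rw [← e']; group)
      exact Subtype.ext (inv_mul_eq_one.1 this).symm
    obtain ⟨m, e⟩ := Finite.injective_iff_surjective.1 hi ⟨x⁻¹ * n * x * n⁻¹, by
      simpa using cm _ (inv_mem hxN) n hn⟩
    have e' : x⁻¹ * m * x * (m : G)⁻¹ = x⁻¹ * n * x * n⁻¹ := congrArg Subtype.val e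
    refine ⟨m, m.2, mem_C0.2 ⟨mul_mem (inv_mem (hMN m.2)) hn, ?_⟩⟩
    calc x * ((m : G)⁻¹ * n) = (m : G)⁻¹ * x * (x⁻¹ * m * x * (m : G)⁻¹) * n := by group
      _ = _ := by rw [e']; group
  have h4 : ∀ y ∈ ⁅N, N⁆, y ∈ C0 N x → y = 1 := fun y hy hc => h1 y hy (mem_C0.1 hc).2
  have h3 : ∀ c ∈ C0 N x, ∀ d ∈ C0 N x, c * d * c⁻¹ * d⁻¹ = 1 := fun c hc d hd =>
    h4 _ (cm c (mem_C0.1 hc).1 d (mem_C0.1 hd).1)
      (mul_mem (mul_mem (mul_mem hc hd) (inv_mem hc)) (inv_mem hd))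
  have hxC : x ∈ C0 N x := mem_C0.2 ⟨hxN, rfl⟩
  refine ⟨Subgroup.normalizer (C0 N x : Set G), eq_bot_iff.2 fun y hy => ?_, eq_top_iff.2 fun g _ => ?_⟩
  · have := h4 _ (cm y (hMN hy.2) x hxN)
      (mul_mem ((Subgroup.mem_normalizer_iff.1 hy.1 x).1 hxC) (inv_mem hxC))
    refine h1 y hy.2 ?_
    calc x * y = (y * x * y⁻¹ * x⁻¹) * (x * y) := by rw [this, one_mul]
      _ = _ := by group
  · obtain ⟨m, hm, hc⟩ := h2 _ (hN.conj_mem x hxN g)
    have hMC : m ∈ CC N := mem_CC.2 ⟨hMN hm, fun a => mul_mem (hMn.conj_mem m hm a) (inv_mem hm)⟩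
    obtain ⟨a, ha, ea⟩ := f.cl _ (mem_C0.1 hc).1 (fun t => hx (by
      have := (CC_normal N).conj_mem' _ (mul_mem hMC t) g
      convert this using 1
      group)) _ (hMn.conj_mem' m hm (m⁻¹ * (g * x * g⁻¹)))
    have eu : g⁻¹ * a * (m⁻¹ * (g * x * g⁻¹)) * (g⁻¹ * a)⁻¹ = x := by
      calc _ = g⁻¹ * (a * (m⁻¹ * (g * x * g⁻¹)) * a⁻¹) * g := by group
        _ = _ := by rw [ea]; group
    have hu : g⁻¹ * a ∈ Subgroup.normalizer (C0 N x : Set G) := by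
      refine Subgroup.mem_normalizer_fintype fun d hd => mem_C0.2 ⟨hN.conj_mem d (mem_C0.1 hd).1 _, ?_⟩
      have := h3 _ hc d hd
      generalize m⁻¹ * (g * x * g⁻¹) = c at eu this
      generalize g⁻¹ * a = v at eu
      rw [← eu]
      calc _ = v * ((c * d * c⁻¹ * d⁻¹) * (d * c)) * v⁻¹ := by group
        _ = _ := by rw [this]; group
    obtain ⟨m', hm', hc'⟩ := h2 a ha
    have : g = m' * ((m'⁻¹ * a) * (g⁻¹ * a)⁻¹) := by group
    rw [this]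
    exact mul_mem (Subgroup.mem_sup_right hm') (Subgroup.mem_sup_left
      (mul_mem (Subgroup.le_normalizer hc') (inv_mem hu)))

end H45.ND
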