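import Cfsg.Agent.H34.R5Spec
import Cfsg.Agent.H82.ITM

/-! Tower R5 (S3194): the basic claim CA. -/

set_option autoImplicit false

namespace H45.R5
open Cfsg Subgroup H41.IT H34.R5

universe u

theorem exists_central {K : Type*} [Group K] [Finite K] {p : ℕ} [Fact p.Prime] (hK : IsPGroup p K)
    (N : Subgroup K) [hN : N.Normal] (h : p ∣ Nat.card N) : ∃ w ∈ N, w ≠ 1 ∧ ∀ k : K, k * w = w * k := by
  have hK' : IsPGroup p (ConjAct K) := hK.of_equiv ConjAct.toConjAct
  obtain ⟨b, hb, ne⟩ := hK'.exists_fixed_point_of_prime_dvd_card_of_fixed_point (α := N) h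
    (a := 1) (fun g => smul_one g)
  refine ⟨b, b.2, fun e => ne (Subtype.ext e.symm), fun k => ?_⟩
  have : k * b * k⁻¹ = b := congrArg Subtype.val (hb (ConjAct.toConjAct k))
  exact mul_inv_eq_iff_eq_mul.1 this

theorem jobCA : JobCA.{u} := by
  intro G _ _ x y h s hr
  have hA : orderOf x ∣ (C y).index := by
    by_contra hn
    have := Fact.mk hr
    have hp : IsPGroup (orderOf x) (zpowers x) := IsPGroup.of_card (n := 1) (by simp)
    obtain ⟨q, hq⟩ := hp.nonempty_fixed_point_of_prime_not_dvd_card (G ⧸ C y) hn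
    obtain ⟨g, rfl⟩ := QuotientGroup.mk_surjective q
    have e : ((x * g : G) : G ⧸ C y) = g := hq ⟨x, mem_zpowers x⟩
    have m : g⁻¹ * x * g⁻¹⁻¹ ∈ C y := by
      have := inv_mem (QuotientGroup.eq.1 e)
      convert this using 1
      group
    exact s.nc _ y (fun t => h.x1 (conj_eq_one_iff.1 t)) h.y1 (H82.ITM.c_conj _ _) rfl (mem_C.1 m)
  refine ⟨hA, fun p hp ha hi => ?_⟩
  have := Fact.mk hp
  have hpr : p ≠ orderOf x := fun e =>
    hp.one_lt.ne' (Nat.eq_one_of_dvd_coprimes s.cop hi (e ▸ hA))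
  obtain ⟨S⟩ : Nonempty (Sylow p (C x)) := inferInstance
  set n := (c x).factorization p with hn
  have n0 : 0 < n := hp.factorization_pos_of_dvd Nat.card_pos.ne' ha
  have cP : Nat.card ((S : Subgroup (C x)).map (C x).subtype) = p ^ n := by
    rw [card_map_of_injective (C x).subtype_injective, S.card_eq_multiplicity]
  have hd : p ^ (n + 1) ∣ Nat.card G := by
    rw [← (C x).card_mul_index, pow_succ]
    exact mul_dvd_mul (Nat.ordProj_dvd _ p) hi
  obtain ⟨K, cK, le⟩ := Sylow.exists_subgroup_card_pow_succ hd cP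
  have cN : Nat.card (((S : Subgroup (C x)).map (C x).subtype).subgroupOf K) = p ^ n := by
    rw [Nat.card_congr (subgroupOfEquivOfLe le).toEquiv, cP]
  have hN : (((S : Subgroup (C x)).map (C x).subtype).subgroupOf K).Normal := by
    refine normal_of_index_eq_minFac_card ?_
    have := (((S : Subgroup (C x)).map (C x).subtype).subgroupOf K).card_mul_index
    rw [cN, cK, pow_succ] at this
    rw [cK, hp.pow_minFac (by omega)]
    exact Nat.eq_of_mul_eq_mul_left (pow_pos hp.pos n) this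
  have pK : IsPGroup p K := IsPGroup.of_card cK
  obtain ⟨w, hw, w1, wc⟩ := exists_central pK _ (cN ▸ dvd_pow_self p n0.ne')
  have w1' : (w : G) ≠ 1 := fun e => w1 (Subtype.ext e)
  have wx : Commute (w : G) x := mem_C.1 (map_subtype_le _ hw)
  obtain ⟨k, hk⟩ := (IsPGroup.iff_orderOf.1 pK) w
  have ow : orderOf (w : G) = p ^ k := by rw [← hk, Subgroup.orderOf_coe]
  have co : (orderOf (w : G)).Coprime (orderOf x) :=
    ow ▸ ((Nat.coprime_primes hp hr).2 hpr).pow_left k
  have d1 : p ^ (n + 1) ∣ c (w : G) := cK ▸ card_dvd_of_le fun a ha =>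
    mem_C.2 (congrArg Subtype.val (wc ⟨a, ha⟩))
  have lt : n < (c (w : G)).factorization p :=
    (hp.pow_dvd_iff_le_factorization Nat.card_pos.ne').1 d1
  refine ⟨w, w1', ⟨k, ow⟩, lt, (h.cov w w1').resolve_left fun t => ?_,
    fun t => s.nc x w h.x1 w1' rfl t wx.symm, mul_ne_one' w1' co, C_mul wx co⟩
  exact Nat.pow_succ_factorization_not_dvd Nat.card_pos.ne' hp (d1.trans t)

end H45.R5
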