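import Cfsg.Agent.H86.SPODef
import Cfsg.Agent.H46.SOG2

/-! STD-SP, orthogonal model: the slot `KS` (generation of the stabilisers of `e₀` and of `e₀, e₁`). -/

set_option autoImplicit false
set_option linter.unusedSectionVars false

namespace H45.SPO

open H59.SO H56 H58 QuadraticMap Module Subgroup
open H86.SPO (Gc KG KS JobKS)
open H46.SOG (mul_ap)

variable {F V : Type} [Field F] [Finite F] [CharP F 2] [AddCommGroup V] [Module F V]
  [FiniteDimensional F V] {Q : QuadraticForm F V}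

theorem E_mem_Gc (k : KG Q) {x y u a : V} (hx : Q x = 0) (hy : Q y = 0) (hxy : polar Q x y = 0)
    (h1 : polar Q x u = 0) (h2 : polar Q x a = 0) (h3 : polar Q y u = 0) (h4 : polar Q y a = 0) :
    E Q u a ∈ Gc Q x y := by
  by_cases h : Q u = 0 ∧ polar Q u a = 0
  swap
  · rw [E_of_not h]; exact one_mem _
  by_cases h0 : u = 0
  · have : E Q u a = 1 := Om.ext fun z => by rw [E_apply h.1 h.2, h0]; simp
    rw [this]; exact one_mem _
  have gen : ∀ b, polar Q u b = 0 → Q b ≠ 0 → polar Q x b = 0 → polar Q y b = 0 →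
      E Q u b ∈ Gc Q x y := fun b b1 b2 b3 b4 =>
    subset_closure ⟨u, b, h0, h.1, b1, b2, h1, b3, h3, b4, rfl⟩
  by_cases ha : Q a = 0
  swap
  · exact gen a h.2 ha h2 h4
  obtain ⟨b, b1, b2, b3, b4, b5⟩ := k.sm x y u a hx hy h.1 ha hxy h1 h3 h2 h4 h.2
  have e : a = (a + b) + b := by rw [add_assoc, add_self2 F, add_zero]
  have c : polar Q u (a + b) = 0 := by rw [polar_add_right, h.2, b3, add_zero]
  rw [e, E_add h.1 c b3]
  exact mul_mem (gen _ c b5 (by rw [polar_add_right, h2, b1, add_zero])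
    (by rw [polar_add_right, h4, b2, add_zero])) (gen b b3 b4 b1 b2)

theorem mem_of_frame (p : Par Q) {m : ℕ} {e f : Fin m → V} (hf : IsHypFrame Q e f) (hm : m ≤ 2)
    {K : Subgroup (Om Q)}
    (hK : ∀ u ∈ framePerp Q e f, ∀ a ∈ framePerp Q e f, E Q u a ∈ K) {g : Om Q}
    (hg : ∀ i, g.1 (e i) = e i ∧ g.1 (f i) = f i) : g ∈ K := by
  have hd := hf.finrank_perp
  have hd8 := p.dim
  have hU := hf.nondeg_perp p.nd
  have hE : ¬ IsExc (Q.restrict (framePerp Q e f)) := fun h => by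
    have := p.four (by have := h.2.1; omega)
    obtain ⟨a, h0, h1⟩ := exists_ne_zero_one (F := F) (by omega)
    exact (h.1 a).elim h0 h1
  have hU' : H60.Nondeg Q (framePerp Q e f) := fun x hx h =>
    perp_eq_zero p.nd hf hx fun y hy => by rw [polar_comm, h y hy]
  have h3 : 3 ≤ finrank F (framePerp Q e f) := by omega
  have h : ∀ x ∈ perp Q (framePerp Q e f), g.1 x = x := fun x hx => by
    have h1 := hf.sub_comb_mem x
    have h2 := perp_eq_zero p.nd hf h1 fun y hy => by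
      rw [polar_sub_left, IsHypFrame.polar_comb_perp _ hy, mem_perp'.1 hx y hy, sub_zero]
    rw [sub_eq_zero.1 h2, frameComb_apply]
    simp [hg]
  generalize framePerp Q e f = U at *
  have h1 : ∀ k ∈ EG (Q.restrict U), H60.extO p.nd hU' k ∈ K.map (EG Q).subtype := fun k hk =>
    EG_le (M := (K.map (EG Q).subtype).comap (H60.extO p.nd hU')) (fun u v _ _ _ => by
      rw [mem_comap, H60.extO_eich]; exact ⟨_, hK u u.2 v v.2, rfl⟩) hk
  obtain ⟨k, hk⟩ := H60.exists_extO p.nd hU' (g := g.1) h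
  have hk' : k ∈ EG (Q.restrict U) := by_contra fun h2 => by
    have : Nontrivial U := Module.nontrivial_of_finrank_pos (R := F) (by omega)
    obtain ⟨a, ha⟩ := H58.exists_Q_ne_zero hU
    have e : ∀ k, k ∈ EG (Q.restrict U) ↔ dickson hU k = 1 := fun k => by
      rw [← commutator_eq_EG_fin hU hE h3, mem_commutator_iff_of_char_two hU CharTwo.two_eq_zero hE,
        dickson_eq_one_iff]
    obtain ⟨z, -, h4⟩ := h1 (k * refl _ a) (by
      rw [e] at h2 ⊢
      rw [map_mul, (Int.units_eq_one_or _).resolve_left h2, dickson_refl _ ha]; decide)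
    rw [map_mul, hk, H60.extO_refl] at h4
    exact p.toPar0.refl_notMem ha ((mul_mem_cancel_left g.2).1 (h4 ▸ z.2))
  obtain ⟨z, hz, h4⟩ := h1 k hk'
  rw [hk] at h4
  exact Subtype.ext h4 ▸ hz

theorem step (r : Fr Q) (i j : Fin 3) (g : Om Q) (hi : g.1 (r.e i) = r.e i) (hj : g.1 (r.e j) = r.e j) :
    polar Q (r.e j) (g.1 (r.f i) - r.f i) = 0 ∧
      (E Q (r.e i) (g.1 (r.f i) - r.f i) * g).1 (r.f i) = r.f i := by
  have h1 : polar Q (r.e i) (g.1 (r.f i)) = 1 := by rw [← hi, O.map_polar]; simp [r.ef]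
  refine ⟨by rw [polar_sub_right]; nth_rewrite 1 [← hj]; rw [O.map_polar, sub_self], ?_⟩
  simpa [h1] using H60.eich_apply_eq (r.qe i) (g.1.map_Q (r.f i)) (by simp [h1, r.ef]) (by simp [h1])

theorem jobKS : JobKS := by
  intro F V _ _ _ _ _ _ Q p r k
  refine ⟨fun g g0 => ?_, fun g g0 g1 => ?_⟩
  · obtain ⟨h0, h1⟩ := step r 0 0 g g0 g0
    refine (mul_mem_cancel_left (E_mem_Gc k (r.qe 0) (r.qe 0) (r.ee ..) (r.ee 0 0) h0 (r.ee ..) h0)).1 ?_
    have hf : IsHypFrame Q (fun _ : Fin 1 => r.e 0) (fun _ : Fin 1 => r.f 0) :=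
      ⟨fun _ => r.qe _, fun _ => r.qf _, fun i j => by simp [r.ef, Subsingleton.elim i j],
        fun _ _ => r.ee .., fun _ _ => r.ff ..⟩
    refine mem_of_frame p hf (by omega) (fun u hu a ha => E_mem_Gc k (r.qe 0) (r.qe 0) (r.ee ..)
      (hu 0).1 (ha 0).1 (hu 0).1 (ha 0).1) fun _ => ⟨?_, h1⟩
    rw [mul_ap, g0, E_apply_self (r.qe 0) h0]
  · have hf : IsHypFrame Q (fun i : Fin 2 => r.e i.castSucc) (fun i : Fin 2 => r.f i.castSucc) :=
      ⟨fun _ => r.qe _, fun _ => r.qf _, fun i j => by simp [r.ef], fun _ _ => r.ee ..,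
        fun _ _ => r.ff ..⟩
    obtain ⟨h0, h1⟩ := step r 0 0 g g0 g0
    have h0' := (step r 0 1 g g0 g1).1
    refine (mul_mem_cancel_left (E_mem_Gc k (r.qe 0) (r.qe 1) (r.ee ..) (r.ee 0 0) h0 (r.ee ..) h0')).1 ?_
    have g0' : (E Q (r.e 0) (g.1 (r.f 0) - r.f 0) * g).1 (r.e 0) = r.e 0 := by
      rw [mul_ap, g0, E_apply_self (r.qe 0) h0]
    have g1' : (E Q (r.e 0) (g.1 (r.f 0) - r.f 0) * g).1 (r.e 1) = r.e 1 := by
      rw [mul_ap, g1, E_fix (r.ee ..) (by rw [polar_comm, h0'])]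
    generalize E Q (r.e 0) (g.1 (r.f 0) - r.f 0) * g = g' at h1 g0' g1'
    obtain ⟨h2, h3⟩ := step r 1 1 g' g1' g1'
    have h2' := (step r 1 0 g' g1' g0').1
    refine (mul_mem_cancel_left (E_mem_Gc k (r.qe 0) (r.qe 1) (r.ee ..) (r.ee 0 1) h2' (r.ee ..) h2)).1 ?_
    refine mem_of_frame p hf le_rfl (fun u hu a ha => E_mem_Gc k (r.qe 0) (r.qe 1) (r.ee ..)
      (hu 0).1 (ha 0).1 (hu 1).1 (ha 1).1) ?_
    rw [Fin.forall_fin_two]
    refine ⟨⟨?_, ?_⟩, ?_, h3⟩
    · change (_ : Om Q).1 (r.e 0) = r.e 0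
      rw [mul_ap, g0', E_fix (r.ee ..) (by rw [polar_comm, h2'])]
    · change (_ : Om Q).1 (r.f 0) = r.f 0
      rw [mul_ap, h1]
      refine E_fix (by simp [r.ef]) ?_
      rw [polar_sub_left]; nth_rewrite 1 [← h1]; rw [O.map_polar, sub_self]
    · change (_ : Om Q).1 (r.e 1) = r.e 1
      rw [mul_ap, g1', E_apply_self (r.qe 1) h2]

end H45.SPO
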