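/- STD-SP wreath endgame (row S3129): case I, `U* ≤ W` (job W1). -/
import Cfsg.Agent.H67.SWDef

set_option autoImplicit false
set_option linter.unusedSectionVars false

namespace H45.SW

open H64.SG (Syl Cs Ns cjs Is2 Inv2 isPGroup_iff_is2)
open H67.SA (St cI cm)
open H59.SO Subgroup H98 H86.WR
open H67.SW (WG)

universe u

/-- class at most `2` -/
def C2 {G : Type*} [Group G] (K : Subgroup G) : Prop := ∀ a ∈ K, ∀ b ∈ K, ∀ c ∈ K, cm (cm a b) c = 1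

theorem c2_iff {G : Type*} [Group G] {K : Subgroup G} : C2 K ↔ ⁅⁅K, K⁆, K⁆ = ⊥ :=
  ⟨fun h => commutator_eq_bot_iff_le_centralizer.2 (commutator_le.2 fun a ha b hb c hc =>
    (H67.SA.cm_eq_one.1 (h a ha b hb c hc)).symm), fun h _ ha _ hb _ hc =>
    mem_bot.1 (h ▸ commutator_mem_commutator (commutator_mem_commutator ha hb) hc)⟩

variable {X : Type} [Group X] [Finite X] {G : Type u} [Group G] [Finite G] {e e₁ e₂ : X →* G}
  {g t : G} {U N : Subgroup X} {K : Subgroup G} {β : MulAut X} (c : CW e t e₁ e₂)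
include c

theorem cm2 (a b a' b' : X) : cm (e₁ a * e₂ b) (e₁ a' * e₂ b') = e₁ (cm a a') * e₂ (cm b b') := by
  have k : ∀ a b, (e₁ a * e₂ b)⁻¹ = e₁ a⁻¹ * e₂ b⁻¹ := fun a b => by
    rw [c.comm a⁻¹, mul_inv_rev, map_inv, map_inv]
  rw [cm, k, k, c.mul_mul, c.mul_mul, c.mul_mul]

theorem c2_two (h : C2 N) : C2 (two e₁ e₂ N) := fun x hx y hy z hz => by
  obtain ⟨a, ha, a', ha', rfl⟩ := c.mem_two.1 hx
  obtain ⟨b, hb, b', hb', rfl⟩ := c.mem_two.1 hy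
  obtain ⟨d, hd, d', hd', rfl⟩ := c.mem_two.1 hz
  rw [cm2 c, cm2 c, h a ha b hb d hd, h a' ha' b' hb' d' hd', map_one, map_one, mul_one]

theorem c2_pr (hs : NS X) (h : C2 K) : ⁅⁅pr c K, pr c K⁆, pr c K⁆ = ⊥ :=
  c2_iff.1 fun a ⟨_, ha⟩ b ⟨_, hb⟩ d ⟨_, hd⟩ => by
    have := h _ ha _ hb _ hd
    rw [cm2 c, cm2 c] at this
    exact (c.inj2 hs (c := 1) (d := 1) (this.trans (by simp))).1

theorem stU (hs : NS X) (hg : g ∈ Ns (two e₁ e₂ U)) (i : Ind e₁ g β) : β ∈ St U := by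
  refine i.st c.inj ?_
  have : two e₁ e₂ U ⊓ e₁.range = U.map e₁ :=
    le_antisymm (fun w hw => inf_left hs c hw.1 hw.2) (le_inf le_sup_left (map_le_range _ _))
  rw [← this]
  exact le_normalizer_inf (zpowers_le.2 hg) (zpowers_le.2 i.mem_Ns) (mem_zpowers g)

theorem norN (hs : NS X) (ht : t * t = 1) (hN : St U ≤ St N) (hg : g ∈ Ns (two e₁ e₂ U))
    (h1 : g ∈ Ns e₁.range) (h2 : g ∈ Ns e₂.range) : g ∈ Ns (two e₁ e₂ N) := by
  obtain ⟨β₁, i1⟩ := exists_ind c.inj h1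
  obtain ⟨β₂, i2⟩ := exists_ind c.inj₂ h2
  exact normalizer_inf_normalizer_le_normalizer_sup _ _ ⟨(i1.st_iff c.inj).2 (hN (stU c hs hg i1)),
    (i2.st_iff c.inj₂).2 (hN (stU (c.symm ht) hs (by rwa [two_comm]) i2))⟩

theorem memcI {D A : Subgroup X} (w : WG U D A) (hK : C2 K) (h1 : U.map e₁ ≤ Ns K) (hg : g ∈ K)
    (g2 : Is2 g) (h2 : g ∈ Ns (two e₁ e₂ U)) (i : Ind e₁ g β) : β ∈ cI U := by
  by_contra k
  refine w.ub.2 β (stU c w.ns h2 i) (i.is2 c.inj g2) k (pr c K) (fun u hu => ⟨1, ?_⟩)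
    (c2_pr c w.ns hK)
  rw [map_one, mul_one, map_mul, ← i u, map_inv]
  simpa only [mul_assoc] using
    mul_mem hg (conj_mem_of_mem_normalizer (h1 ⟨u, hu, rfl⟩) (inv_mem hg))

omit c in
theorem jobW1 : H67.SW.JobW1.{u} := by
  intro X _ _ U D A w G _ _ e t h e₁ e₂ c gw W hW h1 h2 n hn
  have ht := h.inv.1
  have nU : W ≤ Ns (two e₁ e₂ U) := by
    rw [← (H64.SG.syl_iff.1 (c.syl_two w.syl)).eq_of_le (hW.to_le inf_le_left)
      (le_inf h2 (two_le _)) inf_le_right]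
    exact le_normalizer_inf le_normalizer h1
  have key : ∀ N ≤ U, St U ≤ St N → ⁅⁅N, N⁆, N⁆ = ⊥ → cj n (two e₁ e₂ N) ≤ two e₁ e₂ U := by
    intro N hN hS h3 g hg
    have nN : W ≤ Ns (two e₁ e₂ N) := fun m hm => by
      rcases gw.pm m (h1 hm) with k | k
      · exact norN c w.ns ht hS (nU hm) k.1 k.2
      refine (mul_mem_cancel_left (c.t_mem_Ns ht N)).1 (norN c w.ns ht hS
        (mul_mem (c.t_mem_Ns ht U) (nU hm)) (cj_eq_self_iff.1 ?_) (cj_eq_self_iff.1 ?_))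
      · rw [← cj_cj]
        exact (congrArg _ k.1).trans (c.symm ht).cjs_range
      · rw [← cj_cj]
        exact (congrArg _ k.2).trans c.cjs_range
    have kW : ∀ x ∈ W, n⁻¹ * x * n ∈ W := fun x hx => by
      simpa using conj_mem_of_mem_normalizer (inv_mem hn) hx
    have nK : W ≤ Ns (cj n (two e₁ e₂ N)) := fun m hm => mem_normalizer_fintype fun x hx =>
      mem_cj.2 (by simpa [mul_assoc] using conj_mem_of_mem_normalizer (nN (kW m hm)) (mem_cj.1 hx))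
    have hK : C2 (cj n (two e₁ e₂ N)) := fun a ha b hb d hd => by
      have := c2_two c (c2_iff.2 h3) _ (mem_cj.1 ha) _ (mem_cj.1 hb) _ (mem_cj.1 hd)
      calc _ = n * cm (cm (n⁻¹ * a * n) (n⁻¹ * b * n)) (n⁻¹ * d * n) * n⁻¹ := by
            simp only [cm]; group
        _ = 1 := by rw [this]; group
    have gW : g ∈ W := by
      simpa [mul_assoc] using conj_mem_of_mem_normalizer hn (h2 (two_mono hN (mem_cj.1 hg)))
    have g2 := isPGroup_iff_is2.1 hW g gW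
    have u1 : U.map e₁ ≤ Ns (cj n (two e₁ e₂ N)) := (le_sup_left.trans h2).trans nK
    rcases gw.pm g (h1 gW) with k | k
    · obtain ⟨β₁, i1⟩ := exists_ind c.inj k.1
      obtain ⟨β₂, i2⟩ := exists_ind c.inj₂ k.2
      obtain ⟨a, ha, rfl⟩ := H67.SA.mem_cI.1 (memcI c w hK u1 hg g2 (nU gW) i1)
      obtain ⟨b, hb, rfl⟩ := H67.SA.mem_cI.1 (memcI (c.symm ht) w hK
        ((le_sup_right.trans h2).trans nK) hg g2 (by rw [two_comm]; exact nU gW) i2)
      exact c.mem_two.2 ⟨a, ha, b, hb, dec2 w.ns c gw.odd g2 i1 i2⟩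
    · have k1 : U ≤ pr c (cj n (two e₁ e₂ N)) := fun u hu => by
        obtain ⟨b, hb⟩ := k.1.le (mem_map_of_mem _ (⟨u⁻¹, rfl⟩ : e₁ u⁻¹ ∈ e₁.range))
        refine ⟨b, ?_⟩
        rw [hb, map_inv]
        simpa [mul_assoc] using
          mul_mem (conj_mem_of_mem_normalizer (u1 ⟨u, hu, rfl⟩) hg) (inv_mem hg)
      exact absurd (eq_bot_iff.2 ((commutator_mono (commutator_mono k1 k1) k1).trans
        (c2_pr c w.ns hK).le)) w.ub.1
  refine mem_normalizer_of_cj_le ?_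
  rw [cj_sup]
  refine sup_le ?_ ?_ <;>
  refine map_le_iff_le_comap.2 (map_le_iff_le_comap.2 (w.cl.trans ((closure_le _).2
    fun x ⟨_, N, n1, n2, n3, n4⟩ => key N n1 n3 n4 (conj_mem_cj ?_))))
  exacts [mem_sup_left ⟨x, n2, rfl⟩, mem_sup_right ⟨x, n2, rfl⟩]

end H45.SW
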