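import Cfsg.Agent.H46.Misc
import Cfsg.Agent.H48.Final4
import Cfsg.Agent.H10.MaxClass

/-! Peterfalvi (12.12), as a statement about groups. -/

set_option autoImplicit false

open Cfsg H46 Subgroup

namespace H45

universe u
variable {G : Type u} [Group G] [Finite G] {T E H L M P₀ : Subgroup G} {x : G} {p : ℕ}

theorem card_lines (hp : p.Prime) (hT : ElemAb p 2 T H) :
    Nat.card {X : Subgroup G // X ≤ T ∧ Nat.card X = p} = p + 1 := by
  have := Fact.mk hp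
  rw [← H10.card_subgroups_of_card_sq hT.2.2 (H51.elemAb_not_cyclic hp hT le_rfl)]
  exact (Nat.card_congr ⟨fun X => ⟨X.1.map T.subtype, map_subtype_le _, by rw [card_map_subtype, X.2]⟩,
    fun X => ⟨X.1.subgroupOf T, by rw [card_subgroupOf X.2.1, X.2.2]⟩,
    fun X => Subtype.ext (subgroupOf_map_subtype_self _),
    fun X => Subtype.ext (map_subgroupOf_eq_of_le X.2.1)⟩).symm

theorem card_dvd_succ_of_free (hp : p.Prime) (hT : ElemAb p 2 T H) (hn : E ≤ Nrm T)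
    (h : ∀ X ≤ T, Nat.card X = p → E ⊓ Nrm X = ⊥) : Nat.card E ∣ p + 1 := by
  let Ω := {X : Subgroup G // X ≤ T ∧ Nat.card X = p}
  letI : MulAction E Ω :=
    { smul := fun e X => ⟨cj e X.1, (cj_mono e.1 X.2.1).trans (cj_of_mem_nrm (hn e.2)).le, by rw [card_cj, X.2.2]⟩
      one_smul := fun X => Subtype.ext (cj_one _)
      mul_smul := fun a b X => Subtype.ext (cj_mul _ _ _) }
  have := Nat.card_congr (MulAction.selfEquivOrbitsQuotientProd (G := E) (X := Ω) fun X =>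
    (eq_bot_iff_forall _).2 fun e he => Subtype.ext ((eq_bot_iff_forall _).1 (h X.1 X.2.1 X.2.2) e
      ⟨e.2, mem_nrm_iff_cj.2 (congrArg Subtype.val he)⟩))
  rw [Nat.card_prod, card_lines hp hT] at this
  exact Dvd.intro_left _ this.symm

theorem card_dvd_of_rank_two (hp : p.Prime) (hT : ElemAb p 2 T H) (hn : E ≤ Nrm T)
    (hreg : Semiregular T E) (hE : IsMulCommutative E) (hx : x ∈ T)
    (h : E ⊓ Nrm (zpowers x) = ⊥) : Nat.card E ∣ p - 1 ∨ Nat.card E ∣ p + 1 := by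
  by_cases hf : ∀ X ≤ T, Nat.card X = p → E ⊓ Nrm X = ⊥
  · exact Or.inr (card_dvd_succ_of_free hp hT hn hf)
  push Not at hf
  obtain ⟨X, hXT, hX, hne⟩ := hf
  obtain ⟨a, ⟨haE, haX⟩, ha1⟩ := exists_ne_one_of_ne_bot hne
  obtain ⟨y, hy, hy1⟩ := exists_ne_one_of_ne_bot (ne_bot_of_card_prime (hX ▸ hp))
  have := conj_mem_of_mem_nrm haX hy
  rw [← eq_zpowers_of_card_prime (hX ▸ hp) hy hy1] at this
  obtain ⟨k, hk⟩ := mem_zpowers_iff.1 this
  have hc : ∀ s ∈ T, ∀ t ∈ T, Commute s t := fun s hs t ht =>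
    congrArg Subtype.val (hT.2.1.1.is_comm.comm ⟨s, hs⟩ ⟨t, ht⟩)
  let S : Subgroup G :=
    { carrier := {t | t ∈ T ∧ t ^ k = a * t * a⁻¹}
      one_mem' := ⟨T.one_mem, by simp⟩
      mul_mem' := fun {s t} hs ht => ⟨T.mul_mem hs.1 ht.1, by
        rw [(hc s hs.1 t ht.1).mul_zpow, hs.2, ht.2]; group⟩
      inv_mem' := fun {t} ht => ⟨T.inv_mem ht.1, by rw [inv_zpow, ht.2]; group⟩ }
  have hS : S ≤ T := fun _ h => h.1
  have hnS : E ≤ Nrm S := fun e he => mem_nrm_of_cj_le (by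
    rintro _ ⟨t, ht, rfl⟩
    have e1 : e * a = a * e := congrArg Subtype.val (hE.is_comm.comm ⟨e, he⟩ ⟨a, haE⟩)
    refine ⟨conj_mem_of_mem_nrm (hn he) ht.1, ?_⟩
    change (e * t * e⁻¹) ^ k = a * (e * t * e⁻¹) * a⁻¹
    rw [conj_zpow, ht.2, show a * (e * t * e⁻¹) * a⁻¹ = a * e * t * (a * e)⁻¹ by group, ← e1]
    group)
  have := (hreg.mono hS le_rfl).dvd_pred hnS
  rw [card_eq_of_lt_sq hp hT.2.2 hS (ne_bot_of_mem (x := y) ⟨hXT hy, hk⟩ hy1) fun e => ha1 ?_] at this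
  · exact Or.inl this
  · refine (eq_bot_iff_forall _).1 h a ⟨haE, mem_nrm_of_cj_le ?_⟩
    rw [cj_zpowers, zpowers_le, ← (show x ∈ S from e ▸ hx).2]
    exact zpow_mem (mem_zpowers x) k

/-- (12.12) -/
theorem compl_dvd_12_12 (hF : IsFrob H E L) (hodd : Odd (Nat.card L)) (hsol : Group.IsSolvable E)
    (hp : p.Prime) (hP₀ : IsSylowOf p P₀ M) (hab : IsMulCommutative P₀) (hr : H46.pRank p P₀ ≤ 2)
    (hP₀H : P₀ ≤ H) (hx : x ∈ P₀) (hx1 : x ≠ 1) (hxp : x ^ p = 1) (hN : Nrm (zpowers x) ≤ M)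
    (hML : M ⊓ L ≤ H) : Nat.card E ∣ p - 1 ∨ Nat.card E ∣ p + 1 := by
  have hP : P₀ ≤ Op p H := nil_le_piCoreOf hF.nil hP₀H hP₀.isPi
  set T := omegaOne p (Zc (Op p H)) with hTdef
  have hTZ : T ≤ Zc (Op p H) := omegaOne_le _ _
  have hTH : T ≤ H := (hTZ.trans inf_le_left).trans (piCoreOf_le _ _)
  have hel : IsElementaryAbelian p T := elem_omegaOne_of_comm p (comm_zc _)
  have hTx : T ≤ Cent1 x := (hTZ.trans inf_le_right).trans (cent_le_cent1 (hP hx))
  have hTP : T ≤ P₀ := by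
    have := hP₀.eq_of_le (L := Op p H ⊓ M) ((isPi_piCoreOf _ _).of_le inf_le_left)
      (le_inf hP hP₀.le) inf_le_right
    rw [← this]
    exact le_inf (hTZ.trans inf_le_left)
      (hTx.trans (((cent_zpowers x).ge.trans (cent_le_nrm _)).trans hN))
  have hn : E ≤ Nrm T := nrm_omegaOne p (nrm_zc (nrm_piCoreOf _ hF.sd.norm))
  have hreg : Semiregular T E := hF.reg.mono hTH le_rfl
  have hne : T ≠ ⊥ := omegaOne_ne_bot_of_isPi ((isPi_piCoreOf _ _).of_le inf_le_left)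
    (zc_ne_bot_of_isPGroup hp (isPGroup_Op hp H) (ne_bot_of_mem (hP hx) hx1))
  obtain ⟨n, hn'⟩ := elem_exists_elemAb hp hel
  have h2 : n ≤ 2 := (H51.le_pRank' hp (H51.elemAb_mono hn' hTP)).trans hr
  interval_cases n
  · exact absurd (eq_bot_of_card_eq _ (by rw [hn'.2.2, pow_zero])) hne
  · have := hreg.dvd_pred hn
    rw [hn'.2.2, pow_one] at this
    exact Or.inl this
  have hxT : x ∈ T := by
    have h1 : IsElementaryAbelian p (omegaOne p P₀) := elem_omegaOne_of_comm p hab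
    obtain ⟨m, hm⟩ := elem_exists_elemAb hp h1
    have h3 : m ≤ 2 := (H51.le_pRank' hp (H51.elemAb_mono hm (omegaOne_le _ _))).trans hr
    rw [eq_of_le_of_card_ge (elem_le_omegaOne hTP hel) (by
      rw [hm.2.2, hn'.2.2]; exact Nat.pow_le_pow_right hp.pos h3)]
    exact mem_omegaOne hx hxp
  have hoT : Odd (Nat.card T) := hodd.of_dvd_nat (card_dvd_of_le (hTH.trans hF.sd.le_left))
  have hd := H48.T4_17.out hp (H51.elem_pgroup hel) hoT ((pRank_mono hp hTP).trans hr) hn hsol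
    (hodd.of_dvd_nat (card_dvd_of_le hF.sd.le_right))
  have hE : ⁅E, E⁆ = ⊥ := by
    by_contra hc
    obtain ⟨q, hq, hqd⟩ := exists_prime_dvd_card hc
    have h0 : Cent T ⊓ ⁅E, E⁆ = ⊥ := eq_bot_of_le (inf_le_inf_left _ (der_le E))
      (inf_comm E _ ▸ hreg.symm.cent le_rfl hne)
    rw [← inf_relIndex_right, h0, relIndex_bot_left] at hd
    obtain rfl : q = p := hd q hq hqd
    exact hq.one_lt.ne' (Nat.eq_one_of_dvd_coprimes (hreg.coprime hn)
      (hqd.trans (card_dvd_of_le (der_le E))) (hn'.2.2 ▸ dvd_pow_self q two_ne_zero))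
  exact card_dvd_of_rank_two hp hn' hn hreg (der_eq_bot_iff.1 hE) hxT (eq_bot_of_le
    (le_inf ((le_inf (inf_le_right.trans hN) (inf_le_left.trans hF.sd.le_right)).trans hML)
      inf_le_left) hF.sd.inf)

end H45
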