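import Cfsg.Agent.H45.Sec12d
import Cfsg.Agent.H44.Sibley

/-! Peterfalvi (12.6), and the exports of section 12 from (12.8)-(12.12). -/

open Cfsg hiding IsOfTypeI typeA typeA0 Supports
open H46 hiding cj
open H42 H44 H6

namespace H45

universe u
variable {G : Type u} [Group G] [Finite G] {L E : Subgroup G}

theorem sibleyFrob (G : Type u) [Group G] [Finite G] : SibleyFrob G :=
  fun _ _ _ => sibley_coherence_frob

/-- (12.6) -/
theorem FT_Frobenius_coherence (hG : FT G) (hL : IsCoatom L) (hF : IsFrob (fittingHallOf L) E L) :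
    Coh L ⊤ (sIndD L (fittingHallOf L) (fittingHallOf L) ⊥) (ftDade L) :=
  (sibleyFrob G).coherence hG hL hF

theorem in12_of_nonFrob (hG : FT G)
    (hN : ∀ M₀ : Subgroup G, IsCoatom M₀ → IsOfTypeI M₀ → (¬ ∃ E, IsFrob (fittingHallOf M₀) E M₀) →
      ∃ M L E p x g₀, NonFrob (G := G) M L E p x g₀) : In12 G := in12_of hG (sibleyFrob G) hN

end H45
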