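import Cfsg.Agent.H45.Sec7c
import Cfsg.Agent.H44.Sibley

/-! Peterfalvi (7.10), (7.11). -/

open Cfsg H42 H44

namespace H45

variable {G : Type*} [Group G] [Finite G]

theorem FrobKer.coh_ind {L H : Subgroup G} (hF : FrobKer H L) (hodd : Odd (Nat.card L))
    (hTI : H46.NormedTI ((H : Set G) \ {1}) L) : Coh L ⊤ (sIndD L H H ⊥) (ind ⊤ L) :=
  let ⟨_, hW⟩ := hF.exists_isFrob; sibley_coherence_frob hodd hF.nil hTI hW

/-- (7.10) -/
theorem coherent_Frobenius_bound {ι : Type*} [Fintype ι] [Nonempty ι]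
    (hodd : Odd (Nat.card G)) {L H : ι → Subgroup G} (hF : ∀ i, FrobKer (H i) (L i))
    (hTI : ∀ i, H46.NormedTI ((H i : Set G) \ {1}) (L i))
    (hcop : ∀ i j, i ≠ j → Nat.Coprime (Nat.card (H i)) (Nat.card (H j))) {G0 : Finset G}
    (hG0 : ∀ g, g ∈ G0 ↔ ∀ i, ∀ x : G, x * g * x⁻¹ ∈ H i → g = 1) :
    ∃ i, let e : ℝ := (H i).relIndex (L i); let h : ℝ := Nat.card (H i)
      (e - 1) * ((h - 2 * e - 1) / (e * h) + 2 / (h * (h + 2))) ≤ (G0.card - 1) / Nat.card G :=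
  coherent_Frobenius_bound_of_coh hodd hF hTI (fun i => (hF i).coh_ind
    (hodd.of_dvd_nat (Subgroup.card_subgroup_dvd_card _)) (hTI i)) hcop hG0

/-- (7.11) -/
theorem no_coherent_Frobenius_partition {ι : Type*} [Finite ι] [Nonempty ι]
    (hodd : Odd (Nat.card G)) {L H : ι → Subgroup G} (hF : ∀ i, FrobKer (H i) (L i))
    (hTI : ∀ i, H46.NormedTI ((H i : Set G) \ {1}) (L i))
    (hcop : ∀ i j, i ≠ j → Nat.Coprime (Nat.card (H i)) (Nat.card (H j))) :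
    ∃ g : G, g ≠ 1 ∧ ∀ i, ∀ x : G, x * g * x⁻¹ ∉ H i :=
  no_coherent_Frobenius_partition_of_coh hodd hF hTI (fun i => (hF i).coh_ind
    (hodd.of_dvd_nat (Subgroup.card_subgroup_dvd_card _)) (hTI i)) hcop

end H45
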