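import Cfsg.Agent.H86.TP.Spec

/-! # S1308, chapter TE part 1, step F2. -/

set_option autoImplicit false

namespace H45.TPF2

open Cfsg Subgroup MulAction H14 H98 H1.Gold H31.S2 H14.GC H14.FE H14.NF H86.TP
open scoped commutatorElement

universe u

variable {G : Type u} [Group G]

theorem comm_sup {Z A B : Subgroup G} (hn : A ⊔ B ≤ nor Z)
    (aa : ∀ a ∈ A, ∀ b ∈ A, ⁅a, b⁆ ∈ Z) (ba : ∀ a ∈ B, ∀ b ∈ A, ⁅a, b⁆ ∈ Z)
    (bb : ∀ a ∈ B, ∀ b ∈ B, ⁅a, b⁆ ∈ Z) : ∀ a ∈ A ⊔ B, ∀ b ∈ A ⊔ B, ⁅a, b⁆ ∈ Z := by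
  have sy : ∀ a b : G, ⁅a, b⁆ ∈ Z → ⁅b, a⁆ ∈ Z := fun a b h => by
    rw [← commutatorElement_inv]
    exact Z.inv_mem h
  have nA : A ≤ nor Z := le_sup_left.trans hn
  have nB : B ≤ nor Z := le_sup_right.trans hn
  have h1 : A ⊔ B ≤ stab A Z := sup_le (fun x hx => ⟨nA hx, fun c hc => aa c hc x hx⟩)
    fun x hx => ⟨nB hx, fun c hc => sy _ _ (ba x hx c hc)⟩
  have h2 : A ⊔ B ≤ stab B Z := sup_le (fun x hx => ⟨nA hx, fun c hc => ba c hc x hx⟩)
    fun x hx => ⟨nB hx, fun c hc => bb c hc x hx⟩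
  have h3 : A ⊔ B ≤ stab (A ⊔ B) Z :=
    sup_le (fun x hx => ⟨nA hx, fun c hc => sy _ _ ((h1 hc).2 x hx)⟩)
      fun x hx => ⟨nB hx, fun c hc => sy _ _ ((h2 hc).2 x hx)⟩
  exact fun a ha b hb => (h3 hb).2 a ha

theorem el_two {E : Subgroup G} (h : El E) : IsPGroup 2 E :=
  isPGroup_iff_forall.2 fun x hx => ⟨1, by rw [pow_one, pow_two]; exact h x hx⟩

theorem el_comm {E : Subgroup G} (h : El E) {a b : G} (ha : a ∈ E) (hb : b ∈ E) : ⁅a, b⁆ = 1 := by
  rw [commutatorElement_def, inv_eq_of_mul_eq_one_right (h a ha), inv_eq_of_mul_eq_one_right (h b hb),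
    mul_assoc (a * b)]
  exact h _ (E.mul_mem ha hb)

theorem zp_two {f z : G} (h : f * f = 1) (hz : z ∈ zpowers f) : z = 1 ∨ z = f := by
  obtain ⟨k, rfl⟩ := mem_zpowers_iff.1 hz
  have e : ∀ m : ℤ, f ^ (2 * m) = 1 := fun m => by
    rw [zpow_mul, zpow_two, h, one_zpow]
  obtain ⟨m, rfl | rfl⟩ := Int.even_or_odd' k
  · exact Or.inl (e m)
  · exact Or.inr (by rw [zpow_add, e, one_mul, zpow_one])

theorem jF2 : JobF2.{u} := by
  intro f1 G _ _ Q Q' T R E h f hf g hg hf'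
  haveI : Fact (Nat.Prime 2) := ⟨Nat.prime_two⟩
  have TQ : T ≤ nor Q := h.syl.le.trans inf_le_right
  have ET : E ≤ cen T := h.eq.le.trans inf_le_right
  have ER : E ≤ R := h.eq.le.trans inf_le_left
  have RTE : R ⊔ T ≤ nor E :=
    le_normalizer_of_le_centralizer (sup_le h.cenE (le_centralizer_iff.1 ET))
  have syl : IsSyl 2 (R ⊔ T) (Q ⊔ T) := by
    refine ⟨sup_le_sup_right h.sylR.le _,
      h.sylR.isPGroup.to_sup_of_normal_left' (el_two h.el) h.norR, fun U hU h1 h2 => ?_⟩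
    refine le_antisymm (fun x hx => ?_) h1
    obtain ⟨a, ha, t, ht, rfl⟩ := (mem_sup_right_norm TQ).1 (h2 hx)
    have e : U ⊓ Q = R := h.sylR.eq_of_le (hU.to_le inf_le_left)
      (le_inf (le_sup_left.trans h1) h.sylR.le) inf_le_right
    have : a ∈ U ⊓ Q := ⟨(U.mul_mem_cancel_right (h1 (mem_sup_right ht))).1 hx, ha⟩
    exact mul_mem_sup (e.le this) ht
  have cm := comm_sup RTE h.cmP (fun t ht y hy => ((h.mem y).1 hy).2 t ht)
    fun a ha b hb => by rw [el_comm h.el ha hb]; exact one_mem _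
  have nf : ∀ f ∈ R ⊔ T, R ⊔ T ≤ nor (E ⊔ zpowers f) := fun f hf x hx => by
    refine mem_normalizer_of_cj_le ?_
    rw [cj_sup, cj_eq_self (RTE hx)]
    refine sup_le le_sup_left ?_
    rw [cj, MonoidHom.map_zpowers, zpowers_le]
    have e : (MulAut.conj x).toMonoidHom f = ⁅x, f⁆ * f := by
      simp only [MulEquiv.toMonoidHom_eq_coe, MonoidHom.coe_coe, MulAut.conj_apply,
        commutatorElement_def]
      group
    rw [e]
    exact mul_mem_sup (cm x hx f hf) (mem_zpowers f)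
  have fR : f ∈ R ⊔ T := sup_le_sup_right ER T hf
  have gQ : g ∈ Q ⊔ T := mem_sup_left hg.1
  have s1 : IsSyl 2 (R ⊔ T) ((Q ⊔ T) ⊓ nor E ⊓ nor (E ⊔ zpowers (g * f * g⁻¹))) :=
    syl.of_le (le_inf (le_inf syl.le RTE) (nf _ hf')) (inf_le_left.trans inf_le_left)
  have s2 : IsSyl 2 (cj g (R ⊔ T)) ((Q ⊔ T) ⊓ nor E ⊓ nor (E ⊔ zpowers (g * f * g⁻¹))) := by
    refine (syl.cj_of_mem gQ).of_le (le_inf (le_inf (syl.cj_of_mem gQ).le ?_) ?_)
      (inf_le_left.trans inf_le_left)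
    · have := (cj_mono g RTE).trans (cj_normalizer g E).le
      rwa [cj_eq_self hg.2] at this
    · have := (cj_mono g (nf f fR)).trans (cj_normalizer g _).le
      rw [cj_sup g E, cj_eq_self hg.2, cj, cj, MonoidHom.map_zpowers] at this
      exact this
  obtain ⟨k, hk, e⟩ := s2.exists_cj_eq s1
  rw [cj_cj] at e
  have hN := f1 G Q Q' T R E h ⟨(Q ⊔ T).mul_mem hk.1.1 gQ, cj_eq_self_iff.1 e⟩
  have m1 : k * (g * f * g⁻¹) * k⁻¹ ∈ E ⊔ T := by
    have := conj_mem_of_mem_normalizer hN hf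
    simpa only [mul_assoc, _root_.mul_inv_rev] using this
  have m2 : k * (g * f * g⁻¹) * k⁻¹ ∈ E ⊔ zpowers (g * f * g⁻¹) :=
    conj_mem_of_mem_normalizer hk.2 (mem_sup_right (mem_zpowers _))
  have ff : f * f = 1 := by
    obtain ⟨r, hr, t, ht, rfl⟩ := (h.memF f).1 hf
    have c : t * r = r * t := mem_centralizer_iff.1 (ET hr) t ht
    calc r * t * (r * t) = r * (t * r) * t := by group
      _ = (r * r) * (t * t) := by rw [c]; group
      _ = 1 := by rw [h.elE r hr, h.el t ht, one_mul]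
  have ff' : g * f * g⁻¹ * (g * f * g⁻¹) = 1 := by
    rw [conj_mul, ff, mul_one, mul_inv_cancel]
  obtain ⟨r, hr, z, hz, e2⟩ := (mem_sup_right_norm (zpowers_le.2 (RTE hf'))).1 m2
  rcases zp_two ff' hz with rfl | rfl
  · have := conj_mem_of_mem_normalizer' hk.1.2 hr
    rw [mul_one] at e2
    rw [← e2] at this
    refine mem_sup_left ?_
    simpa only [mul_assoc, inv_mul_cancel_left, inv_mul_cancel, mul_one] using this
  · rw [e2] at m1
    exact ((E ⊔ T).mul_mem_cancel_left (mem_sup_left hr)).1 m1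

end H45.TPF2
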