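import Cfsg.Agent.H57.U2CSpec
import Cfsg.Agent.H48.DP3Kit

/-! # S3275, chapter U2F, step XS. -/

set_option autoImplicit false

namespace H45.U2CXS

open Subgroup Cfsg H98 H48.DP H57.U2C
open scoped commutatorElement

universe u

variable {G : Type u} [Group G]

theorem stab_bot (B : Subgroup G) : stab B ⊥ = Ce B := by
  ext x
  rw [mem_stab, mem_Ce]
  refine ⟨fun h c hc => commutatorElement_eq_one_iff_mul_comm.1 (mem_bot.1 (h.2 c hc)),
    fun h => ⟨le_normalizer_bot ⊤ (mem_top x), fun c hc =>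
      mem_bot.2 (commutatorElement_eq_one_iff_mul_comm.2 (h c hc))⟩⟩

theorem ce_zpowers (w : G) : Ce (zpowers w) = C1 w := by
  ext x
  rw [mem_Ce, mem_C1]
  refine ⟨fun h => h w (mem_zpowers w), fun h a ha => ?_⟩
  obtain ⟨k, rfl⟩ := mem_zpowers_iff.1 ha
  exact ((show Commute w x from h).zpow_left k).eq

theorem conj_in [Finite G] {T P R L W A : Subgroup G} (h : LT T P R L) (hW : L ≤ No W)
    (hA : A ≤ L) (h2 : IsPGroup 2 A) : ∃ g : G, cj g A ≤ T ∧
      (O2 L).relIndex (cj g A) = (O2 L).relIndex A ∧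
      (Ce (cj g A)).relIndex W = (Ce A).relIndex W ∧ (cj g A ≤ O2 L → A ≤ O2 L) := by
  haveI : Fact (Nat.Prime 2) := ⟨Nat.prime_two⟩
  obtain ⟨g, hg, hgT⟩ := h.isSyl.exists_cj_le h2 hA
  have e1 : cj g (O2 L) = O2 L := cj_eq_self (self_le_normalizer_pCoreOf L hg)
  have e2 : cj g W = W := cj_eq_self (hW hg)
  refine ⟨g, hgT, ?_, ?_, fun k => ?_⟩
  · rw [← relIndex_cj g (O2 L) A, e1]
  · rw [← relIndex_cj g (Ce A) W, e2, cj_centralizer]
  · rw [← e1] at k
    exact cj_le_cj_iff.1 k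

theorem two_of_ea {A : Subgroup G} (h : IsElementaryAbelian 2 A) : IsPGroup 2 A :=
  isPGroup_iff_forall.2 fun x hx => ⟨1, by rw [pow_one]; exact h.2 x hx⟩

theorem xs : XS.{u} := by
  intro G _ _ T P R L W _ h hea hLW hWD hDW hfr
  refine ⟨hea, hLW, hWD, hDW, fun w hw hw2 hwD => ?_, fun A hA hE => ?_, fun A hA hE h4 => ?_⟩
  · obtain ⟨g, k1, -, k3, k4⟩ := conj_in h hLW (zpowers_le.2 hw)
      (isPGroup_zpowers (p := 2) (k := 1) (by rw [pow_one, pow_two]; exact hw2))
    have := (hfr _ k1).1 fun k => hwD (k4 k (mem_zpowers w))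
    rwa [stab_bot, k3, ce_zpowers] at this
  · obtain ⟨g, k1, k2, -, -⟩ := conj_in h hLW hA (two_of_ea hE)
    have := h.idx_le_four k1 fun a ha => by
      have e := hE.2 _ (mem_cj.1 ha)
      have e' : a * a = 1 := by
        calc a * a = g * (g⁻¹ * a * g) ^ 2 * g⁻¹ := by rw [pow_two]; group
          _ = 1 := by rw [e]; group
      rw [e']
      exact one_mem _
    rw [k2] at this
    rcases this with e | e | e <;> rw [e] <;> decide
  · obtain ⟨g, k1, k2, k3, -⟩ := conj_in h hLW hA (two_of_ea hE)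
    have := (hfr _ k1).2 (k2.trans h4)
    rwa [stab_bot, k3] at this

end H45.U2CXS
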