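/- STD-SP endgame (row S3129): strong closure of `Q` (job SS). -/
import Cfsg.Agent.H64.YEKit2

set_option autoImplicit false
set_option linter.unusedSectionVars false

namespace H45.YE

open H64.SG (O2 Syl Cz Cs Ns cjs Is2 Inv2 UF IsO2 fx)
open Subgroup H67.UA H67.SP H64.YE
open H67.SA (cm)
open H59.SO (Ind CE AutOn)
open H98 (cj mem_cj)

universe u

section Gen
variable {G : Type*} [Group G]

/-- the stabiliser of the coset `Z a` -/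
def cst {H Z : Subgroup G} (hc : H ≤ Cs Z) (a : G) : Subgroup G where
  carrier := {n | n ∈ H ∧ cm n a ∈ Z}
  one_mem' := ⟨one_mem _, by simp [cm]⟩
  mul_mem' := fun {n m} hn hm => ⟨mul_mem hn.1 hm.1, by
    have e := hc hn.1 _ hm.2
    convert mul_mem hm.2 hn.2 using 1
    calc _ = n * cm m a * n⁻¹ * cm n a := by simp only [cm]; group
      _ = _ := by rw [← e]; group⟩
  inv_mem' := fun {n} hn => ⟨inv_mem hn.1, by
    have e := hc hn.1 _ (inv_mem hn.2)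
    convert inv_mem hn.2 using 1
    calc _ = n⁻¹ * ((cm n a)⁻¹ * n) := by simp only [cm]; group
      _ = _ := by rw [e]; group⟩

theorem cm_mem {Q Z : Subgroup G} (hc : Q ≤ Cs Z) (sq : ∀ x ∈ Q, x * x ∈ Z) {a b : G} (ha : a ∈ Q)
    (hb : b ∈ Q) : cm a b ∈ Z := by
  have e := hc hb _ (inv_mem (sq a ha))
  convert mul_mem (mul_mem (sq _ (mul_mem ha hb)) (inv_mem (sq a ha))) (inv_mem (sq b hb)) using 1
  calc _ = a * b * (a * b) * (b⁻¹ * ((a * a)⁻¹ * b)) * (b * b)⁻¹ := by simp only [cm]; group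
    _ = _ := by rw [e]; group

theorem mem_Ns_line [Finite G] {Z : Subgroup G} {a x : G} (h1 : a ∈ Cs Z) (h2 : cm a x ∈ Z) :
    a ∈ Ns (zpowers x ⊔ Z) := mem_normalizer_fintype fun y hy => by
  have : zpowers x ⊔ Z ≤ (zpowers x ⊔ Z).comap (MulAut.conj a).toMonoidHom :=
    sup_le (zpowers_le.2 (by
      simpa using mul_mem (mem_sup_right h2) (mem_sup_left (mem_zpowers x)))) fun z hz => by
      simpa [← h1 z hz] using mem_sup_right hz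
  exact this hy

theorem core [Finite G] {H S Q Z L : Subgroup G} (hS : H98.IsSyl 2 S H) (hc : H ≤ Cs Z)
    (zq : Z ≤ Q) (qs : Q ≤ S) (sl : S ≤ L) (sq : ∀ x ∈ Q, x * x ∈ Z)
    (st : ∀ x ∈ Q, x * x = 1 → ∀ g ∈ H, g * x * g⁻¹ ∈ L → g * x * g⁻¹ ∈ Q)
    (gen : Q ≤ closure {x | x ∈ Q ∧ x * x = 1}) {x g u y : G} (hx : x ∈ Q) (hg : g ∈ H)
    (e : g * x * g⁻¹ = u) (hu : u ∈ S) (hy : y ∈ closure {y | y ∈ Q ∧ y * y = 1 ∧ cm u y ∈ Z})
    (h2 : u * y * (u * y) = 1) : u ∈ Q := by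
  have qh := qs.trans hS.le
  have fz : ∀ g ∈ H, ∀ z ∈ Z, g * z * g⁻¹ = z := fun g hg z hz => by rw [← hc hg z hz]; group
  obtain ⟨P, hP, h1⟩ := H98.exists_isSyl_le (p := 2) (Q := S ⊓ cst hc u) (H := cst hc u)
    (hS.2.1.to_le inf_le_left) inf_le_right
  obtain ⟨c, hc1, h3⟩ := hP.exists_cj_le (H98.isPGroup_cj g (hS.2.1.to_le qs)) fun a ha => by
    have h4 := mem_cj.1 ha
    refine ⟨by simpa [mul_assoc] using mul_mem (mul_mem hg (qh h4)) (inv_mem hg), ?_⟩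
    have h5 := cm_mem (qh.trans hc) sq h4 hx
    convert h5 using 1
    rw [← fz g hg _ h5, ← e]; simp only [cm]; group
  obtain ⟨k, hk, h4⟩ := hS.exists_cj_le hP.2.1 fun a ha => (hP.le ha).1
  have h5 : ∀ a ∈ P, k * a * k⁻¹ ∈ L := fun a ha => sl (h4 (mem_cj.2 (by simpa [mul_assoc] using ha)))
  have h6 : k * u * k⁻¹ ∈ Q := by
    have h7 : Q ≤ Q.comap (MulAut.conj (k * c * g)).toMonoidHom :=
      gen.trans ((closure_le _).2 fun a ha => st a ha.1 ha.2 _ (mul_mem (mul_mem hk hc1.1) hg) (by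
        convert h5 (c * g * a * (c * g)⁻¹) (h3 (mem_cj.2 (mem_cj.2 (by
          simpa [mul_assoc] using ha.1)))) using 1
        group))
    have h8 := mul_mem (zq (inv_mem hc1.2)) (h7 hx)
    rw [← fz k hk _ (inv_mem hc1.2)] at h8
    convert h8 using 1
    simp only [MulEquiv.coe_toMonoidHom, MulAut.conj_apply, ← e, cm]
    group
  have h7 : closure {y | y ∈ Q ∧ y * y = 1 ∧ cm u y ∈ Z} ≤
      Q ⊓ Q.comap (MulAut.conj k).toMonoidHom := (closure_le _).2 fun a ha =>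
    ⟨ha.1, st a ha.1 ha.2.1 k hk (h5 a (h1 ⟨qs ha.1, qh ha.1, by
      simpa [mul_assoc] using inv_mem ha.2.2⟩))⟩
  have h8 := st _ (mul_mem h6 (h7 hy).2) (by
    simp only [MulEquiv.coe_toMonoidHom, MulAut.conj_apply]
    calc _ = k * (u * y * (u * y)) * k⁻¹ := by group
      _ = 1 := by rw [h2]; group) k⁻¹ (inv_mem hk) (by
    simpa [mul_assoc] using sl (mul_mem hu (qs (h7 hy).1)))
  simpa [mul_assoc] using mul_mem h8 (inv_mem (h7 hy).1)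

end Gen

theorem is2_sq {G : Type*} [Group G] {a : G} (h : a * a = 1) : Is2 a := ⟨1, by rw [pow_one, sq, h]⟩

theorem jobSS : JobSS.{u} := by
  intro n F _ _ _ _ _ _ G _ _ e t Y _ _ _ ι τ Gd Go U Φ K₀ h r Z Q d mi s x hx g hg hc hu
  have hk := h.ker
  have p2 : IsPGroup 2 U := h.syl.2.1
  have i2 : ∀ u ∈ U, Is2 u := fun u hu => (p2 ⟨u, hu⟩).imp fun k e => congrArg Subtype.val e
  have zu := d.zq.trans d.qu
  have cs : ∀ {w}, w ∈ Cs Z → Φ w ∈ Cs (Z.map Φ) := fun {w} hw => by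
    rintro _ ⟨z, hz, rfl⟩
    rw [← map_mul, hw z hz, map_mul]
  have st : ∀ x ∈ Q.map Φ, x * x = 1 → ∀ g ∈ K₀ ⊓ Cs (Z.map Φ), g * x * g⁻¹ ∈ Φ.range →
      g * x * g⁻¹ ∈ Q.map Φ := by
    rintro _ ⟨x, hx, rfl⟩ x2 g hg h1
    replace x2 := sq_of_e hk (i2 x (d.qu hx)) x2
    obtain ⟨v, v2, ev⟩ := exists_sq_range hk h1 (by
      calc _ = g * Φ (x * x) * g⁻¹ := by rw [map_mul]; group
        _ = 1 := by rw [x2]; simp)
    have e1 : ∀ z ∈ Z, g * Φ (x * z) * g⁻¹ = Φ (v * z) := fun z hz => by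
      rw [map_mul, map_mul, ev, mul_assoc _ g⁻¹, ← (Cs (Z.map Φ)).inv_mem hg.2 _ ⟨z, hz, rfl⟩]; group
    have hv : v ∈ Cs Z := fun z hz => ((e_comm_iff hk (i2 z (zu hz))).1 (by
      rw [← map_mul, ← e1 z hz, ← d.uz (d.qu hx) z hz, map_mul, ev, ← mul_assoc g,
        ← hg.2 _ ⟨z, hz, rfl⟩]; group)).symm
    have sq : ∀ {a z : Y}, a * a = 1 → a ∈ Cs Z → z ∈ Z → a * z * (a * z) = 1 := fun {a z} a2 ha hz => by
      rw [mul_assoc, ← mul_assoc z, ha z hz, mul_assoc, d.z2 z hz, mul_one, a2]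
    exact ⟨v, s.pat v hv v2 x hx x2 fun z hz =>
      have h2 := sq x2 (d.uz (d.qu hx)) hz
      have h3 := sq v2 hv hz
      (h.fu (is2_sq h2) (is2_sq h3) (mi _ h2) (mi _ h3) (e1 z hz)).2, ev⟩
  by_cases x2 : x * x = 1
  · exact st _ ⟨x, hx, rfl⟩ (by rw [← map_mul, x2, map_one]) g ⟨hg, hc⟩ (map_le_range _ _ hu)
  obtain ⟨u, hu, eu⟩ := hu
  have e2 : u * u = x * x := inj2 hk (i2 _ (mul_mem hu hu)) (i2 _ (d.qu (mul_mem hx hx))) (by
    calc _ = g * Φ (x * x) * g⁻¹ := by rw [map_mul, map_mul, eu]; group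
      _ = _ := by rw [← hc _ ⟨_, d.sq x hx, rfl⟩]; group)
  rcases s.scf u hu x hx x2 e2 with ⟨y, hy, y2⟩ | ⟨tz, ⟨w, hw, w1⟩, w', hw', w2⟩
  · refine core (H := K₀ ⊓ Cs (Z.map Φ)) (y := Φ y) (H64.SG.syl_iff.1 (h.sylZ d)) inf_le_right (map_mono d.zq)
      (map_mono d.qu) (map_le_range _ _) ?_ st ?_ ⟨x, hx, rfl⟩ ⟨hg, hc⟩ rfl ⟨u, hu, eu⟩ ?_ ?_
    · rintro _ ⟨a, ha, rfl⟩
      exact ⟨_, d.sq a ha, map_mul _ _ _⟩
    · refine (map_mono s.gen).trans (map_le_iff_le_comap.2 ((closure_le _).2 fun a ha =>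
        subset_closure ⟨⟨a, ha.1, rfl⟩, ?_⟩))
      rw [← map_mul, ha.2, map_one]
    · refine mem_comap.1 ((Subgroup.closure_le _).2 (fun a ha => ?_) hy)
      refine mem_comap.2 (Subgroup.subset_closure ⟨⟨a, ha.1, rfl⟩, ?_, _, ha.2.2, ?_⟩)
      · rw [← map_mul, ha.2.1, map_one]
      · simp [cm, eu]
    · rw [← eu, ← map_mul, ← map_mul, y2, map_one]
  have k : ∀ {w a : Y}, w ∈ Cs Z → tw τ w a * a⁻¹ ∈ Z → Φ w * t * (Φ w)⁻¹ ∈ Cs (Z.map Φ) ∧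
      Φ w * t * (Φ w)⁻¹ ∈ Ns (zpowers (Φ a) ⊔ Z.map Φ) := fun {w a} hw ha => by
    have h1 : Φ w * t * (Φ w)⁻¹ ∈ Cs (Z.map Φ) := mul_mem (mul_mem (cs hw) (by
      rintro _ ⟨z, hz, rfl⟩
      rw [mul_inv_eq_iff_eq_mul.1 (h.act z), tz z hz])) (inv_mem (cs hw))
    exact ⟨h1, mem_Ns_line h1 ⟨_, ha, by rw [map_mul, map_inv, ← ind_tw h.act w a]⟩⟩
  have e3 : cjs g (zpowers (Φ x) ⊔ Z.map Φ) = zpowers (Φ u) ⊔ Z.map Φ := by
    rw [cjs, Subgroup.map_sup, MonoidHom.map_zpowers, eu]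
    exact congrArg _ (mem_normalizer_iff_map_conj_eq.1 (centralizer_le_normalizer _ hc))
  obtain ⟨m, hm, c, hc', rfl⟩ := fl (h.fxt w').2.1 (h.fxt w).2.1
    (is2_sq (h.fxt w').2.2) (is2_sq (h.fxt w).2.2) (h.fxt w).1 (k hw' w2).2 (e3 ▸ (k hw w1).2)
    (k hw' w2).1 (k hw w1).1 hc
  have h1 : zpowers (Φ x) ⊔ Z.map Φ ≤ Q.map Φ := sup_le (zpowers_le.2 ⟨x, hx, rfl⟩) (map_mono d.zq)
  simpa [mul_assoc] using (mem_normalizer_iff.1 (h.mz d hm.1 (centralizer_le_normalizer _ hm.2)) _).1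
    (h1 ((mem_normalizer_iff.1 hc'.1 _).1 (mem_sup_left (mem_zpowers _))))

end H45.YE
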